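import Mathlib

/-!
Regular normal subgroups of multiply primitive groups.
-/

namespace CfsgLib.Perm.RegularNormal

open MulAction
open scoped Pointwise

variable {G : Type*} [Group G] {α : Type*} [MulAction G α] [Finite α] (N : Subgroup G) [N.Normal]
  [IsPretransitive N α]

omit [N.Normal] in
theorem smul_injective (hreg : ∀ x : α, stabilizer N x = ⊥) (a : α) :
    Function.Injective (fun n : N => n • a) := by
  intro m n h
  simp only at h
  have : n⁻¹ * m ∈ stabilizer N a := by
    rw [mem_stabilizer_iff, mul_smul, h, inv_smul_smul]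
  rw [hreg, Subgroup.mem_bot, inv_mul_eq_one] at this
  exact this.symm

omit [N.Normal] in
theorem card_eq (hreg : ∀ x : α, stabilizer N x = ⊥) (a : α) : Nat.card N = Nat.card α := by
  rw [← index_stabilizer_of_transitive N a, hreg, Subgroup.index_bot]

/-- Conjugation by an element fixing the base point corresponds to its action on the points. -/
theorem conj_smul {g : G} {a : α} (hg : g • a = a) (n : N) :
    (⟨g * n * g⁻¹, Subgroup.Normal.conj_mem inferInstance _ n.2 g⟩ : N) • a = g • n • a := by
  show (g * n * g⁻¹) • a = g • (n : G) • a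
  rw [mul_smul, mul_smul, inv_smul_eq_iff.2 hg.symm]

/-- In a 2-transitive group with a regular normal subgroup any two non-identity elements of the
latter are conjugate under the point stabiliser. -/
theorem exists_conj (h2 : IsMultiplyPretransitive G α 2) (hreg : ∀ x : α, stabilizer N x = ⊥)
    (a : α) {m n : N} (hm : m ≠ 1) (hn : n ≠ 1) :
    ∃ g : G, g • a = a ∧ g * m * g⁻¹ = (n : G) := by
  have hne : ∀ k : N, k ≠ 1 → a ≠ k • a := by
    intro k hk h
    apply hk
    apply smul_injective N hreg a
    simp only [one_smul]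
    exact h.symm
  obtain ⟨g, hga, hgm⟩ := is_two_pretransitive_iff.1 h2 (hne m hm) (hne n hn)
  refine ⟨g, hga, congrArg Subtype.val (smul_injective N hreg a ?_ :
    (⟨g * m * g⁻¹, Subgroup.Normal.conj_mem inferInstance _ m.2 g⟩ : N) = n)⟩
  show _ • a = n • a
  rw [conj_smul N hga, hgm]

/-- A regular normal subgroup of a 2-transitive group is elementary abelian. -/
theorem elementary [Nontrivial α] (h2 : IsMultiplyPretransitive G α 2)
    (hreg : ∀ x : α, stabilizer N x = ⊥) :
    ∃ p j : ℕ, p.Prime ∧ 1 ≤ j ∧ Nat.card α = p ^ j ∧ (∀ m n : N, m * n = n * m) ∧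
      ∀ n : N, n ^ p = 1 := by
  let a : α := Classical.arbitrary α
  have hcard := card_eq N hreg a
  haveI : Finite N := Finite.of_injective _ (smul_injective N hreg a)
  have hn2 : 1 < Nat.card N := hcard ▸ Finite.one_lt_card
  haveI : Nontrivial N := Finite.one_lt_card_iff_nontrivial.1 hn2
  obtain ⟨p, hp, hpd⟩ := Nat.exists_prime_and_dvd (n := Nat.card N) hn2.ne'
  haveI := Fact.mk hp
  obtain ⟨x, hx⟩ := exists_prime_orderOf_dvd_card' p hpd
  have hx1 : x ≠ 1 := fun h => by rw [h, orderOf_one] at hx; exact hp.one_lt.ne hx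
  have hexp : ∀ n : N, n ^ p = 1 := by
    intro n
    by_cases hn : n = 1
    · rw [hn, one_pow]
    obtain ⟨g, -, hg⟩ := exists_conj N h2 hreg a hx1 hn
    apply Subtype.ext
    rw [SubgroupClass.coe_pow, ← hg, conj_pow, ← SubgroupClass.coe_pow, ← hx,
      pow_orderOf_eq_one, OneMemClass.coe_one, mul_one, mul_inv_cancel]
  have hpg : IsPGroup p N := fun n => ⟨1, by rw [pow_one]; exact hexp n⟩
  obtain ⟨j, hj⟩ := hpg.exists_card_eq
  haveI := hpg.center_nontrivial
  obtain ⟨z, hz⟩ := exists_ne (1 : Subgroup.center N)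
  have hz1 : (z : N) ≠ 1 := fun h => hz (Subtype.ext h)
  have hcenter : ∀ m n : N, m * n = n * m := by
    intro m n
    by_cases hm : m = 1
    · rw [hm, one_mul, mul_one]
    obtain ⟨g, -, hg⟩ := exists_conj N h2 hreg a hz1 hm
    let n' : N := ⟨g⁻¹ * n * g, by
      simpa using Subgroup.Normal.conj_mem (H := N) inferInstance _ n.2 g⁻¹⟩
    have hzn := Subgroup.mem_center_iff.1 z.2 n'
    have hzn' : g⁻¹ * n * g * ((z : N) : G) = ((z : N) : G) * (g⁻¹ * n * g) :=
      congrArg Subtype.val hzn
    apply Subtype.ext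
    show (m : G) * n = n * m
    rw [← hg]
    calc g * ((z : N) : G) * g⁻¹ * n = g * (((z : N) : G) * (g⁻¹ * n * g)) * g⁻¹ := by group
      _ = g * (g⁻¹ * n * g * ((z : N) : G)) * g⁻¹ := by rw [hzn']
      _ = (n : G) * (g * ((z : N) : G) * g⁻¹) := by group
  refine ⟨p, j, hp, ?_, by rw [← hcard, hj], hcenter, hexp⟩
  rcases Nat.eq_zero_or_pos j with rfl | h
  · rw [pow_zero] at hj; omega
  · exact h

/-- A doubly primitive group with a regular normal subgroup has degree 3, or the subgroup has
exponent 2. -/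
theorem of_two_preprimitive [Nontrivial α] (h2 : IsMultiplyPreprimitive G α 2)
    (hreg : ∀ x : α, stabilizer N x = ⊥) : Nat.card α = 3 ∨ ∀ n : N, n ^ 2 = 1 := by
  let a : α := Classical.arbitrary α
  rw [or_iff_not_imp_right]
  intro hne
  simp only [not_forall] at hne
  obtain ⟨x, hx2⟩ := hne
  have hxne : x • a ≠ x⁻¹ • a := fun h => hx2 (by
    rw [pow_two, ← eq_inv_iff_mul_eq_one]
    exact smul_injective N hreg a h)
  have hne' : ∀ y : N, y ≠ 1 → y • a ∉ ({a} : Set α) := by
    intro y hy h
    apply hy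
    apply smul_injective N hreg a
    simp only [one_smul]
    exact h
  have hx1 : x ≠ 1 := fun h => hx2 (by rw [h, one_pow])
  let B : Set (SubMulAction.ofFixingSubgroup G ({a} : Set α)) :=
    {z | (z : α) = x • a ∨ (z : α) = x⁻¹ • a}
  have hprim : IsPreprimitive (fixingSubgroup G ({a} : Set α))
      (SubMulAction.ofFixingSubgroup G ({a} : Set α)) :=
    IsMultiplyPreprimitive.isPreprimitive_ofFixingSubgroup G 2 (by
      rw [Set.encard_singleton]; rfl)
  have hB : IsBlock (fixingSubgroup G ({a} : Set α)) B := by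
    rw [isBlock_iff_smul_eq_of_mem]
    rintro ⟨g, hg⟩ z hz hgz
    have hga : g • a = a := (mem_fixingSubgroup_iff G).1 hg a rfl
    let y : N := ⟨g * x * g⁻¹, Subgroup.Normal.conj_mem inferInstance _ x.2 g⟩
    have h1 : g • x • a = y • a := (conj_smul N hga x).symm
    have h2' : g • x⁻¹ • a = y⁻¹ • a := by
      rw [← conj_smul N hga x⁻¹]
      congr 1
      apply Subtype.ext
      show g * ((x⁻¹ : N) : G) * g⁻¹ = (g * (x : G) * g⁻¹)⁻¹
      rw [Subgroup.coe_inv]; group
    have hz' : g • (z : α) = x • a ∨ g • (z : α) = x⁻¹ • a := hgz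
    have hyx : y = x ∨ y = x⁻¹ := by
      rcases hz with hz | hz <;> rcases hz' with hz' | hz'
      · exact Or.inl (smul_injective N hreg a (h1.symm.trans (hz ▸ hz')))
      · exact Or.inr (smul_injective N hreg a (h1.symm.trans (hz ▸ hz')))
      · exact Or.inr (inv_injective ((smul_injective N hreg a (h2'.symm.trans (hz ▸ hz'))).trans
          (inv_inv x).symm))
      · exact Or.inl (inv_injective (smul_injective N hreg a (h2'.symm.trans (hz ▸ hz'))))
    have himg : ∀ w : α, (w = x • a ∨ w = x⁻¹ • a) ↔ (g⁻¹ • w = x • a ∨ g⁻¹ • w = x⁻¹ • a) := by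
      intro w
      rw [inv_smul_eq_iff, inv_smul_eq_iff, h1, h2']
      rcases hyx with h | h <;> rw [h]
      rw [inv_inv, or_comm]
    ext w
    rw [Set.mem_smul_set_iff_inv_smul_mem]
    exact (himg (w : α)).symm
  rcases hprim.isTrivialBlock_of_isBlock hB with h | h
  · exfalso
    have e : (⟨x • a, hne' x hx1⟩ : SubMulAction.ofFixingSubgroup G ({a} : Set α)) =
        ⟨x⁻¹ • a, hne' x⁻¹ (inv_ne_one.2 hx1)⟩ := h (Or.inl rfl) (Or.inr rfl)
    exact hxne (congrArg Subtype.val e)
  · have huniv : (Set.univ : Set α) = {a, x • a, x⁻¹ • a} := by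
      refine Set.Subset.antisymm (fun w _ => ?_) (Set.subset_univ _)
      by_cases hw : w = a
      · exact Or.inl hw
      · have hm : (⟨w, hw⟩ : SubMulAction.ofFixingSubgroup G ({a} : Set α)) ∈ B := by
          rw [h]; trivial
        rcases hm with h' | h'
        · exact Or.inr (Or.inl h')
        · exact Or.inr (Or.inr h')
    rw [← Set.ncard_univ, huniv]
    refine Set.ncard_eq_three.2 ⟨_, _, _, ?_, ?_, hxne, rfl⟩
    · exact fun h' => hne' x hx1 h'.symm
    · exact fun h' => hne' x⁻¹ (inv_ne_one.2 hx1) h'.symm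

/-- A triply primitive group with a regular normal subgroup has degree 3 or 4. -/
theorem of_three_preprimitive (h3 : IsMultiplyPreprimitive G α 3) (hcard : 3 ≤ Nat.card α)
    (hreg : ∀ x : α, stabilizer N x = ⊥) : Nat.card α = 3 ∨ Nat.card α = 4 := by
  haveI : Nontrivial α := Finite.one_lt_card_iff_nontrivial.1 (by omega)
  have h2 : IsMultiplyPreprimitive G α 2 :=
    isMultiplyPreprimitive_of_le G α h3 (by omega) (by
      rw [ENat.card_eq_coe_natCard]; exact_mod_cast hcard)
  rcases of_two_preprimitive N h2 hreg with h | h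
  · exact Or.inl h
  rw [or_iff_not_imp_left]
  intro hne3
  have hcomm : ∀ m n : N, m * n = n * m := (elementary N h2.isMultiplyPretransitive hreg).choose_spec.choose_spec.2.2.2.1
  have hinv : ∀ n : N, n⁻¹ = n := fun n => inv_eq_of_mul_eq_one_left (by rw [← pow_two]; exact h n)
  let a : α := Classical.arbitrary α
  obtain ⟨b, hb⟩ := exists_ne a
  obtain ⟨x, hx⟩ := exists_smul_eq N a b
  have hx1 : x ≠ 1 := fun h' => hb (by rw [← hx, h', one_smul])
  obtain ⟨c, hc⟩ : ∃ c, c ∉ ({a, x • a} : Set α) := by
    by_contra hall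
    simp only [not_exists, not_not] at hall
    have h1 : (Set.univ : Set α).ncard ≤ ({a, x • a} : Set α).ncard :=
      Set.ncard_le_ncard (fun w _ => hall w) (Set.toFinite _)
    rw [Set.ncard_univ, Set.ncard_pair (by rw [hx]; exact hb.symm)] at h1
    omega
  simp only [Set.mem_insert_iff, Set.mem_singleton_iff, not_or] at hc
  obtain ⟨y, hy⟩ := exists_smul_eq N a c
  have hmem : ∀ z : N, z ≠ 1 → z ≠ x → z • a ∉ ({a, x • a} : Set α) := by
    intro z hz1 hzx h'
    rcases h' with h' | h'
    · exact hz1 (smul_injective N hreg a (by simpa using h'))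
    · exact hzx (smul_injective N hreg a h')
  have hy1 : y ≠ 1 := fun h' => hc.1 (by rw [← hy, h', one_smul])
  have hyx : y ≠ x := fun h' => hc.2 (by rw [← hy, h'])
  have hxy1 : x * y ≠ 1 := fun h' => hyx (by
    rw [mul_eq_one_iff_eq_inv, hinv] at h'; exact h'.symm)
  have hxyx : x * y ≠ x := fun h' => hy1 (mul_eq_left.1 h')
  let B : Set (SubMulAction.ofFixingSubgroup G ({a, x • a} : Set α)) :=
    {z | (z : α) = y • a ∨ (z : α) = (x * y) • a}
  have hprim : IsPreprimitive (fixingSubgroup G ({a, x • a} : Set α))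
      (SubMulAction.ofFixingSubgroup G ({a, x • a} : Set α)) :=
    IsMultiplyPreprimitive.isPreprimitive_ofFixingSubgroup G 3 (by
      rw [Set.encard_pair (by rw [hx]; exact hb.symm)]; rfl)
  have hB : IsBlock (fixingSubgroup G ({a, x • a} : Set α)) B := by
    rw [isBlock_iff_smul_eq_of_mem]
    rintro ⟨g, hg⟩ z hz hgz
    have hga : g • a = a := (mem_fixingSubgroup_iff G).1 hg a (Or.inl rfl)
    have hgx : g • x • a = x • a := (mem_fixingSubgroup_iff G).1 hg _ (Or.inr rfl)
    let c' : N → N := fun m => ⟨g * m * g⁻¹, Subgroup.Normal.conj_mem inferInstance _ m.2 g⟩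
    have hc' : ∀ m : N, g • m • a = c' m • a := fun m => (conj_smul N hga m).symm
    have hcx : c' x = x := smul_injective N hreg a ((hc' x).symm.trans hgx)
    have hcmul : c' (x * y) = x * c' y := by
      conv_rhs => rw [← hcx]
      apply Subtype.ext
      show g * (((x * y : N)) : G) * g⁻¹ = g * (x : G) * g⁻¹ * (g * (y : G) * g⁻¹)
      rw [Subgroup.coe_mul]; group
    have hxx : x * x = 1 := by rw [← pow_two]; exact h x
    have hz' : g • (z : α) = y • a ∨ g • (z : α) = (x * y) • a := hgz
    have hyy : c' y = y ∨ c' y = x * y := by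
      rcases hz with hz | hz <;> rcases hz' with hz' | hz'
      · exact Or.inl (smul_injective N hreg a ((hc' y).symm.trans (hz ▸ hz')))
      · exact Or.inr (smul_injective N hreg a ((hc' y).symm.trans (hz ▸ hz')))
      · have e := smul_injective N hreg a ((hc' (x * y)).symm.trans (hz ▸ hz'))
        rw [hcmul] at e
        refine Or.inr ?_
        calc c' y = x * (x * c' y) := by rw [← mul_assoc, hxx, one_mul]
          _ = x * y := by rw [e]
      · have e := smul_injective N hreg a ((hc' (x * y)).symm.trans (hz ▸ hz'))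
        rw [hcmul] at e
        exact Or.inl (mul_left_cancel e)
    ext w
    rw [Set.mem_smul_set_iff_inv_smul_mem]
    show (g⁻¹ • (w : α) = y • a ∨ g⁻¹ • (w : α) = (x * y) • a) ↔
      ((w : α) = y • a ∨ (w : α) = (x * y) • a)
    rw [inv_smul_eq_iff, inv_smul_eq_iff, hc', hc', hcmul]
    rcases hyy with h' | h' <;> rw [h']
    rw [← mul_assoc x x y, hxx, one_mul, or_comm]
  rcases hprim.isTrivialBlock_of_isBlock hB with h' | h'
  · exfalso
    have e : (⟨y • a, hmem y hy1 hyx⟩ : SubMulAction.ofFixingSubgroup G ({a, x • a} : Set α)) =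
        ⟨(x * y) • a, hmem _ hxy1 hxyx⟩ := h' (Or.inl rfl) (Or.inr rfl)
    have e2 := smul_injective N hreg a (congrArg Subtype.val e)
    exact hx1 (mul_eq_right.1 e2.symm)
  · have huniv : (Set.univ : Set α) = {a, x • a} ∪ {y • a, (x * y) • a} := by
      refine Set.Subset.antisymm (fun w _ => ?_) (Set.subset_univ _)
      by_cases hw : w ∈ ({a, x • a} : Set α)
      · exact Or.inl hw
      · have hm : (⟨w, hw⟩ : SubMulAction.ofFixingSubgroup G ({a, x • a} : Set α)) ∈ B := by
          rw [h']; trivial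
        exact Or.inr hm
    have h4 : Nat.card α ≤ 4 := by
      rw [← Set.ncard_univ, huniv]
      refine le_trans (Set.ncard_union_le _ _) ?_
      have := Set.ncard_insert_le a ({x • a} : Set α)
      have := Set.ncard_insert_le (y • a) ({(x * y) • a} : Set α)
      simp only [Set.ncard_singleton] at *
      omega
    omega

end CfsgLib.Perm.RegularNormal
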