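import Mathlib
import Cfsg.Prelude.Def_LieExceptional

/-!
Elementary facts about Zassenhaus groups.
-/

namespace CfsgLib.Perm.Zassenhaus

open MulAction

variable {G Ω : Type*} [Group G] [MulAction G Ω]

theorem eq_one_of_three (hZ : Cfsg.IsZassenhausGroup G Ω) {g : G} {a b c : Ω} (hab : a ≠ b)
    (hbc : b ≠ c) (hac : a ≠ c) (ha : g • a = a) (hb : g • b = b) (hc : g • c = c) : g = 1 :=
  hZ.2.2.1 g a b c hab hbc hac ha hb hc

variable [Fintype Ω]

theorem card_ge_three (hZ : Cfsg.IsZassenhausGroup G Ω) : 3 ≤ Fintype.card Ω := by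
  classical
  obtain ⟨g, hg, a, b, hab, ha, hb⟩ := hZ.2.2.2.1
  haveI := hZ.1
  obtain ⟨c, hc⟩ : ∃ c : Ω, g • c ≠ c := by
    by_contra h
    simp only [not_exists, not_not] at h
    exact hg (eq_of_smul_eq_smul (α := Ω) fun x => by rw [h x, one_smul])
  have h3 : ({a, b, c} : Finset Ω).card = 3 := Finset.card_eq_three.2
    ⟨a, b, c, hab, fun h => hc (h ▸ ha), fun h => hc (h ▸ hb), rfl⟩
  rw [← h3]
  exact Finset.card_le_univ _

variable [Finite G]

omit [Fintype Ω] in
theorem exists_invol_swap (hZ : Cfsg.IsZassenhausGroup G Ω) {a b : Ω} (hab : a ≠ b) :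
    ∃ s : G, orderOf s = 2 ∧ s • a = b ∧ s • b = a := by
  haveI := hZ.1
  obtain ⟨x, hxa, hxb⟩ := is_two_pretransitive_iff.1 hZ.2.1 hab hab.symm
  haveI := Fact.mk Nat.prime_two
  have heven : 2 ∣ Nat.card G := by
    have h1 : ∀ n : ℕ, x ^ n • a = a ∨ x ^ n • a = b := by
      intro n
      induction n with
      | zero => left; rw [pow_zero, one_smul]
      | succ n ih =>
        rw [pow_succ', mul_smul]
        rcases ih with h | h <;> rw [h]
        · exact Or.inr hxa
        · exact Or.inl hxb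
    have h2 : ∀ n : ℕ, Odd n → x ^ n • a = b := by
      rintro n ⟨m, rfl⟩
      induction m with
      | zero => simpa using hxa
      | succ m ih =>
        rw [show 2 * (m + 1) + 1 = (2 * m + 1) + 1 + 1 by ring, pow_succ', pow_succ', mul_smul,
          mul_smul, ih, hxb, hxa]
    by_contra h
    have hodd : Odd (Nat.card G) := Nat.odd_iff.2 (by omega)
    have := h2 _ hodd
    rw [pow_card_eq_one', one_smul] at this
    exact hab this
  obtain ⟨t, ht⟩ := exists_prime_orderOf_dvd_card' 2 heven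
  obtain ⟨u, hu⟩ : ∃ u : Ω, t • u ≠ u := by
    by_contra h
    simp only [not_exists, not_not] at h
    have : t = 1 := eq_of_smul_eq_smul (α := Ω) fun x => by rw [h x, one_smul]
    rw [this, orderOf_one] at ht
    omega
  obtain ⟨g, hgu, hgv⟩ := is_two_pretransitive_iff.1 hZ.2.1 (Ne.symm hu) hab
  have ht2 : t * t = 1 := by rw [← pow_two, ← ht, pow_orderOf_eq_one]
  refine ⟨g * t * g⁻¹, ?_, ?_, ?_⟩
  · rw [← MulAut.conj_apply]
    exact (MulEquiv.orderOf_eq (MulAut.conj g) t).trans ht
  · rw [mul_smul, mul_smul, ← hgu, inv_smul_smul, hgv]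
  · rw [mul_smul, mul_smul, ← hgv, inv_smul_smul, smul_smul t t, ht2, one_smul, hgu]

omit [Finite G] in
theorem fixedBy_le_two (hZ : Cfsg.IsZassenhausGroup G Ω) {g : G} (hg : g ≠ 1) :
    Nat.card (fixedBy Ω g) ≤ 2 := by
  classical
  by_contra h
  rw [Nat.card_coe_set_eq, Set.ncard_eq_toFinset_card'] at h
  obtain ⟨a, b, c, ha, hb, hc, hab, hac, hbc⟩ := Finset.two_lt_card_iff.1 (not_le.1 h)
  simp only [Set.mem_toFinset, mem_fixedBy] at ha hb hc
  exact hg (eq_one_of_three hZ hab hbc hac ha hb hc)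

omit [Finite G] in
/-- The number of fixed points of an involution has the parity of the degree. -/
theorem fixedBy_parity {s : G} (hs : s * s = 1) :
    Nat.card (fixedBy Ω s) % 2 = Fintype.card Ω % 2 := by
  classical
  haveI := Fact.mk Nat.prime_two
  have h2 : MulAction.toPerm (β := Ω) s ^ 2 ^ 1 = 1 := by
    rw [pow_one, pow_two]
    ext x
    simp [smul_smul, hs]
  have h := Equiv.Perm.card_compl_support_modEq (p := 2) (n := 1) h2
  have hc : ((MulAction.toPerm (β := Ω) s).support)ᶜ.card = Nat.card (fixedBy Ω s) := by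
    rw [Nat.card_coe_set_eq, Set.ncard_eq_toFinset_card']
    congr 1
    ext x
    simp [mem_fixedBy]
  rw [hc] at h
  exact h

end CfsgLib.Perm.Zassenhaus
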