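import Mathlib

/-!
Finite sharply 2-transitive groups: the fixed-point-free elements together with the identity
form a regular, normal, elementary abelian subgroup.
-/

namespace CfsgLib.Perm.SharplyTwo

open MulAction

variable {G : Type*} [Group G] {α : Type*} [MulAction G α]

theorem sharp_of_stabilizer (h : ∀ x : Fin 2 ↪ α, stabilizer G x = ⊥) {g : G} {a b : α}
    (hab : a ≠ b) (ha : g • a = a) (hb : g • b = b) : g = 1 := by
  have : g ∈ stabilizer G (Function.Embedding.embFinTwo hab) := by
    rw [mem_stabilizer_iff]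
    ext i
    fin_cases i
    · simpa [Function.Embedding.embFinTwo_apply_zero] using ha
    · simpa [Function.Embedding.embFinTwo_apply_one] using hb
  rwa [h, Subgroup.mem_bot] at this

section Finite

variable [Finite α] [Nontrivial α] (h2 : IsMultiplyPretransitive G α 2)
  (hs : ∀ (g : G) (a b : α), a ≠ b → g • a = a → g • b = b → g = 1)

include h2 hs

theorem finite_group : Finite G := by
  obtain ⟨a, b, hab⟩ := exists_pair_ne α
  refine Finite.of_injective (fun g : G => (g • a, g • b)) fun g h he => ?_
  simp only [Prod.mk.injEq] at he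
  have := hs (h⁻¹ * g) a b hab (by rw [mul_smul, he.1, inv_smul_smul])
    (by rw [mul_smul, he.2, inv_smul_smul])
  rw [inv_mul_eq_one] at this
  exact this.symm

theorem card_stabilizer_add_one (a : α) : Nat.card (stabilizer G a) + 1 = Nat.card α := by
  classical
  haveI := Fintype.ofFinite α
  obtain ⟨b, hb⟩ := exists_ne a
  have hbij : Function.Bijective (fun g : stabilizer G a => (⟨(g : G) • b, fun h => hb (by
      have hh : (g : G) • b = (g : G) • a := h.trans g.2.symm
      exact MulAction.injective (g : G) hh)⟩ : {x : α // x ≠ a})) := by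
    constructor
    · rintro ⟨g, hg⟩ ⟨k, hk⟩ he
      have he' : g • b = k • b := congrArg Subtype.val he
      have hka : k⁻¹ • a = a := by rw [inv_smul_eq_iff]; exact (mem_stabilizer_iff.1 hk).symm
      have := hs (k⁻¹ * g) a b hb.symm (by rw [mul_smul, mem_stabilizer_iff.1 hg, hka])
        (by rw [mul_smul, he', inv_smul_smul])
      rw [inv_mul_eq_one] at this
      exact Subtype.ext this.symm
    · rintro ⟨x, hx⟩
      obtain ⟨g, hga, hgb⟩ := is_two_pretransitive_iff.1 h2 hb.symm (Ne.symm hx)
      exact ⟨⟨g, hga⟩, Subtype.ext hgb⟩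
  rw [Nat.card_congr (Equiv.ofBijective _ hbij), Nat.card_eq_fintype_card,
    Nat.card_eq_fintype_card, Fintype.card_subtype_compl, Fintype.card_subtype_eq]
  have : 0 < Fintype.card α := Fintype.card_pos
  omega

theorem card_group (a : α) : Nat.card G = Nat.card α * (Nat.card α - 1) := by
  haveI := h2
  haveI : IsPretransitive G α := isPretransitive_of_is_two_pretransitive
  rw [← Subgroup.index_mul_card (stabilizer G a), index_stabilizer_of_transitive,
    ← card_stabilizer_add_one h2 hs a, Nat.add_sub_cancel]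

/-- The number of fixed-point-free elements is one less than the degree. -/
theorem card_fpf_add_one : Nat.card {g : G // ∀ a : α, g • a ≠ a} + 1 = Nat.card α := by
  classical
  haveI := finite_group h2 hs
  haveI := Fintype.ofFinite α
  haveI := Fintype.ofFinite G
  let a₀ : α := Classical.arbitrary α
  let A : α → Finset G := fun a => {g | g • a = a ∧ g ≠ 1}
  have hA : ∀ a, (A a).card + 2 = Fintype.card α := by
    intro a
    have h1 : (A a) = ({g | g • a = a} : Finset G).erase 1 := by
      ext g
      simp [A, and_comm]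
    have h3 : ({g | g • a = a} : Finset G).card + 1 = Fintype.card α := by
      rw [← Nat.card_eq_fintype_card, ← card_stabilizer_add_one h2 hs a,
        Nat.card_eq_fintype_card, ← Fintype.card_subtype]
      rfl
    have hmem : (1 : G) ∈ ({g | g • a = a} : Finset G) := by simp
    rw [h1, Finset.card_erase_of_mem hmem]
    have : 0 < ({g | g • a = a} : Finset G).card := Finset.card_pos.2 ⟨1, hmem⟩
    omega
  have hdisj : ((Finset.univ : Finset α) : Set α).PairwiseDisjoint A := by
    intro a _ b _ hab
    rw [Function.onFun, Finset.disjoint_left]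
    intro g hg hg'
    simp only [A, Finset.mem_filter, Finset.mem_univ, true_and] at hg hg'
    exact hg.2 (hs g a b hab hg.1 hg'.1)
  have hunion : (Finset.univ.biUnion A) = ({g | ¬ ∀ a : α, g • a ≠ a} : Finset G).erase 1 := by
    ext g
    simp [A, and_comm]
  have h1 : (1 : G) ∈ ({g | ¬ ∀ a : α, g • a ≠ a} : Finset G) := by simp
  have hsum : (Finset.univ.biUnion A).card = ∑ a : α, (A a).card := Finset.card_biUnion hdisj
  have hA' : ∀ a, (A a).card = Fintype.card α - 2 := fun a => by have := hA a; omega
  rw [Finset.sum_congr rfl (fun a _ => hA' a), Finset.sum_const, Finset.card_univ, smul_eq_mul,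
    hunion, Finset.card_erase_of_mem h1] at hsum
  have hpos : 0 < ({g | ¬ ∀ a : α, g • a ≠ a} : Finset G).card := Finset.card_pos.2 ⟨1, h1⟩
  have htot := Finset.card_filter_add_card_filter_not (s := (Finset.univ : Finset G))
    (p := fun g : G => ∀ a : α, g • a ≠ a)
  rw [Finset.card_univ] at htot
  have hG := card_group h2 hs a₀
  rw [Nat.card_eq_fintype_card, Nat.card_eq_fintype_card] at hG
  rw [Nat.card_eq_fintype_card, Nat.card_eq_fintype_card, Fintype.card_subtype]
  have hn : 1 < Fintype.card α := Fintype.one_lt_card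
  obtain ⟨m, hm⟩ : ∃ m, Fintype.card α = m + 2 := ⟨Fintype.card α - 2, by omega⟩
  rw [hm] at hsum hG ⊢
  simp only [Nat.add_sub_cancel, show m + 2 - 1 = m + 1 from rfl] at hsum hG
  nlinarith [Nat.sub_add_cancel (Nat.one_le_iff_ne_zero.2 hpos.ne')]

theorem centralizer_subset {x g : G} (hx : ∀ a : α, x • a ≠ a) (hg : g * x = x * g) :
    g = 1 ∨ ∀ a : α, g • a ≠ a := by
  by_contra h
  rw [not_or, not_forall] at h
  obtain ⟨h1, a, ha⟩ := h
  rw [not_not] at ha
  exact h1 (hs g (x • a) a (hx a) (by rw [smul_smul, hg, mul_smul, ha]) ha)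

/-- The centraliser of a fixed-point-free element has order the degree. -/
theorem card_centralizer {x : G} (hx : ∀ a : α, x • a ≠ a) :
    Nat.card (Subgroup.centralizer ({x} : Set G)) = Nat.card α ∧
      ∀ y : G, (∀ a : α, y • a ≠ a) → IsConj x y := by
  classical
  haveI := finite_group h2 hs
  let a₀ : α := Classical.arbitrary α
  have hle : Nat.card (Subgroup.centralizer ({x} : Set G)) ≤ Nat.card α := by
    refine Nat.card_le_card_of_injective (fun g => (g : G) • a₀) ?_
    intro g k he
    simp only at he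
    have hgk : ((k⁻¹ * g : Subgroup.centralizer ({x} : Set G)) : G) * x =
        x * ((k⁻¹ * g : Subgroup.centralizer ({x} : Set G)) : G) :=
      Subgroup.mem_centralizer_singleton_iff.1 (k⁻¹ * g).2
    rcases centralizer_subset h2 hs hx hgk with h | h
    · rw [Subgroup.coe_mul, Subgroup.coe_inv, inv_mul_eq_one] at h
      exact Subtype.ext h.symm
    · refine absurd ?_ (h a₀)
      rw [Subgroup.coe_mul, Subgroup.coe_inv, mul_smul, he, inv_smul_smul]
  let F : Set G := {g | ∀ a : α, g • a ≠ a}
  have hF : Nat.card F + 1 = Nat.card α := card_fpf_add_one h2 hs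
  let C : Set G := orbit (ConjAct G) x
  have hsub : C ⊆ F := by
    rintro _ ⟨c, rfl⟩ a ha
    simp only at ha
    rw [ConjAct.smul_def, mul_smul, mul_smul] at ha
    exact hx ((ConjAct.ofConjAct c)⁻¹ • a) (eq_inv_smul_iff.2 ha)
  have hidx : Nat.card (Subgroup.centralizer ({x} : Set G)) * Nat.card C = Nat.card G := by
    have e : Subgroup.centralizer ({x} : Set G)
        = (stabilizer (ConjAct G) x).comap ConjAct.toConjAct.toMonoidHom :=
      Subgroup.centralizer_eq_comap_stabilizer x
    rw [← Subgroup.card_mul_index (Subgroup.centralizer ({x} : Set G)), Nat.card_coe_set_eq]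
    congr 1
    rw [← index_stabilizer, e]
    exact (Subgroup.index_comap_of_surjective (G' := G) (stabilizer (ConjAct G) x)
      (f := ConjAct.toConjAct.toMonoidHom) ConjAct.toConjAct.surjective).symm
  have hCF : Nat.card C ≤ Nat.card F := by
    rw [Nat.card_coe_set_eq, Nat.card_coe_set_eq]
    exact Set.ncard_le_ncard hsub (Set.toFinite _)
  have hG := card_group h2 hs a₀
  rw [← hidx, ← hF, Nat.add_sub_cancel] at hG
  rw [← hF] at hle
  have hCpos : 0 < Nat.card C := @Nat.card_pos _ ⟨⟨x, mem_orbit_self x⟩⟩ _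
  have hCc : Nat.card C = Nat.card F := by nlinarith
  refine ⟨?_, fun y hy => ?_⟩
  · rw [hCc] at hG
    rw [← hF]
    exact Nat.eq_of_mul_eq_mul_right (hCc ▸ hCpos) hG
  · have : y ∈ C := by
      rw [Nat.card_coe_set_eq, Nat.card_coe_set_eq] at hCc
      rw [Set.eq_of_subset_of_ncard_le hsub hCc.ge (Set.toFinite _)]
      exact hy
    obtain ⟨c, rfl⟩ := this
    exact isConj_iff.2 ⟨ConjAct.ofConjAct c, rfl⟩

/-- Every fixed-point-free element commutes with every other. -/
theorem commute_fpf {x y : G} (hx : ∀ a : α, x • a ≠ a) (hy : ∀ a : α, y • a ≠ a) :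
    x * y = y * x := by
  haveI := finite_group h2 hs
  have hC := (card_centralizer h2 hs hx).1
  have hF := card_fpf_add_one h2 hs
  let Kset : Set G := insert (1 : G) {g : G | ∀ a : α, g • a ≠ a}
  have hsub : (Subgroup.centralizer ({x} : Set G) : Set G) ⊆ Kset := fun g hg =>
    centralizer_subset h2 hs hx (Subgroup.mem_centralizer_singleton_iff.1 hg)
  have hK : Kset.ncard = Nat.card α := by
    rw [Set.ncard_insert_of_notMem (by
      intro h; exact h (Classical.arbitrary α) (one_smul _ _)) (Set.toFinite _),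
      ← Nat.card_coe_set_eq]
    exact hF
  have heq : (Subgroup.centralizer ({x} : Set G) : Set G) = Kset :=
    Set.eq_of_subset_of_ncard_le hsub (by
      rw [hK, ← hC, ← Nat.card_coe_set_eq]
      exact le_rfl) (Set.toFinite _)
  have : y ∈ (Subgroup.centralizer ({x} : Set G) : Set G) := heq ▸ Or.inr hy
  exact (Subgroup.mem_centralizer_singleton_iff.1 this).symm

/-- The identity and the fixed-point-free elements. -/
def kernel : Subgroup G where
  carrier := {g | g = 1 ∨ ∀ a : α, g • a ≠ a}
  one_mem' := Or.inl rfl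
  mul_mem' := by
    intro x y hx hy
    rcases hx with rfl | hx
    · simpa using hy
    rcases hy with rfl | hy
    · simpa using Or.inr hx
    exact centralizer_subset h2 hs hx (by rw [mul_assoc, ← commute_fpf h2 hs hx hy])
  inv_mem' := by
    intro x hx
    rcases hx with rfl | hx
    · exact Or.inl inv_one
    exact Or.inr fun a ha => hx a (inv_smul_eq_iff.1 ha).symm

theorem mem_kernel {g : G} : g ∈ kernel h2 hs ↔ g = 1 ∨ ∀ a : α, g • a ≠ a := Iff.rfl

theorem kernel_normal : (kernel h2 hs).Normal := by
  refine ⟨fun x hx c => ?_⟩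
  rcases hx with rfl | hx
  · exact Or.inl (by group)
  refine Or.inr fun a ha => hx (c⁻¹ • a) ?_
  rw [mul_smul, mul_smul] at ha
  exact eq_inv_smul_iff.2 ha

theorem kernel_comm {x y : G} (hx : x ∈ kernel h2 hs) (hy : y ∈ kernel h2 hs) :
    x * y = y * x := by
  rcases hx with rfl | hx
  · simp
  rcases hy with rfl | hy
  · simp
  exact commute_fpf h2 hs hx hy

theorem card_kernel : Nat.card (kernel h2 hs) = Nat.card α := by
  haveI := finite_group h2 hs
  have h : Nat.card (kernel h2 hs) = Nat.card {g : G // ∀ a : α, g • a ≠ a} + 1 := by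
    show Nat.card ↥(insert (1 : G) {g : G | ∀ a : α, g • a ≠ a}) = _
    rw [Nat.card_coe_set_eq, Set.ncard_insert_of_notMem (by
      intro h; exact h (Classical.arbitrary α) (one_smul _ _)) (Set.toFinite _),
      ← Nat.card_coe_set_eq]
    rfl
  rw [h, card_fpf_add_one h2 hs]

theorem kernel_free {k : G} (hk : k ∈ kernel h2 hs) {a : α} (ha : k • a = a) : k = 1 :=
  hk.resolve_right (fun h => h a ha)

theorem kernel_bijective (a : α) : Function.Bijective (fun k : kernel h2 hs => (k : G) • a) := by
  haveI := finite_group h2 hs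
  haveI := Fintype.ofFinite α
  haveI := Fintype.ofFinite (kernel h2 hs)
  rw [Fintype.bijective_iff_injective_and_card, ← Nat.card_eq_fintype_card,
    ← Nat.card_eq_fintype_card]
  refine ⟨fun k l he => ?_, card_kernel h2 hs⟩
  have := kernel_free h2 hs (l⁻¹ * k).2 (a := a) (by
    simp only at he
    rw [Subgroup.coe_mul, Subgroup.coe_inv, mul_smul, he, inv_smul_smul])
  rw [Subgroup.coe_mul, Subgroup.coe_inv, inv_mul_eq_one] at this
  exact Subtype.ext this.symm

theorem kernel_transitive : IsPretransitive (kernel h2 hs) α :=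
  ⟨fun a b => (kernel_bijective h2 hs a).2 b⟩

/-- The kernel is elementary abelian; the degree is a prime power. -/
theorem exists_prime_pow : ∃ p j : ℕ, p.Prime ∧ 1 ≤ j ∧ Nat.card α = p ^ j ∧
    ∀ x ∈ kernel h2 hs, x ^ p = 1 := by
  haveI := finite_group h2 hs
  have hn : 1 < Nat.card α := Finite.one_lt_card
  obtain ⟨p, hp, hpd⟩ := Nat.exists_prime_and_dvd (n := Nat.card (kernel h2 hs))
    (by rw [card_kernel h2 hs]; omega)
  haveI := Fact.mk hp
  obtain ⟨⟨x, hx⟩, hxo⟩ := exists_prime_orderOf_dvd_card' p hpd
  rw [Subgroup.orderOf_mk] at hxo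
  have hx' : ∀ a : α, x • a ≠ a := hx.resolve_left (fun h => by
    rw [h, orderOf_one] at hxo
    exact hp.one_lt.ne hxo)
  have hexp : ∀ y ∈ kernel h2 hs, y ^ p = 1 := by
    intro y hy
    rcases hy with rfl | hy
    · exact one_pow _
    obtain ⟨c, rfl⟩ := isConj_iff.1 ((card_centralizer h2 hs hx').2 y hy)
    rw [conj_pow, ← hxo, pow_orderOf_eq_one, mul_one, mul_inv_cancel]
  have hpg : IsPGroup p (kernel h2 hs) := fun y => ⟨1, by
    rw [pow_one]
    exact Subtype.ext (by rw [SubgroupClass.coe_pow, hexp y y.2, OneMemClass.coe_one])⟩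
  obtain ⟨j, hj⟩ := hpg.exists_card_eq
  rw [card_kernel h2 hs] at hj
  refine ⟨p, j, hp, ?_, hj, hexp⟩
  rcases Nat.eq_zero_or_pos j with rfl | h
  · simp at hj; omega
  · exact h

end Finite

end CfsgLib.Perm.SharplyTwo
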