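import Mathlib
import Cfsg.Agent.Perm.SharplyTwo

/-!
Finite sharply 3-transitive groups: swaps, inverting involutions, the regular abelian normal
subgroup of a point stabiliser.
-/

namespace CfsgLib.Perm.SharplyThree

open MulAction

variable {G : Type*} [Group G] {α : Type*} [MulAction G α]

theorem sharp_of_stabilizer (h : ∀ x : Fin 3 ↪ α, stabilizer G x = ⊥) {g : G} {a b c : α}
    (hab : a ≠ b) (hac : a ≠ c) (hbc : b ≠ c) (ha : g • a = a) (hb : g • b = b)
    (hc : g • c = c) : g = 1 := by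
  let x : Fin 3 ↪ α := ⟨![a, b, c], by
    intro i j hij
    fin_cases i <;> fin_cases j <;> simp_all⟩
  have : g ∈ stabilizer G x := by
    rw [mem_stabilizer_iff]
    ext i
    show g • x i = x i
    fin_cases i <;> simpa [x]
  rwa [h, Subgroup.mem_bot] at this

theorem exists_triple (h3 : IsMultiplyPretransitive G α 3) {a b c a' b' c' : α}
    (hab : a ≠ b) (hac : a ≠ c) (hbc : b ≠ c) (hab' : a' ≠ b') (hac' : a' ≠ c') (hbc' : b' ≠ c') :
    ∃ g : G, g • a = a' ∧ g • b = b' ∧ g • c = c' := by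
  let x : Fin 3 ↪ α := ⟨![a, b, c], by intro i j hij; fin_cases i <;> fin_cases j <;> simp_all⟩
  let y : Fin 3 ↪ α := ⟨![a', b', c'], by intro i j hij; fin_cases i <;> fin_cases j <;> simp_all⟩
  haveI := h3
  obtain ⟨g, hg⟩ := exists_smul_eq G x y
  exact ⟨g, congrArg (fun e : Fin 3 ↪ α => e 0) hg, congrArg (fun e : Fin 3 ↪ α => e 1) hg,
    congrArg (fun e : Fin 3 ↪ α => e 2) hg⟩

variable (h3 : IsMultiplyPretransitive G α 3)
  (hs : ∀ (g : G) (a b c : α), a ≠ b → a ≠ c → b ≠ c → g • a = a → g • b = b → g • c = c → g = 1)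

include h3 hs

/-- The involution swapping two points and fixing a third. -/
theorem exists_swap {a b c : α} (hab : a ≠ b) (hac : a ≠ c) (hbc : b ≠ c) :
    ∃ s : G, s • a = b ∧ s • b = a ∧ s • c = c ∧ s * s = 1 := by
  obtain ⟨s, h1, h2, hc⟩ := exists_triple h3 hab hac hbc hab.symm hbc hac
  refine ⟨s, h1, h2, hc, hs _ a b c hab hac hbc ?_ ?_ ?_⟩ <;> simp [mul_smul, *]

/-- The involution swapping two fixed points of an element `x` of order three and fixing `c`
inverts `x`. -/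
theorem swap_inverts {a b c : α} (hab : a ≠ b) (hac : a ≠ c) (hbc : b ≠ c) {x : G}
    (hxa : x • a = a) (hxb : x • b = b) (hx3 : orderOf x = 3) {s : G} (hsa : s • a = b)
    (hsb : s • b = a) (hsc : s • c = c) : s * x * s⁻¹ = x⁻¹ := by
  have hxxx : x * x * x = 1 := by
    rw [← pow_three', ← hx3, pow_orderOf_eq_one]
  have hx1 : x ≠ 1 := fun h => by rw [h, orderOf_one] at hx3; omega
  have h1 : x • c ≠ c := fun h => hx1 (hs x a b c hab hac hbc hxa hxb h)
  have h3' : x • x • x • c = c := by rw [smul_smul, smul_smul, hxxx, one_smul]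
  have h2 : x • x • c ≠ c := fun h => h1 (by rw [h] at h3'; exact h3')
  obtain ⟨r, e0, e1, e2⟩ := exists_triple h3 (Ne.symm h1) (Ne.symm h2)
    (fun h => h1 (MulAction.injective x h).symm) (Ne.symm h2) (Ne.symm h1)
    (fun h => h1 (MulAction.injective x h))
  have hr : r * r = 1 := by
    refine hs _ c (x • c) (x • x • c) (Ne.symm h1) (Ne.symm h2)
      (fun h => h1 (MulAction.injective x h).symm) ?_ ?_ ?_ <;> simp [mul_smul, e0, e1, e2]
  have hrx : r * x * r = x⁻¹ := by
    rw [← mul_eq_one_iff_eq_inv]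
    refine hs _ c (x • c) (x • x • c) (Ne.symm h1) (Ne.symm h2)
      (fun h => h1 (MulAction.injective x h).symm) ?_ ?_ ?_ <;>
      simp [mul_smul, e0, e1, e2, h3']
  have hfix : ∀ y : α, x • y = y → x • r • y = r • y := by
    intro y hy
    have e : x * r = r * x⁻¹ := by
      rw [← hrx, ← mul_assoc, ← mul_assoc, hr, one_mul]
    rw [smul_smul, e, mul_smul]
    congr 1
    rw [inv_smul_eq_iff, hy]
  have hmem : ∀ y : α, x • y = y → y = a ∨ y = b := by
    intro y hy
    by_contra h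
    rw [not_or] at h
    exact hx1 (hs x a b y hab (Ne.symm h.1) (Ne.symm h.2) hxa hxb hy)
  have hinj : r • a ≠ r • b := fun h => hab (MulAction.injective r h)
  have hrab : r • a = b ∧ r • b = a := by
    rcases hmem _ (hfix a hxa) with h | h <;> rcases hmem _ (hfix b hxb) with h' | h'
    · exact absurd (h.trans h'.symm) hinj
    · exfalso
      have hr1 : r = 1 := hs r a b c hab hac hbc h h' e0
      rw [hr1, one_smul] at e1
      exact h1 (MulAction.injective x e1.symm)
    · exact ⟨h, h'⟩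
    · exact absurd (h.trans h'.symm) hinj
  have hsr : r = s := by
    rw [← inv_mul_eq_one (a := r) (b := s)]
    have hr' : r⁻¹ = r := inv_eq_of_mul_eq_one_right hr
    rw [hr']
    exact hs _ a b c hab hac hbc (by rw [mul_smul, hsa, hrab.2])
      (by rw [mul_smul, hsb, hrab.1]) (by rw [mul_smul, hsc, e0])
  subst hsr
  rw [inv_eq_of_mul_eq_one_right hr, hrx]

variable [Finite α]

/-- The point stabiliser is sharply 2-transitive on the other points. -/
theorem stabilizer_sharply_two (a : α) (hn : 3 ≤ Nat.card α) :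
    Nontrivial (SubMulAction.ofStabilizer G a) ∧
    IsMultiplyPretransitive (stabilizer G a) (SubMulAction.ofStabilizer G a) 2 ∧
    ∀ (g : stabilizer G a) (x y : SubMulAction.ofStabilizer G a), x ≠ y → g • x = x →
      g • y = y → g = 1 := by
  classical
  haveI := Fintype.ofFinite α
  rw [Nat.card_eq_fintype_card] at hn
  refine ⟨?_, ?_, ?_⟩
  · obtain ⟨u, hu⟩ := Fintype.exists_ne_of_one_lt_card (show 1 < Fintype.card α by omega) a
    obtain ⟨v, hv⟩ := (({a, u} : Finset α)ᶜ).card_pos.1 (by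
      rw [Finset.card_compl]
      have := Finset.card_le_two (a := a) (b := u)
      omega)
    simp only [Finset.mem_compl, Finset.mem_insert, Finset.mem_singleton, not_or] at hv
    exact ⟨⟨⟨u, hu⟩, ⟨v, hv.1⟩, fun h => hv.2 (congrArg Subtype.val h).symm⟩⟩
  · rw [is_two_pretransitive_iff]
    rintro ⟨x, hx⟩ ⟨y, hy⟩ ⟨x', hx'⟩ ⟨y', hy'⟩ hxy hxy'
    obtain ⟨g, g1, g2, g3⟩ := exists_triple h3 (Ne.symm hx) (Ne.symm hy)
      (fun h => hxy (Subtype.ext h)) (Ne.symm hx') (Ne.symm hy') (fun h => hxy' (Subtype.ext h))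
    exact ⟨⟨g, g1⟩, Subtype.ext g2, Subtype.ext g3⟩
  · rintro g ⟨x, hx⟩ ⟨y, hy⟩ hxy h1 h2
    exact Subtype.ext (hs g a x y (Ne.symm hx) (Ne.symm hy) (fun h => hxy (Subtype.ext h)) g.2
      (congrArg Subtype.val h1) (congrArg Subtype.val h2))

/-- The regular abelian normal subgroup of a point stabiliser. -/
theorem exists_kernel (a : α) (hn : 3 ≤ Nat.card α) :
    ∃ K : Subgroup G, K ≤ stabilizer G a ∧
      (∀ g ∈ stabilizer G a, ∀ k ∈ K, g * k * g⁻¹ ∈ K) ∧
      (∀ k ∈ K, ∀ l ∈ K, k * l = l * k) ∧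
      (∀ k ∈ K, ∀ b : α, b ≠ a → k • b = b → k = 1) ∧
      (∀ b c : α, b ≠ a → c ≠ a → ∃ k ∈ K, k • b = c) ∧
      Nat.card K + 1 = Nat.card α := by
  obtain ⟨hnt, h2, hs2⟩ := stabilizer_sharply_two h3 hs a hn
  haveI := hnt
  refine ⟨(SharplyTwo.kernel h2 hs2).map (stabilizer G a).subtype, Subgroup.map_subtype_le _,
    ?_, ?_, ?_, ?_, ?_⟩
  · rintro g hg _ ⟨k, hk, rfl⟩
    exact ⟨⟨g, hg⟩ * k * ⟨g, hg⟩⁻¹, (SharplyTwo.kernel_normal h2 hs2).conj_mem k hk _, rfl⟩
  · rintro _ ⟨k, hk, rfl⟩ _ ⟨l, hl, rfl⟩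
    exact congrArg Subtype.val (SharplyTwo.kernel_comm h2 hs2 hk hl)
  · rintro _ ⟨k, hk, rfl⟩ b hb he
    have := SharplyTwo.kernel_free h2 hs2 hk (a := ⟨b, hb⟩) (Subtype.ext he)
    rw [this]; rfl
  · intro b c hb hc
    obtain ⟨⟨k, hk⟩, he⟩ := (SharplyTwo.kernel_bijective h2 hs2 ⟨b, hb⟩).2 ⟨c, hc⟩
    exact ⟨_, ⟨k, hk, rfl⟩, congrArg Subtype.val he⟩
  · rw [Nat.card_congr ((SharplyTwo.kernel h2 hs2).equivMapOfInjective _
      (Subgroup.subtype_injective _)).toEquiv.symm, SharplyTwo.card_kernel h2 hs2]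
    show Nat.card ↥({a}ᶜ : Set α) + 1 = Nat.card α
    rw [Nat.card_coe_set_eq, ← Set.ncard_add_ncard_compl {a}ᶜ (Set.toFinite _) (Set.toFinite _)]
    simp only [compl_compl, Set.ncard_singleton]

/-- The stabiliser of two points is regular on the others. -/
theorem card_pair_stabilizer {a b : α} (hab : a ≠ b) (hn : 3 ≤ Nat.card α) :
    Nat.card ↥(stabilizer G a ⊓ stabilizer G b) + 2 = Nat.card α := by
  classical
  haveI := Fintype.ofFinite α
  rw [Nat.card_eq_fintype_card] at hn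
  obtain ⟨c, hc⟩ := (({a, b} : Finset α)ᶜ).card_pos.1 (by
    rw [Finset.card_compl]
    have := Finset.card_le_two (a := a) (b := b)
    omega)
  simp only [Finset.mem_compl, Finset.mem_insert, Finset.mem_singleton, not_or] at hc
  let S : Set α := {a, b}ᶜ
  have hbij : Function.Bijective (fun g : ↥(stabilizer G a ⊓ stabilizer G b) =>
      (⟨(g : G) • c, by
        simp only [S, Set.mem_compl_iff, Set.mem_insert_iff, Set.mem_singleton_iff, not_or]
        exact ⟨fun h => hc.1 (MulAction.injective (g : G) (h.trans g.2.1.symm)),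
          fun h => hc.2 (MulAction.injective (g : G) (h.trans g.2.2.symm))⟩⟩ : S)) := by
    constructor
    · rintro ⟨g, hga, hgb⟩ ⟨k, hka, hkb⟩ he
      have he' : g • c = k • c := congrArg Subtype.val he
      refine Subtype.ext (inv_mul_eq_one.1 (hs (k⁻¹ * g) a b c hab (Ne.symm hc.1)
        (Ne.symm hc.2) ?_ ?_ ?_)).symm <;> rw [mul_smul, inv_smul_eq_iff]
      · exact (mem_stabilizer_iff.1 hga).trans (mem_stabilizer_iff.1 hka).symm
      · exact (mem_stabilizer_iff.1 hgb).trans (mem_stabilizer_iff.1 hkb).symm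
      · exact he'
    · rintro ⟨d, hd⟩
      simp only [S, Set.mem_compl_iff, Set.mem_insert_iff, Set.mem_singleton_iff, not_or] at hd
      obtain ⟨g, g1, g2, g3⟩ := exists_triple h3 hab (Ne.symm hc.1) (Ne.symm hc.2) hab
        (Ne.symm hd.1) (Ne.symm hd.2)
      exact ⟨⟨g, g1, g2⟩, Subtype.ext g3⟩
  rw [Nat.card_congr (Equiv.ofBijective _ hbij), Nat.card_coe_set_eq, ← Set.ncard_pair hab,
    ← Set.ncard_add_ncard_compl ({a, b} : Set α) (Set.toFinite _) (Set.toFinite _), add_comm]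

end CfsgLib.Perm.SharplyThree
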