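import Mathlib

/-!
Permutation groups of prime degree: coordinates given by a `p`-cycle, affine permutations.
-/

namespace CfsgLib.Perm.PrimeDegree

open MulAction

variable {α : Type*} {p : ℕ} [hp : Fact p.Prime]

/-- A non-trivial element of order dividing `p` gives coordinates on a set of `p` points. -/
theorem exists_coord [Fintype α] (hα : Fintype.card α = p) {g : Equiv.Perm α} (hg1 : g ≠ 1) (hgp : g ^ p = 1) :
    ∃ e : ZMod p ≃ α, ∀ j, g (e j) = e (j + 1) := by
  classical
  obtain ⟨a, ha⟩ : ∃ a, g a ≠ a := by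
    by_contra h
    simp only [not_exists, not_not] at h
    exact hg1 (Equiv.ext h)
  have hper : Function.minimalPeriod g a = p := by
    have hdvd : Function.minimalPeriod g a ∣ p := by
      apply Function.IsPeriodicPt.minimalPeriod_dvd
      show g^[p] a = a
      rw [Equiv.Perm.iterate_eq_pow, hgp]
      rfl
    rcases (Nat.dvd_prime hp.out).1 hdvd with h | h
    · exact absurd (Function.minimalPeriod_eq_one_iff_isFixedPt.1 h) ha
    · exact h
  let f : ZMod p → α := fun j => g^[j.val] a
  have hinj : Function.Injective f := by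
    intro i j hij
    apply ZMod.val_injective p
    exact Function.iterate_injOn_Iio_minimalPeriod (f := g) (x := a)
      (by rw [hper]; exact ZMod.val_lt i) (by rw [hper]; exact ZMod.val_lt j) hij
  refine ⟨Equiv.ofBijective f ((Fintype.bijective_iff_injective_and_card f).2
    ⟨hinj, by rw [ZMod.card, hα]⟩), fun j => ?_⟩
  show g (g^[j.val] a) = g^[(j + 1).val] a
  rw [← Function.iterate_succ_apply' g, ZMod.val_add, ZMod.val_one,
    ← Function.iterate_mod_minimalPeriod_eq (n := Nat.succ j.val), hper]

/-- A transitive group of prime degree contains a `p`-cycle. -/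
theorem exists_cycle [Fintype α] (hα : Fintype.card α = p) (G : Subgroup (Equiv.Perm α))
    [IsPretransitive G α] : ∃ g ∈ G, g ≠ 1 ∧ g ^ p = 1 := by
  classical
  haveI : Nonempty α := Fintype.card_pos_iff.1 (hα ▸ hp.out.pos)
  let a : α := Classical.arbitrary α
  have h : p ∣ Nat.card G := by
    rw [← hα, ← Nat.card_eq_fintype_card, ← index_stabilizer_of_transitive G a]
    exact Subgroup.index_dvd_card _
  obtain ⟨x, hx⟩ := exists_prime_orderOf_dvd_card' p h
  refine ⟨x, x.2, fun h1 => ?_, ?_⟩
  · have : x = 1 := Subtype.ext h1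
    rw [this, orderOf_one] at hx
    exact hp.out.one_lt.ne hx
  · rw [← SubgroupClass.coe_pow, ← hx, pow_orderOf_eq_one]; rfl

/-- The permutation of the coordinates induced by a permutation. -/
def conjCoord (e : ZMod p ≃ α) (σ : Equiv.Perm α) : Equiv.Perm (ZMod p) :=
  e.trans (σ.trans e.symm)

theorem apply_conjCoord (e : ZMod p ≃ α) (σ : Equiv.Perm α) (j : ZMod p) :
    e (conjCoord e σ j) = σ (e j) := by simp [conjCoord]

theorem conjCoord_mul (e : ZMod p ≃ α) (σ τ : Equiv.Perm α) (j : ZMod p) :
    conjCoord e (σ * τ) j = conjCoord e σ (conjCoord e τ j) := by simp [conjCoord]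

/-- A group acting by affine maps in some coordinates is soluble. -/
theorem isSolvable_of_affine (e : ZMod p ≃ α) (G : Subgroup (Equiv.Perm α))
    (h : ∀ σ ∈ G, ∀ j, conjCoord e σ j =
      (conjCoord e σ 1 - conjCoord e σ 0) * j + conjCoord e σ 0) : Group.IsSolvable G := by
  let a : Equiv.Perm α → ZMod p := fun σ => conjCoord e σ 1 - conjCoord e σ 0
  have hne : ∀ σ, a σ ≠ 0 := fun σ => sub_ne_zero.2 ((conjCoord e σ).injective.ne one_ne_zero)
  let φ : G →* (ZMod p)ˣ := MonoidHom.mk' (fun σ => Units.mk0 (a σ) (hne σ)) (fun σ τ => by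
    apply Units.ext
    simp only [Units.val_mk0, Units.val_mul, a]
    rw [Subgroup.coe_mul, conjCoord_mul, conjCoord_mul, h σ σ.2 (conjCoord e τ 1),
      h σ σ.2 (conjCoord e τ 0)]
    ring)
  have hker : ∀ σ ∈ φ.ker, ∀ j, conjCoord e (σ : G) j = j + conjCoord e (σ : G) 0 := by
    intro σ hσ j
    have h1 : a σ = 1 := congrArg Units.val (MonoidHom.mem_ker.1 hσ)
    rw [h σ σ.2 j]
    show a σ * j + _ = _
    rw [h1, one_mul]
  haveI : Group.IsSolvable φ.ker := Group.isSolvable_of_comm (fun σ τ => by
    apply Subtype.ext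
    apply Subtype.ext
    apply Equiv.ext
    intro x
    obtain ⟨j, rfl⟩ := e.surjective x
    show ((σ : G) : Equiv.Perm α) (((τ : G) : Equiv.Perm α) (e j)) =
      ((τ : G) : Equiv.Perm α) (((σ : G) : Equiv.Perm α) (e j))
    rw [← apply_conjCoord e ((τ : G) : Equiv.Perm α), ← apply_conjCoord e ((σ : G) : Equiv.Perm α),
      ← apply_conjCoord e ((σ : G) : Equiv.Perm α) j, ← apply_conjCoord e ((τ : G) : Equiv.Perm α)]
    congr 1
    rw [hker σ σ.2, hker τ τ.2, hker σ σ.2 j, hker τ τ.2 (j + _)]
    ring)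
  exact Group.isSolvable_of_ker_le_range φ.ker.subtype φ (by rw [Subgroup.range_subtype])

private theorem affine_two :
    ∀ q : Equiv.Perm (ZMod 2), ∀ j, q j = (q 1 - q 0) * j + q 0 := by decide

private theorem affine_three :
    ∀ q : Equiv.Perm (ZMod 3), ∀ j, q j = (q 1 - q 0) * j + q 0 := by decide

/-- Groups of degree at most 3 are soluble. -/
theorem isSolvable_of_card_le_three [Fintype α] (hα : Fintype.card α = p) (hp3 : p ≤ 3)
    (G : Subgroup (Equiv.Perm α)) [IsPretransitive G α] : Group.IsSolvable G := by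
  obtain ⟨g, -, hg1, hgp⟩ := exists_cycle hα G
  obtain ⟨e, -⟩ := exists_coord hα hg1 hgp
  apply isSolvable_of_affine e
  intro σ _
  have hne : conjCoord e σ 1 ≠ conjCoord e σ 0 := (conjCoord e σ).injective.ne one_ne_zero
  have key : ∀ q : Equiv.Perm (ZMod p), ∀ j, q j = (q 1 - q 0) * j + q 0 := by
    have := hp.out.two_le
    interval_cases p
    · exact affine_two
    · exact affine_three
  exact key _

end CfsgLib.Perm.PrimeDegree
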