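import Mathlib

/-!
Functions on `ZMod p` with values in a field of characteristic `p`, seen as polynomial functions;
translation-invariant subspaces.
-/

namespace CfsgLib.Perm.CyclicPoly

open Polynomial

variable {p : ℕ} [hp : Fact p.Prime] {K : Type*} [Field K] [CharP K p]

/-- The inclusion of `ZMod p`. -/
noncomputable abbrev ι : ZMod p →+* K := ZMod.castHom (dvd_refl p) K

theorem ι_injective : Function.Injective (ι (p := p) (K := K)) := RingHom.injective _

/-- Functions given by polynomials of degree less than `r`. -/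
noncomputable def polyFun (r : ℕ) : Submodule K (ZMod p → K) :=
  (degreeLT K r).map (LinearMap.pi fun j : ZMod p => (aeval (ι j : K)).toLinearMap)

theorem mem_polyFun {r : ℕ} {f : ZMod p → K} :
    f ∈ polyFun r ↔ ∃ P : K[X], P.degree < r ∧ ∀ j : ZMod p, f j = P.eval (ι j) := by
  constructor
  · rintro ⟨P, hP, rfl⟩
    exact ⟨P, mem_degreeLT.1 hP, fun j => by simp⟩
  · rintro ⟨P, hP, hf⟩
    exact ⟨P, mem_degreeLT.2 hP, funext fun j => by simp [hf]⟩

theorem polyFun_mono {r s : ℕ} (h : r ≤ s) : polyFun (p := p) (K := K) r ≤ polyFun s := by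
  intro f hf
  obtain ⟨P, hP, hf⟩ := mem_polyFun.1 hf
  exact mem_polyFun.2 ⟨P, lt_of_lt_of_le hP (by exact_mod_cast h), hf⟩

theorem eq_of_eval_eq {P Q : K[X]} (hP : P.degree < p) (hQ : Q.degree < p)
    (h : ∀ j : ZMod p, P.eval (ι j) = Q.eval (ι j)) : P = Q := by
  refine eq_of_degrees_lt_of_eval_index_eq (s := (Finset.univ : Finset (ZMod p)))
    (v := fun j => (ι j : K)) (ι_injective.injOn) ?_ ?_ (fun j _ => h j)
  · rwa [Finset.card_univ, ZMod.card]
  · rwa [Finset.card_univ, ZMod.card]

theorem finrank_polyFun {r : ℕ} (hr : r ≤ p) :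
    Module.finrank K (polyFun (p := p) (K := K) r) = r := by
  let F : degreeLT K r →ₗ[K] (ZMod p → K) :=
    (LinearMap.pi fun j : ZMod p => (aeval (ι j : K)).toLinearMap).comp (degreeLT K r).subtype
  have hF : Function.Injective F := by
    rintro ⟨P, hP⟩ ⟨Q, hQ⟩ h
    rw [mem_degreeLT] at hP hQ
    refine Subtype.ext (eq_of_eval_eq (lt_of_lt_of_le hP (by exact_mod_cast hr))
      (lt_of_lt_of_le hQ (by exact_mod_cast hr)) fun j => ?_)
    simpa [F] using congrFun h j
  have hrange : LinearMap.range F = polyFun r := by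
    rw [LinearMap.range_comp, Submodule.range_subtype]; rfl
  rw [← hrange, LinearMap.finrank_range_of_inj hF, (degreeLTEquiv K r).finrank_eq,
    Module.finrank_pi, Fintype.card_fin]

theorem polyFun_self : polyFun (p := p) (K := K) p = ⊤ := by
  apply Submodule.eq_top_of_finrank_eq
  rw [finrank_polyFun le_rfl, Module.finrank_pi, ZMod.card]

theorem exists_poly (f : ZMod p → K) : ∃ P : K[X], P.degree < p ∧ ∀ j, f j = P.eval (ι j) :=
  mem_polyFun.1 (polyFun_self (p := p) (K := K) ▸ Submodule.mem_top)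

/-- A translation-invariant subspace consists of the polynomial functions of bounded degree. -/
theorem eq_polyFun (W : Submodule K (ZMod p → K)) (hW : ∀ f ∈ W, (fun j => f (j - 1)) ∈ W) :
    ∃ r ≤ p, W = polyFun r := by
  classical
  let r := Nat.find (p := fun r => W ≤ polyFun r) ⟨p, by rw [polyFun_self]; exact le_top⟩
  have hr : W ≤ polyFun r := Nat.find_spec (p := fun r => W ≤ polyFun r) _
  have hrp : r ≤ p := Nat.find_le (h := ⟨p, by rw [polyFun_self]; exact le_top⟩)
    (by rw [polyFun_self]; exact le_top)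
  refine ⟨r, hrp, le_antisymm hr ?_⟩
  have key : ∀ d < p, ∀ f ∈ W, ∀ P : K[X], P.natDegree = d → P ≠ 0 →
      (∀ j, f j = P.eval (ι j)) → polyFun (d + 1) ≤ W := by
    intro d
    induction d with
    | zero =>
      intro _ f hf P hP hP0 hfP g hg
      obtain ⟨Q, hQ, hgQ⟩ := mem_polyFun.1 hg
      have hQ0 : Q.natDegree = 0 := by
        by_contra hne
        have := natDegree_lt_iff_degree_lt (p := Q) (n := 1) (fun h => hne (by rw [h, natDegree_zero]))
        have := this.2 hQ
        omega
      have hc : P.coeff 0 ≠ 0 := by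
        intro h
        apply hP0
        rw [eq_C_of_natDegree_eq_zero hP, h, map_zero]
      have : g = (Q.coeff 0 / P.coeff 0) • f := funext fun j => by
        rw [Pi.smul_apply, hfP, hgQ, eq_C_of_natDegree_eq_zero hP, eq_C_of_natDegree_eq_zero hQ0]
        simp [hc]
      rw [this]
      exact W.smul_mem _ hf
    | succ d ih =>
      intro hd f hf P hP hP0 hfP
      -- the difference has degree exactly `d`
      let D : K[X] := P - taylor (-1) P
      have hDcoeff : ∀ n, D.coeff n = P.coeff n - (hasseDeriv n P).eval (-1) := fun n => by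
        rw [coeff_sub, taylor_coeff]
      have hDle : D.natDegree ≤ d := by
        rw [natDegree_le_iff_coeff_eq_zero]
        intro n hn
        rcases Nat.lt_or_ge (d + 1) n with h | h
        · rw [hDcoeff, coeff_eq_zero_of_natDegree_lt (by omega),
            hasseDeriv_eq_zero_of_lt_natDegree P n (by omega), eval_zero, sub_zero]
        · obtain rfl : n = d + 1 := by omega
          rw [hDcoeff, eq_C_of_natDegree_eq_zero (p := hasseDeriv (d + 1) P)
            (Nat.eq_zero_of_le_zero ((natDegree_hasseDeriv_le P (d + 1)).trans (by omega))),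
            eval_C, hasseDeriv_coeff]
          simp
      have hDd : D.coeff d = ((d + 1 : ℕ) : K) * P.coeff (d + 1) := by
        have hdeg : (hasseDeriv d P).natDegree < 2 :=
          lt_of_le_of_lt (natDegree_hasseDeriv_le P d) (by omega)
        rw [hDcoeff, eval_eq_sum_range' hdeg, Finset.sum_range_succ, Finset.sum_range_one,
          hasseDeriv_coeff, hasseDeriv_coeff]
        simp [Nat.choose_succ_self_right, add_comm 1 d]
      have hne : ((d + 1 : ℕ) : K) * P.coeff (d + 1) ≠ 0 := by
        refine mul_ne_zero ?_ ?_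
        · rw [Ne, CharP.cast_eq_zero_iff K p]
          exact Nat.not_dvd_of_pos_of_lt (Nat.succ_pos d) hd
        · rw [← hP]
          exact leadingCoeff_ne_zero.2 hP0
      rw [← hDd] at hne
      have hDdeg : D.natDegree = d := le_antisymm hDle (le_natDegree_of_ne_zero hne)
      have hD0 : D ≠ 0 := fun h => hne (by rw [h, coeff_zero])
      have hmem : (fun j => f j - f (j - 1)) ∈ W := W.sub_mem hf (hW f hf)
      have hlow := ih (by omega) _ hmem D hDdeg hD0 (fun j => by
        rw [hfP, hfP, map_sub, map_one, eval_sub, taylor_apply, eval_comp]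
        simp [sub_eq_add_neg])
      intro g hg
      obtain ⟨Q, hQ, hgQ⟩ := mem_polyFun.1 hg
      let c := Q.coeff (d + 1) / P.coeff (d + 1)
      have h1 : g - c • f ∈ polyFun (d + 1) := by
        refine mem_polyFun.2 ⟨Q - C c * P, ?_, fun j => by simp [hgQ, hfP]⟩
        rw [degree_lt_iff_coeff_zero]
        intro m hm
        rw [coeff_sub, coeff_C_mul]
        rcases Nat.lt_or_ge (d + 1) m with h | h
        · have e1 : Q.coeff m = 0 := (degree_lt_iff_coeff_zero Q (d + 1 + 1)).1 hQ m (by omega)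
          rw [e1, coeff_eq_zero_of_natDegree_lt (show P.natDegree < m by omega)]
          simp
        · obtain rfl : m = d + 1 := by omega
          simp only [c]
          rw [div_mul_cancel₀, sub_self]
          rw [← hP]
          exact leadingCoeff_ne_zero.2 hP0
      have := W.add_mem (hlow h1) (W.smul_mem c hf)
      simpa using this
  rcases Nat.eq_zero_or_pos r with h0 | hpos
  · intro g hg
    rw [h0] at hg
    obtain ⟨P, hP, hgP⟩ := mem_polyFun.1 hg
    have hP0 : P = 0 := degree_eq_bot.1 (Nat.WithBot.lt_zero_iff.1 (by exact_mod_cast hP))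
    have : g = 0 := funext fun j => by rw [hgP, hP0]; simp
    rw [this]; exact W.zero_mem
  · have hnot : ¬ W ≤ polyFun (r - 1) := Nat.find_min (p := fun r => W ≤ polyFun r) _ (by omega)
    obtain ⟨f, hf, hfn⟩ := Set.not_subset.1 hnot
    obtain ⟨P, hP, hfP⟩ := mem_polyFun.1 (hr hf)
    have hP0 : P ≠ 0 := by
      intro h
      apply hfn
      exact mem_polyFun.2 ⟨P, by rw [h, degree_zero]; exact WithBot.bot_lt_coe _, hfP⟩
    have hPd : P.natDegree + 1 = r := by
      have h1 : P.natDegree < r := (natDegree_lt_iff_degree_lt hP0).2 hP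
      by_contra hne
      apply hfn
      exact mem_polyFun.2 ⟨P, (natDegree_lt_iff_degree_lt hP0).1 (by omega), hfP⟩
    rw [← hPd]
    exact key _ (by omega) f hf P rfl hP0 hfP

/-- The sum of the values of a polynomial of degree less than `p`. -/
theorem sum_eval {P : K[X]} (hP : P.degree < p) :
    ∑ j : ZMod p, P.eval (ι j) = -P.coeff (p - 1) := by
  have hp2 : 2 ≤ p := hp.out.two_le
  have hnd : P.natDegree < p := by
    by_cases h : P = 0
    · rw [h, natDegree_zero]; omega
    · exact (natDegree_lt_iff_degree_lt h).2 hP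
  have hpow : ∀ i < p, ∑ j : ZMod p, (ι j : K) ^ i = if i = p - 1 then (-1 : K) else 0 := by
    intro i hi
    have hs : ∑ j : ZMod p, (ι j : K) ^ i = ι (∑ j : ZMod p, j ^ i) := by simp
    rw [hs]
    by_cases h : i = p - 1
    · rw [if_pos h, h]
      have h1 : ∀ j : ZMod p, j ^ (p - 1) = if j = 0 then 0 else 1 := by
        intro j
        split_ifs with hj
        · rw [hj, zero_pow (by omega)]
        · exact ZMod.pow_card_sub_one_eq_one hj
      rw [Finset.sum_congr rfl (fun j _ => h1 j)]
      simp only [Finset.sum_ite, Finset.sum_const_zero, zero_add, Finset.sum_const]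
      rw [Finset.filter_ne' Finset.univ (0 : ZMod p), Finset.card_erase_of_mem (Finset.mem_univ _),
        Finset.card_univ, ZMod.card]
      simp [Nat.cast_sub (show 1 ≤ p by omega)]
    · rw [if_neg h, FiniteField.sum_pow_lt_card_sub_one (ZMod p) i (by rw [ZMod.card]; omega), map_zero]
  simp only [eval_eq_sum_range' hnd]
  rw [Finset.sum_comm]
  simp only [← Finset.mul_sum]
  rw [Finset.sum_congr rfl (fun i hi => by rw [hpow i (Finset.mem_range.1 hi)])]
  simp only [mul_ite, mul_neg, mul_one, mul_zero]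
  rw [Finset.sum_ite_eq' (Finset.range p)]
  simp only [Finset.mem_range]
  rw [if_pos (by omega)]

theorem sum_eq_zero_of_mem {f : ZMod p → K} {r : ℕ} (hr : r ≤ p - 1) (hf : f ∈ polyFun r) :
    ∑ j, f j = 0 := by
  obtain ⟨P, hP, hfP⟩ := mem_polyFun.1 hf
  rw [Finset.sum_congr rfl (fun j _ => hfP j), sum_eval (lt_of_lt_of_le hP (by
    exact_mod_cast (show r ≤ p by omega))), (degree_lt_iff_coeff_zero P r).1 hP (p - 1) hr,
    neg_zero]

theorem mul_mem {f g : ZMod p → K} {r s t : ℕ} (hrs : r + s ≤ t + 1) (hf : f ∈ polyFun r)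
    (hg : g ∈ polyFun s) : (f * g) ∈ polyFun t := by
  obtain ⟨P, hP, hfP⟩ := mem_polyFun.1 hf
  obtain ⟨Q, hQ, hgQ⟩ := mem_polyFun.1 hg
  refine mem_polyFun.2 ⟨P * Q, ?_, fun j => by simp [hfP, hgQ]⟩
  by_cases hP0 : P = 0
  · rw [hP0, zero_mul, degree_zero]; exact WithBot.bot_lt_coe _
  by_cases hQ0 : Q = 0
  · rw [hQ0, mul_zero, degree_zero]; exact WithBot.bot_lt_coe _
  rw [← natDegree_lt_iff_degree_lt (mul_ne_zero hP0 hQ0), natDegree_mul hP0 hQ0]
  have := (natDegree_lt_iff_degree_lt hP0).2 hP
  have := (natDegree_lt_iff_degree_lt hQ0).2 hQ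
  omega

theorem pow_mem (i : ℕ) : (fun j : ZMod p => (ι j : K) ^ i) ∈ polyFun (i + 1) :=
  mem_polyFun.2 ⟨X ^ i, lt_of_le_of_lt (degree_X_pow_le i) (by exact_mod_cast Nat.lt_succ_self i),
    fun j => by simp⟩

/-- Membership is detected by the moments. -/
theorem mem_of_moments {f : ZMod p → K} {m : ℕ} (hm : m ≤ p)
    (h : ∀ i < p - m, ∑ j, f j * (ι j : K) ^ i = 0) : f ∈ polyFun m := by
  obtain ⟨P, hP, hfP⟩ := exists_poly f
  by_cases hP0 : P = 0
  · exact mem_polyFun.2 ⟨P, by rw [hP0, degree_zero]; exact WithBot.bot_lt_coe _, hfP⟩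
  refine mem_polyFun.2 ⟨P, ?_, hfP⟩
  rw [← natDegree_lt_iff_degree_lt hP0]
  by_contra hge
  have hd := (natDegree_lt_iff_degree_lt hP0).2 hP
  have h1 := h (p - 1 - P.natDegree) (by omega)
  have h2 : (P * X ^ (p - 1 - P.natDegree)).natDegree = p - 1 := by
    rw [natDegree_mul hP0 (pow_ne_zero _ X_ne_zero), natDegree_X_pow]; omega
  have hne : P * X ^ (p - 1 - P.natDegree) ≠ 0 := mul_ne_zero hP0 (pow_ne_zero _ X_ne_zero)
  have h3 := sum_eval (p := p) (P := P * X ^ (p - 1 - P.natDegree))
    ((natDegree_lt_iff_degree_lt hne).1 (by rw [h2]; omega))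
  simp only [eval_mul, eval_pow, eval_X, ← hfP, h1] at h3
  have hlc := leadingCoeff_ne_zero.2 hne
  rw [leadingCoeff, h2] at hlc
  exact neg_ne_zero.2 hlc h3.symm

/-- A permutation preserving the polynomial functions of degree less than `r`, `2 ≤ r ≤ p - 2`,
is affine. -/
theorem affine_of_invariant {r : ℕ} (hr2 : 2 ≤ r) (hrp : r + 2 ≤ p) (s : Equiv.Perm (ZMod p))
    (hs : ∀ f ∈ polyFun (p := p) (K := K) r, (fun j => f (s j)) ∈ polyFun (p := p) (K := K) r)
    (hs' : ∀ f ∈ polyFun (p := p) (K := K) r, (fun j => f (s.symm j)) ∈ polyFun (p := p) (K := K) r) :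
    ∀ j, s j = (s 1 - s 0) * j + s 0 := by
  -- we may assume `2 r ≤ p`
  obtain ⟨m, hm2, hmp, hm⟩ : ∃ m, 2 ≤ m ∧ 2 * m ≤ p ∧
      ∀ f ∈ polyFun (p := p) (K := K) m, (fun j => f (s j)) ∈ polyFun (p := p) (K := K) m := by
    rcases Nat.le_or_le (2 * r) p with h | h
    · exact ⟨r, hr2, h, hs⟩
    · refine ⟨p - r, by omega, by omega, fun f hf => mem_of_moments (by omega) fun i hi => ?_⟩
      have e : ∑ j, f (s j) * (ι j : K) ^ i = ∑ k, f k * (ι (s.symm k) : K) ^ i :=
        Fintype.sum_equiv s _ _ (fun j => by simp)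
      rw [e]
      exact sum_eq_zero_of_mem le_rfl
        (mul_mem (r := p - r) (s := r) (t := p - 1) (by omega) hf
          (hs' _ (polyFun_mono (by omega) (pow_mem i))))
  obtain ⟨S, hS, hsS⟩ := mem_polyFun.1 (hm _ (polyFun_mono hm2 (pow_mem 1)))
  simp only [pow_one] at hsS
  have hSd : S.natDegree ≤ 1 := by
    by_contra hgt
    have hS0 : S ≠ 0 := fun h => hgt (by rw [h, natDegree_zero]; omega)
    have hd : S.natDegree < m := (natDegree_lt_iff_degree_lt hS0).2 hS
    -- the least `k` with `m ≤ k * S.natDegree`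
    obtain ⟨k, hk1, hk2⟩ : ∃ k, m ≤ k * S.natDegree ∧ k * S.natDegree ≤ m + S.natDegree - 1 := by
      refine ⟨(m + S.natDegree - 1) / S.natDegree, ?_, Nat.div_mul_le_self _ _⟩
      have := Nat.lt_div_mul_add (a := m + S.natDegree - 1) (b := S.natDegree) (by omega)
      omega
    have hkm : k < m := by
      by_contra hkm
      have : m * 2 ≤ k * S.natDegree := Nat.mul_le_mul (not_lt.1 hkm) (by omega)
      omega
    obtain ⟨Q, hQ, hQe⟩ := mem_polyFun.1 (hm _ (polyFun_mono (show k + 1 ≤ m by omega) (pow_mem k)))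
    have hne : S ^ k ≠ 0 := pow_ne_zero _ hS0
    have he : S ^ k = Q := by
      refine eq_of_eval_eq ?_ (lt_of_lt_of_le hQ (by exact_mod_cast (show m ≤ p by omega))) ?_
      · rw [← natDegree_lt_iff_degree_lt hne, natDegree_pow]; omega
      · intro j
        rw [eval_pow, ← hsS, ← hQe]
    rw [← he, ← natDegree_lt_iff_degree_lt hne, natDegree_pow] at hQ
    omega
  intro j
  apply ι_injective (p := p) (K := K)
  have hev : ∀ j, (ι (s j) : K) = S.coeff 1 * ι j + S.coeff 0 := by
    intro j
    rw [hsS, eval_eq_sum_range' (show S.natDegree < 2 by omega), Finset.sum_range_succ,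
      Finset.sum_range_one]
    simp [add_comm]
  rw [hev, map_add, map_mul, map_sub, hev 1, hev 0, map_one, map_zero]
  ring

end CfsgLib.Perm.CyclicPoly
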