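import Mathlib
import Cfsg.Prelude.Def_Perm

/-!
Permutation modules: constants, sum-zero functions, degree of prime power in characteristic `p`.
-/

namespace CfsgLib.Perm.Module

open MulAction

variable {K : Type*} [Field K] {G : Type*} [Group G] {Ω : Type*} [MulAction G Ω]

theorem permRep_apply (g : G) (f : Ω → K) (x : Ω) : Cfsg.permRep K G Ω g f x = f (g⁻¹ • x) := rfl

theorem mem_permConstants {f : Ω → K} :
    f ∈ (Cfsg.permConstants K G Ω).toSubmodule ↔ ∃ c : K, f = fun _ => c := by
  show f ∈ Submodule.span K {fun _ => (1 : K)} ↔ _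
  rw [Submodule.mem_span_singleton]
  constructor
  · rintro ⟨c, rfl⟩; exact ⟨c, funext fun _ => mul_one c⟩
  · rintro ⟨c, rfl⟩; exact ⟨c, funext fun _ => mul_one c⟩

theorem mem_permConstants_of_forall_eq {f : Ω → K} (h : ∀ x y, f x = f y) :
    f ∈ (Cfsg.permConstants K G Ω).toSubmodule := by
  rcases isEmpty_or_nonempty Ω with hΩ | ⟨⟨a⟩⟩
  · exact mem_permConstants.2 ⟨0, funext fun x => hΩ.elim x⟩
  · exact mem_permConstants.2 ⟨f a, funext fun x => h x a⟩

theorem mem_permSumZero [Fintype Ω] {f : Ω → K} :
    f ∈ (Cfsg.permSumZero K G Ω).toSubmodule ↔ ∑ x, f x = 0 := Iff.rfl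

theorem sum_permRep [Fintype Ω] (g : G) (f : Ω → K) : ∑ x, Cfsg.permRep K G Ω g f x = ∑ x, f x :=
  Fintype.sum_equiv (MulAction.toPerm g⁻¹) _ _ (fun _ => rfl)

theorem permRep_single [DecidableEq Ω] (g : G) (a : Ω) (c : K) :
    Cfsg.permRep K G Ω g (Pi.single a c) = Pi.single (g • a) c := by
  funext x
  simp [permRep_apply, Pi.single_apply, inv_smul_eq_iff]

/-- A Sylow `p`-subgroup of a transitive group of degree a power of `p` is transitive. -/
theorem sylow_orbit_eq_univ [Finite G] [Finite Ω] [IsPretransitive G Ω] {p f : ℕ} [Fact p.Prime]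
    (hcard : Nat.card Ω = p ^ f) (P : Sylow p G) (a : Ω) :
    orbit (P : Subgroup G) a = Set.univ := by
  classical
  have hp : p.Prime := Fact.out
  obtain ⟨n, hn⟩ := P.2.card_orbit a
  have hidx : (stabilizer G a).index = p ^ f := by
    rw [index_stabilizer_of_transitive, hcard]
  have hle : Nat.card Ω ≤ (orbit (P : Subgroup G) a).ncard := by
    -- `|P| = |orbit| * |P ∩ G_a|` and `|P ∩ G_a|` divides `|G_a|`
    have h1 : (orbit (P : Subgroup G) a).ncard * Nat.card (stabilizer (P : Subgroup G) a)
        = Nat.card (P : Subgroup G) := by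
      rw [← index_stabilizer, Subgroup.index_mul_card]
    have h2 : Nat.card (stabilizer (P : Subgroup G) a) ∣ Nat.card (stabilizer G a) := by
      refine Subgroup.card_dvd_of_injective
        (MonoidHom.mk' (fun g : stabilizer (P : Subgroup G) a => (⟨(g : G), g.2⟩ : stabilizer G a))
          (fun g h => rfl)) ?_
      intro g h e
      have := congrArg Subtype.val e
      exact Subtype.ext (Subtype.ext this)
    obtain ⟨m, hm⟩ := (P.2.to_subgroup (stabilizer (P : Subgroup G) a)).exists_card_eq
    rw [hm] at h1 h2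
    rw [Nat.card_coe_set_eq] at hn
    rw [hn] at h1 ⊢
    have hG : Nat.card G = p ^ f * Nat.card (stabilizer G a) := by
      rw [← hidx, Subgroup.index_mul_card]
    have h3 := P.card_eq_multiplicity
    have h4 : m ≤ (Nat.card (stabilizer G a)).factorization p :=
      (hp.pow_dvd_iff_le_factorization Nat.card_pos.ne').1 h2
    rw [← h1, hG, Nat.factorization_mul (pow_ne_zero _ hp.ne_zero) Nat.card_pos.ne', ← pow_add,
      Finsupp.add_apply, Nat.Prime.factorization_pow hp, Finsupp.single_eq_same] at h3
    have := Nat.pow_right_injective hp.two_le h3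
    rw [hcard]
    exact Nat.pow_le_pow_right hp.pos (by omega)
  exact Set.eq_of_subset_of_ncard_le (Set.subset_univ _)
    (by rw [Set.ncard_univ]; exact hle) (Set.toFinite _)

theorem sylow_isPretransitive [Finite G] [Finite Ω] [IsPretransitive G Ω] {p f : ℕ} [Fact p.Prime]
    (hcard : Nat.card Ω = p ^ f) (P : Sylow p G) : IsPretransitive (P : Subgroup G) Ω :=
  ⟨fun a b => by
    have hb : b ∈ orbit (P : Subgroup G) a := by rw [sylow_orbit_eq_univ hcard P a]; trivial
    exact hb⟩

/-- A finite `p`-group fixes a non-zero vector of a non-zero invariant subspace in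
characteristic `p`. -/
theorem exists_fixed_vector {H : Type*} [Group H] [Finite H] {p : ℕ} [Fact p.Prime] [CharP K p]
    (hH : IsPGroup p H) {V : Type*} [AddCommGroup V] [_root_.Module K V]
    (ρ : Representation K H V) (W : Submodule K V) (hW : ∀ g, ∀ v ∈ W, ρ g v ∈ W)
    (h0 : W ≠ ⊥) : ∃ v ∈ W, v ≠ 0 ∧ ∀ g, ρ g v = v := by
  classical
  obtain ⟨v, hv, hv0⟩ := (Submodule.ne_bot_iff W).1 h0
  letI : Algebra (ZMod p) K := ZMod.algebra K p
  letI : _root_.Module (ZMod p) V := _root_.Module.compHom V (algebraMap (ZMod p) K)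
  let M : Submodule (ZMod p) V := Submodule.span (ZMod p) (Set.range fun g => ρ g v)
  haveI : _root_.Module.Finite (ZMod p) M :=
    _root_.Module.Finite.span_of_finite _ (Set.finite_range _)
  haveI : Finite M := _root_.Module.finite_of_finite (ZMod p)
  have hMinv : ∀ g : H, ∀ u ∈ M, ρ g u ∈ M := by
    intro g u hu
    induction hu using Submodule.span_induction with
    | mem x hx =>
      obtain ⟨k, rfl⟩ := hx
      refine Submodule.subset_span ⟨g * k, ?_⟩
      simp [map_mul]
    | zero => simp
    | add x y _ _ hx hy => rw [map_add]; exact M.add_mem hx hy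
    | smul c x _ hx =>
      show ρ g (algebraMap (ZMod p) K c • x) ∈ M
      rw [map_smul]
      exact M.smul_mem c hx
  have hMW : ∀ u ∈ M, u ∈ W := by
    intro u hu
    induction hu using Submodule.span_induction with
    | mem x hx => obtain ⟨k, rfl⟩ := hx; exact hW k v hv
    | zero => exact W.zero_mem
    | add x y _ _ hx hy => exact W.add_mem hx hy
    | smul c x _ hx => exact W.smul_mem _ hx
  letI : MulAction H M :=
    { smul := fun g u => ⟨ρ g u, hMinv g u u.2⟩
      one_smul := fun u => Subtype.ext (by show ρ 1 (u : V) = u; rw [map_one]; rfl)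
      mul_smul := fun g k u => Subtype.ext (by
        show ρ (g * k) (u : V) = ρ g (ρ k u)
        rw [map_mul]; rfl) }
  have hp : p ∣ Nat.card M := by
    haveI : Nontrivial M := ⟨⟨⟨v, Submodule.subset_span ⟨1, by simp⟩⟩, 0,
      fun h => hv0 (congrArg Subtype.val h)⟩⟩
    rw [_root_.Module.natCard_eq_pow_finrank (K := ZMod p), Nat.card_zmod]
    exact dvd_pow_self p (_root_.Module.finrank_pos.ne')
  have hfix : (0 : M) ∈ fixedPoints H M := fun g => Subtype.ext (map_zero (ρ g))
  obtain ⟨u, hu, hu0⟩ := hH.exists_fixed_point_of_prime_dvd_card_of_fixed_point M hp hfix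
  exact ⟨u, hMW u u.2, fun h => hu0 (Subtype.ext h.symm), fun g => congrArg Subtype.val (hu g)⟩

/-- In degree a power of the characteristic, a non-zero invariant subspace contains the
constants. -/
theorem permConstants_le [Finite G] [Fintype Ω] [IsPretransitive G Ω] {p f : ℕ} [Fact p.Prime]
    [CharP K p] (hcard : Fintype.card Ω = p ^ f) (W : Subrepresentation (Cfsg.permRep K G Ω))
    (hW : W.toSubmodule ≠ ⊥) : (Cfsg.permConstants K G Ω).toSubmodule ≤ W.toSubmodule := by
  let P : Sylow p G := default
  haveI := sylow_isPretransitive (Ω := Ω) (f := f) (by rw [Nat.card_eq_fintype_card, hcard]) P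
  obtain ⟨v, hv, hv0, hfix⟩ := exists_fixed_vector P.2
    ((Cfsg.permRep K G Ω).comp (P : Subgroup G).subtype) W.toSubmodule
    (fun g v hv => W.apply_mem_toSubmodule _ hv) hW
  obtain ⟨a, ha⟩ := Function.ne_iff.1 hv0
  have hconst : ∀ x, v x = v a := by
    intro x
    obtain ⟨g, rfl⟩ := exists_smul_eq (P : Subgroup G) a x
    have := congrFun (hfix g) (g • a)
    simp only [MonoidHom.comp_apply, Subgroup.subtype_apply, permRep_apply] at this
    rw [← this]
    congr 1
    exact inv_smul_smul (g : G) a
  intro w hw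
  obtain ⟨c, rfl⟩ := mem_permConstants.1 hw
  have : (fun _ => c : Ω → K) = (c / v a) • v := funext fun x => by
    rw [Pi.smul_apply, hconst x, smul_eq_mul, div_mul_cancel₀ c (by simpa using ha)]
  rw [this]
  exact W.toSubmodule.smul_mem _ hv

/-- In degree a power of the characteristic, a proper invariant subspace consists of functions
with sum zero. -/
theorem le_permSumZero [Finite G] [Fintype Ω] [IsPretransitive G Ω] {p f : ℕ} [Fact p.Prime]
    [CharP K p] (hcard : Fintype.card Ω = p ^ f) (W : Subrepresentation (Cfsg.permRep K G Ω))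
    (hW : W.toSubmodule ≠ ⊤) : W.toSubmodule ≤ (Cfsg.permSumZero K G Ω).toSubmodule := by
  classical
  let perp : Subrepresentation (Cfsg.permRep K G Ω) :=
    { toSubmodule :=
        { carrier := {u | ∀ w ∈ W.toSubmodule, ∑ x, u x * w x = 0}
          zero_mem' := fun w _ => by simp
          add_mem' := fun {u v} hu hv w hw => by
            simp [add_mul, Finset.sum_add_distrib, hu w hw, hv w hw]
          smul_mem' := fun c u hu w hw => by
            simp [mul_assoc, ← Finset.mul_sum, hu w hw] }
      apply_mem_toSubmodule := by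
        intro g u hu w hw
        have h := hu _ (W.apply_mem_toSubmodule g⁻¹ hw)
        refine Eq.trans ?_ h
        refine Fintype.sum_equiv (MulAction.toPerm g⁻¹) _ _ (fun x => ?_)
        show u (g⁻¹ • x) * w x = u (g⁻¹ • x) * w (g⁻¹⁻¹ • g⁻¹ • x)
        rw [inv_inv, smul_inv_smul] }
  have hne : perp.toSubmodule ≠ ⊥ := by
    intro h
    apply hW
    obtain ⟨φ, hφ0, hφ⟩ : ∃ φ : Module.Dual K (Ω → K), φ ≠ 0 ∧ W.toSubmodule.map φ = ⊥ :=
      Submodule.exists_dual_map_eq_bot_of_lt_top (lt_top_iff_ne_top.2 hW) inferInstance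
    exfalso
    apply hφ0
    let u : Ω → K := fun x => φ (Pi.single x 1)
    have hexp : ∀ w : Ω → K, φ w = ∑ x, u x * w x := by
      intro w
      conv_lhs => rw [← Finset.univ_sum_single w]
      rw [map_sum]
      refine Finset.sum_congr rfl fun x _ => ?_
      have : (Pi.single x (w x) : Ω → K) = w x • Pi.single x 1 := by
        rw [← Pi.single_smul, smul_eq_mul, mul_one]
      rw [this, map_smul, smul_eq_mul, mul_comm]
    have hu : u ∈ perp.toSubmodule := fun w hw => by
      rw [← hexp]
      have : φ w ∈ W.toSubmodule.map φ := Submodule.mem_map_of_mem hw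
      rwa [hφ, Submodule.mem_bot] at this
    rw [h, Submodule.mem_bot] at hu
    ext w
    simp [hexp, hu]
  intro w hw
  have h1 := permConstants_le hcard perp hne (mem_permConstants.2 ⟨1, rfl⟩) w hw
  rw [mem_permSumZero]
  simpa using h1

end CfsgLib.Perm.Module
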