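import Mathlib
import Cfsg.Agent.Perm.Module
import Cfsg.Agent.Perm.CyclicPoly
import Cfsg.Agent.Perm.PrimeDegree

/-!
The heart of the permutation module of a non-soluble group of prime degree is irreducible.
-/

namespace CfsgLib.Perm.Heart

open CfsgLib.Perm

variable {α : Type*} [Fintype α] {p : ℕ} [hp : Fact p.Prime] {K : Type*} [Field K] [CharP K p]

theorem between_eq (hα : Fintype.card α = p) (G : Subgroup (Equiv.Perm α))
    [MulAction.IsPretransitive G α] (hG : ¬ Group.IsSolvable G)
    (W : Subrepresentation (Cfsg.permRep K G α))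
    (h₁ : (Cfsg.permConstants K G α).toSubmodule ≤ W.toSubmodule)
    (h₂ : W.toSubmodule ≤ (Cfsg.permSumZero K G α).toSubmodule) :
    W = Cfsg.permConstants K G α ∨ W = Cfsg.permSumZero K G α := by
  classical
  obtain ⟨g, hg, hg1, hgp⟩ := PrimeDegree.exists_cycle hα G
  obtain ⟨e, he⟩ := PrimeDegree.exists_coord hα hg1 hgp
  let L : (α → K) ≃ₗ[K] (ZMod p → K) := LinearEquiv.funCongrLeft K K e
  let W' : Submodule K (ZMod p → K) := W.toSubmodule.map L.toLinearMap
  have hW' : ∀ σ ∈ G, ∀ f ∈ W', (fun j => f (PrimeDegree.conjCoord e σ j)) ∈ W' := by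
    intro σ hσ f hf
    obtain ⟨w, hw, rfl⟩ := hf
    refine ⟨_, W.apply_mem_toSubmodule (⟨σ, hσ⟩⁻¹ : G) hw, ?_⟩
    funext j
    show w (((⟨σ, hσ⟩⁻¹ : G)⁻¹ : G) • e j) = w (e (PrimeDegree.conjCoord e σ j))
    rw [inv_inv, PrimeDegree.apply_conjCoord]
    rfl
  obtain ⟨r, hr, hWr⟩ := CyclicPoly.eq_polyFun W' (fun f hf => by
    have h := hW' g⁻¹ (inv_mem hg) f hf
    have e1 : ∀ j, PrimeDegree.conjCoord e g⁻¹ j = j - 1 := by
      intro j
      apply e.injective
      rw [PrimeDegree.apply_conjCoord, Equiv.Perm.inv_def, Equiv.symm_apply_eq, he, sub_add_cancel]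
    simpa [e1] using h)
  have hp2 := hp.out.two_le
  have hinj : Function.Injective (fun S : Submodule K (α → K) => S.map L.toLinearMap) :=
    Submodule.map_injective_of_injective L.injective
  have hconst : (Cfsg.permConstants K G α).toSubmodule.map L.toLinearMap =
      CyclicPoly.polyFun 1 := by
    ext f
    rw [Submodule.mem_map, CyclicPoly.mem_polyFun]
    constructor
    · rintro ⟨w, hw, rfl⟩
      obtain ⟨c, rfl⟩ := Module.mem_permConstants.1 hw
      exact ⟨Polynomial.C c, lt_of_le_of_lt Polynomial.degree_C_le (by exact_mod_cast Nat.one_pos),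
        fun j => by simp [L, LinearEquiv.funCongrLeft]⟩
    · rintro ⟨P, hP, hf⟩
      refine ⟨fun _ => P.coeff 0, Module.mem_permConstants.2 ⟨_, rfl⟩, ?_⟩
      funext j
      have : P = Polynomial.C (P.coeff 0) := Polynomial.eq_C_of_degree_le_zero
        (Polynomial.degree_le_iff_coeff_zero P 0 |>.2 fun m hm =>
          (Polynomial.degree_lt_iff_coeff_zero P 1).1 hP m (by exact_mod_cast hm))
      rw [hf, this]
      simp [L, LinearEquiv.funCongrLeft]
  have hsum : (Cfsg.permSumZero K G α).toSubmodule.map L.toLinearMap =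
      CyclicPoly.polyFun (p - 1) := by
    ext f
    rw [Submodule.mem_map]
    constructor
    · rintro ⟨w, hw, rfl⟩
      refine CyclicPoly.mem_of_moments (by omega) fun i hi => ?_
      obtain rfl : i = 0 := by omega
      simp only [pow_zero, mul_one]
      rw [← Module.mem_permSumZero.1 hw]
      exact Fintype.sum_equiv e _ _ (fun j => rfl)
    · intro hf
      refine ⟨L.symm f, ?_, L.apply_symm_apply f⟩
      rw [Module.mem_permSumZero, ← CyclicPoly.sum_eq_zero_of_mem le_rfl hf]
      exact (Fintype.sum_equiv e _ _ (fun j => by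
        simp [L, LinearEquiv.funCongrLeft])).symm
  have hr1 : 1 ≤ r := by
    by_contra h
    have hle : CyclicPoly.polyFun (p := p) (K := K) 1 ≤ CyclicPoly.polyFun r := by
      rw [← hWr, ← hconst]; exact Submodule.map_mono h₁
    have := Submodule.finrank_mono hle
    rw [CyclicPoly.finrank_polyFun (by omega), CyclicPoly.finrank_polyFun (by omega)] at this
    omega
  have hrp : r ≤ p - 1 := by
    have hle : CyclicPoly.polyFun r ≤ CyclicPoly.polyFun (p := p) (K := K) (p - 1) := by
      rw [← hWr, ← hsum]; exact Submodule.map_mono h₂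
    have := Submodule.finrank_mono hle
    rwa [CyclicPoly.finrank_polyFun hr, CyclicPoly.finrank_polyFun (by omega)] at this
  rcases eq_or_lt_of_le hr1 with h | h
  · left
    apply Subrepresentation.toSubmodule_injective
    exact hinj (hWr.trans (h ▸ hconst.symm))
  rcases eq_or_lt_of_le hrp with h' | h'
  · right
    apply Subrepresentation.toSubmodule_injective
    exact hinj (hWr.trans (h' ▸ hsum.symm))
  exfalso
  apply hG
  apply PrimeDegree.isSolvable_of_affine e
  intro σ hσ
  refine CyclicPoly.affine_of_invariant (r := r) h (by omega) _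
    (fun f hf => hWr ▸ hW' σ hσ f (hWr ▸ hf)) (fun f hf => ?_)
  have := hW' σ⁻¹ (inv_mem hσ) f (hWr ▸ hf)
  rw [hWr] at this
  exact this

end CfsgLib.Perm.Heart
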