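import Mathlib
import Cfsg.Agent.Perm.Heart
import Cfsg.Agent.S0671

/-!
Burnside's theorem on groups of prime degree.
-/

namespace CfsgLib.Perm.PrimeDegree

open MulAction CfsgLib.Perm

/-- A transitive group of prime degree is soluble or 2-transitive. -/
theorem burnside {α : Type*} [Fintype α] {p : ℕ} [hp : Fact p.Prime] (hα : Fintype.card α = p)
    (G : Subgroup (Equiv.Perm α)) [IsPretransitive G α] :
    Group.IsSolvable G ∨ IsMultiplyPretransitive G α 2 := by
  classical
  rw [or_iff_not_imp_left]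
  intro hG
  have hp5 : 3 < p := not_le.1 fun h => hG (isSolvable_of_card_le_three hα h G)
  refine Cfsg.Agent.S0671.result (K := ZMod p) (p := p) (f := 1) le_rfl (by rw [hα, pow_one])
    (fun W W' h₁ hlt h₂ => ?_)
  have hS : W' = Cfsg.permSumZero (ZMod p) G α := by
    rcases Heart.between_eq hα G hG W' (h₁.trans hlt.le) h₂ with h | h
    · exfalso
      rw [h] at hlt
      exact absurd (lt_of_le_of_lt h₁ hlt) (lt_irrefl _)
    · exact h
  have hC : W = Cfsg.permConstants (ZMod p) G α := by
    rcases Heart.between_eq hα G hG W h₁ (hlt.le.trans h₂) with h | h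
    · exact h
    · exfalso
      rw [h, hS] at hlt
      exact lt_irrefl _ hlt
  obtain ⟨g, hg, hg1, -⟩ := exists_cycle hα G
  obtain ⟨a, ha⟩ : ∃ a, g a ≠ a := by
    by_contra h
    simp only [not_exists, not_not] at h
    exact hg1 (Equiv.ext h)
  let γ : G := ⟨g, hg⟩
  have hga : γ⁻¹ • a ≠ a := fun h => ha (inv_smul_eq_iff.1 h).symm
  obtain ⟨c, hca⟩ : ∃ c, c ≠ a := ⟨g a, ha⟩
  refine ⟨γ, Pi.single a 1 - Pi.single c 1, ?_, fun h => ?_⟩
  · rw [hS, Module.mem_permSumZero]; simp
  rw [hC] at h
  obtain ⟨k, hk⟩ := Module.mem_permConstants.1 h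
  obtain ⟨x, hx⟩ : ∃ x, x ∉ ({a, c, γ • a, γ • c} : Finset α) := by
    by_contra hcon
    simp only [not_exists, not_not] at hcon
    have h1 := Finset.card_le_card (fun y (_ : y ∈ (Finset.univ : Finset α)) => hcon y)
    rw [Finset.card_univ, hα] at h1
    have h4 : ({a, c, γ • a, γ • c} : Finset α).card ≤ 4 := Finset.card_le_four
    have : p ≠ 4 := fun h => by
      have := hp.out; rw [h] at this; norm_num at this
    omega
  simp only [Finset.mem_insert, Finset.mem_singleton, not_or] at hx
  have hk0 : k = 0 := by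
    have e := congrFun hk x
    rw [Pi.sub_apply, Module.permRep_apply, Pi.sub_apply] at e
    simp [Pi.single_apply, inv_smul_eq_iff, hx] at e
    exact e.symm
  have e := congrFun hk a
  rw [hk0, Pi.sub_apply, Module.permRep_apply, Pi.sub_apply] at e
  simp [Pi.single_apply, hga, hca.symm] at e
  split_ifs at e with h3
  · exact (two_ne_zero_aux p hp5) (by linear_combination -e)
  · simp at e
where
  two_ne_zero_aux (p : ℕ) (h : 3 < p) : (2 : ZMod p) ≠ 0 := fun h2 => by
    have : (p : ℕ) ∣ 2 := (ZMod.natCast_eq_zero_iff 2 p).1 (by exact_mod_cast h2)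
    have := Nat.le_of_dvd two_pos this
    omega

end CfsgLib.Perm.PrimeDegree
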