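import Mathlib
import Cfsg.Agent.Perm.Module
import Cfsg.Agent.Perm.PrimeDegree

/-!
Sylow `p`-subgroups of groups of prime degree `p`.
-/

namespace CfsgLib.Perm.PrimeDegree

open MulAction

variable {α : Type*} [Fintype α] {p : ℕ} [hp : Fact p.Prime]

/-- The order of a group of degree `p` is not divisible by `p ^ 2`. -/
theorem not_sq_dvd_card (hα : Fintype.card α = p) (G : Subgroup (Equiv.Perm α)) :
    ¬ p ^ 2 ∣ Nat.card G := by
  classical
  intro h
  have h1 : p ^ 2 ∣ p.factorial := by
    have h2 := Subgroup.card_subgroup_dvd_card G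
    rw [Nat.card_perm, Nat.card_eq_fintype_card (α := α), hα] at h2
    exact h.trans h2
  rw [← Nat.mul_factorial_pred hp.out.ne_zero, pow_two, Nat.mul_dvd_mul_iff_left hp.out.pos,
    hp.out.dvd_factorial] at h1
  have := hp.out.pos
  omega

theorem dvd_card (hα : Fintype.card α = p) (G : Subgroup (Equiv.Perm α)) [IsPretransitive G α] :
    p ∣ Nat.card G := by
  haveI : Nonempty α := Fintype.card_pos_iff.1 (hα ▸ hp.out.pos)
  rw [← hα, ← Nat.card_eq_fintype_card,
    ← index_stabilizer_of_transitive G (Classical.arbitrary α)]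
  exact Subgroup.index_dvd_card _

/-- The Sylow `p`-subgroups have order `p`. -/
theorem card_sylow (hα : Fintype.card α = p) (G : Subgroup (Equiv.Perm α)) [IsPretransitive G α]
    (P : Sylow p G) : Nat.card (P : Subgroup G) = p := by
  classical
  have hle : (Nat.card G).factorization p ≤ 1 := by
    by_contra h
    exact not_sq_dvd_card hα G
      ((hp.out.pow_dvd_iff_le_factorization Nat.card_pos.ne').2 (by omega))
  have hge := (hp.out.dvd_iff_one_le_factorization Nat.card_pos.ne').1 (dvd_card hα G)
  rw [P.card_eq_multiplicity, show (Nat.card G).factorization p = 1 by omega, pow_one]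

end CfsgLib.Perm.PrimeDegree
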