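import Mathlib
import Cfsg.Agent.Characters.Classes
import Cfsg.Agent.Characters.Linear

/-!
Isotypic projections of a complex representation of a finite group, and when the commutant is
commutative.
-/

namespace CfsgLib.Perm.Isotypic

open Representation CfsgLib.Characters
open scoped ComplexConjugate

universe u v

variable {G : Type u} [Group G] [Fintype G] {V : Type v} [AddCommGroup V] [Module ℂ V]
  [FiniteDimensional ℂ V] (ρ : Representation ℂ G V)

/-- `T` commutes with the representation. -/
def IsInter (T : V →ₗ[ℂ] V) : Prop := ∀ g x, T (ρ g x) = ρ g (T x)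

/-- A nonzero subrepresentation contains an irreducible one. -/
theorem exists_irr_le (T : Subrepresentation ρ) (hT : T.toSubmodule ≠ ⊥) :
    ∃ S : Subrepresentation ρ, S.toSubmodule ≤ T.toSubmodule ∧
      S.toRepresentation.IsIrreducible := by
  classical
  have hex : ∃ n, ∃ S : Subrepresentation ρ, S.toSubmodule ≤ T.toSubmodule ∧
      0 < Module.finrank ℂ S.toSubmodule ∧ Module.finrank ℂ S.toSubmodule = n :=
    ⟨_, T, le_rfl, Submodule.one_le_finrank_iff.2 hT, rfl⟩
  obtain ⟨S, hle, hpos, hS⟩ := Nat.find_spec hex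
  refine ⟨S, hle, ?_⟩
  haveI : Nontrivial S.toSubmodule := Module.finrank_pos_iff.1 hpos
  refine isIrreducible_of_forall _ fun U hU => ?_
  rcases Nat.eq_zero_or_pos (Module.finrank ℂ U) with h0 | h0
  · exact Or.inl (Submodule.finrank_eq_zero.1 h0)
  · refine Or.inr (Submodule.eq_top_of_finrank_eq ?_)
    have hle' := U.finrank_le
    have hmap : Module.finrank ℂ (U.map S.toSubmodule.subtype) = Module.finrank ℂ U :=
      (Submodule.equivMapOfInjective _ S.toSubmodule.injective_subtype U).finrank_eq.symm
    have := Nat.find_min' hex (m := Module.finrank ℂ U)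
      ⟨⟨U.map S.toSubmodule.subtype, by
        rintro g _ ⟨x, hx, rfl⟩
        exact ⟨_, hU g x hx, rfl⟩⟩, (Submodule.map_subtype_le _ _).trans hle,
        by rw [hmap]; exact h0, hmap⟩
    omega

/-- Linear maps agreeing on every irreducible subrepresentation are equal. -/
theorem ext_irr {W : Type*} [AddCommGroup W] [Module ℂ W] {A B : V →ₗ[ℂ] W}
    (h : ∀ S : Subrepresentation ρ, S.toRepresentation.IsIrreducible →
      ∀ x ∈ S.toSubmodule, A x = B x) : A = B := by
  let M : Submodule ℂ V := ⨆ S : {S : Subrepresentation ρ // S.toRepresentation.IsIrreducible},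
    S.1.toSubmodule
  have hMinv : ∀ g x, x ∈ M → ρ g x ∈ M := by
    intro g x hx
    have : M ≤ M.comap (ρ g) := iSup_le fun S y hy =>
      le_iSup (fun S : {S : Subrepresentation ρ // S.toRepresentation.IsIrreducible} =>
        S.1.toSubmodule) S (S.1.apply_mem_toSubmodule g hy)
    exact this hx
  obtain ⟨T, hT⟩ := exists_compl ρ ⟨M, fun g x hx => hMinv g x hx⟩
  have hT0 : T.toSubmodule = ⊥ := by
    by_contra h0
    obtain ⟨S, hle, hS⟩ := exists_irr_le ρ T h0
    have hSM : S.toSubmodule ≤ M :=
      le_iSup (fun S : {S : Subrepresentation ρ // S.toRepresentation.IsIrreducible} =>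
        S.1.toSubmodule) ⟨S, hS⟩
    have hS0 : S.toSubmodule = ⊥ := le_bot_iff.1 fun x hx =>
      hT.disjoint.le_bot ⟨hSM hx, hle hx⟩
    haveI := hS
    have := finrank_pos_of_isIrreducible S.toRepresentation
    rw [hS0, finrank_bot] at this
    exact lt_irrefl 0 this
  have htop : M = ⊤ := by
    have := hT.sup_eq_top
    rwa [hT0, sup_bot_eq] at this
  ext x
  have : M ≤ LinearMap.eqLocus A B := iSup_le fun S y hy => h S.1 S.2 y hy
  exact this (htop ▸ Submodule.mem_top)

theorem avgOp_sub_apply (θ : G → ℂ) (S : Subrepresentation ρ) (x : S.toSubmodule) :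
    ((avgOp θ S.toRepresentation x : S.toSubmodule) : V) = avgOp θ ρ (x : V) := by
  simp [avgOp, Subrepresentation.toRepresentation]

/-- The projection attached to a character. -/
noncomputable def proj (χ : G → ℂ) : V →ₗ[ℂ] V := (χ 1 / (Nat.card G : ℂ)) • avgOp χ ρ

theorem proj_comm {χ : G → ℂ} (hχ : Cfsg.IsClassFunction G χ) : IsInter ρ (proj ρ χ) := by
  intro g x
  simp [proj, avgOp_comm hχ]

theorem proj_apply_irr {χ : G → ℂ} (hχ : Cfsg.IsIrrCharacter G χ) (S : Subrepresentation ρ)
    (hS : S.toRepresentation.IsIrreducible) {x : V} (hx : x ∈ S.toSubmodule)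
    [Decidable (χ = S.toRepresentation.character)] :
    proj ρ χ x = if χ = S.toRepresentation.character then x else 0 := by
  haveI := hS
  obtain ⟨c, hc⟩ := schur_scalar S.toRepresentation _
    (avgOp_comm (isClassFunction_of_isIrr hχ) S.toRepresentation)
  have ht := trace_avgOp χ S.toRepresentation
  rw [hc, map_smul, show (LinearMap.id : S.toSubmodule →ₗ[ℂ] S.toSubmodule) = 1 from rfl,
    LinearMap.trace_one, smul_eq_mul, ← Representation.char_one S.toRepresentation] at ht
  have hx' : avgOp χ ρ x = c • x := by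
    rw [← avgOp_sub_apply ρ χ S ⟨x, hx⟩, hc]; rfl
  rw [proj, LinearMap.smul_apply, hx', smul_smul]
  split_ifs with h
  · rw [← h, classInner_isIrr_self hχ, mul_one] at ht
    rw [div_mul_eq_mul_div, mul_comm, ht, div_self (natCard_ne_zero (G := G)), one_smul]
  · rw [classInner_isIrr_ne hχ (isIrrCharacter_character _) h, mul_zero, mul_eq_zero] at ht
    rw [(ht.resolve_right (irr_one_ne_zero (isIrrCharacter_character S.toRepresentation))),
      mul_zero, zero_smul]

theorem proj_idem {χ : G → ℂ} (hχ : Cfsg.IsIrrCharacter G χ) (x : V) :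
    proj ρ χ (proj ρ χ x) = proj ρ χ x := by
  classical
  have : proj ρ χ ∘ₗ proj ρ χ = proj ρ χ := by
    refine ext_irr ρ fun S hS y hy => ?_
    rw [LinearMap.comp_apply, proj_apply_irr ρ hχ S hS hy]
    split_ifs with h
    · rw [proj_apply_irr ρ hχ S hS hy, if_pos h]
    · exact map_zero _
  exact LinearMap.congr_fun this x

theorem trace_proj (χ : G → ℂ) :
    LinearMap.trace ℂ V (proj ρ χ) = χ 1 * Cfsg.classInner χ ρ.character := by
  rw [proj, map_smul, trace_avgOp, smul_eq_mul, ← mul_assoc,
    div_mul_cancel₀ _ (natCard_ne_zero (G := G))]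

theorem sum_proj : ∑ χ : Cfsg.IrrCharacter G, proj ρ (χ : G → ℂ) = LinearMap.id := by
  classical
  refine ext_irr ρ fun S hS x hx => ?_
  haveI := hS
  rw [LinearMap.sum_apply, LinearMap.id_apply,
    Finset.sum_eq_single (irrOf S.toRepresentation) ?_ (by simp)]
  · rw [proj_apply_irr ρ (irrOf _).2 S hS hx]
    exact if_pos rfl
  · intro χ _ hne
    rw [proj_apply_irr ρ χ.2 S hS hx]
    exact if_neg fun h => hne (Subtype.ext h)

theorem char_split (S T : Subrepresentation ρ) (h : IsCompl S.toSubmodule T.toSubmodule) :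
    ρ.character = S.toRepresentation.character + T.toRepresentation.character := by
  rw [← char_prod, Representation.char_iso (prodEquivOfCompl ρ S T h)]

/-- The multiplicity in a subrepresentation is at most that in the whole. -/
theorem exists_mult_le (S : Subrepresentation ρ) {χ : G → ℂ} (hχ : Cfsg.IsIrrCharacter G χ) :
    ∃ a b : ℕ, Cfsg.classInner S.toRepresentation.character χ = a ∧
      Cfsg.classInner ρ.character χ = (a + b : ℕ) := by
  obtain ⟨T, hT⟩ := exists_compl ρ S
  obtain ⟨a, ha⟩ := classInner_character_irr (isCharacter_character S.toRepresentation) hχ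
  obtain ⟨b, hb⟩ := classInner_character_irr (isCharacter_character T.toRepresentation) hχ
  refine ⟨a, b, ha, ?_⟩
  rw [char_split ρ S T hT, classInner_add_left, ha, hb, Nat.cast_add]

theorem classInner_symm {S : Type*} [AddCommGroup S] [Module ℂ S] [FiniteDimensional ℂ S]
    (σ : Representation ℂ G S) {χ : G → ℂ} (hχ : Cfsg.IsIrrCharacter G χ) :
    Cfsg.classInner χ σ.character = Cfsg.classInner σ.character χ := by
  obtain ⟨m, hm⟩ := classInner_character_irr (isCharacter_character σ) hχ
  rw [classInner_conj_symm σ.character χ, hm]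
  simp

/-- A constituent of a subrepresentation is realised inside it. -/
theorem exists_irr_of_constituent (T : Subrepresentation ρ) {χ : G → ℂ}
    (hχ : Cfsg.IsIrrCharacter G χ) (h : Cfsg.classInner T.toRepresentation.character χ ≠ 0) :
    ∃ S : Subrepresentation T.toRepresentation, S.toRepresentation.IsIrreducible ∧
      S.toRepresentation.character = χ := by
  classical
  by_contra hne
  have hzero : proj T.toRepresentation χ = 0 := by
    refine ext_irr T.toRepresentation fun S hS x hx => ?_
    rw [proj_apply_irr _ hχ S hS hx, if_neg fun h' => hne ⟨S, hS, h'.symm⟩]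
    rfl
  have ht := trace_proj T.toRepresentation χ
  rw [hzero, map_zero, classInner_symm _ hχ] at ht
  rcases mul_eq_zero.1 ht.symm with h' | h'
  · exact irr_one_ne_zero hχ h'
  · exact h h'

/-- The character of an irreducible subrepresentation is a constituent. -/
theorem constituent_of_irr (S : Subrepresentation ρ) (hS : S.toRepresentation.IsIrreducible) :
    Cfsg.classInner ρ.character S.toRepresentation.character ≠ 0 := by
  haveI := hS
  obtain ⟨a, b, ha, hab⟩ := exists_mult_le ρ S (isIrrCharacter_character S.toRepresentation)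
  rw [classInner_isIrr_self (isIrrCharacter_character _)] at ha
  rw [hab]
  have : a = 1 := by exact_mod_cast ha.symm
  exact_mod_cast (by omega : a + b ≠ 0)

/-- In a multiplicity free representation a commuting map is scalar on each isotypic part. -/
theorem inter_comp_proj {χ : G → ℂ} (hχ : Cfsg.IsIrrCharacter G χ)
    (hm : Cfsg.classInner ρ.character χ = 1) {T : V →ₗ[ℂ] V} (hT : IsInter ρ T) :
    ∃ c : ℂ, ∀ x, T (proj ρ χ x) = c • proj ρ χ x := by
  classical
  have hcomm : ∀ x, T (proj ρ χ x) = proj ρ χ (T x) := by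
    intro x
    simp only [proj, avgOp, LinearMap.smul_apply, LinearMap.sum_apply, map_smul, map_sum, hT _ x]
  let U : Subrepresentation ρ := ⟨LinearMap.range (proj ρ χ), fun g y hy => by
    obtain ⟨x, rfl⟩ := hy
    exact ⟨ρ g x, proj_comm ρ (isClassFunction_of_isIrr hχ) g x⟩⟩
  have hrank : (Module.finrank ℂ U.toSubmodule : ℂ) = χ 1 := by
    have hp : LinearMap.IsProj (LinearMap.range (proj ρ χ)) (proj ρ χ) :=
      ⟨fun x => LinearMap.mem_range_self _ x, fun y hy => by
        obtain ⟨x, rfl⟩ := hy
        exact proj_idem ρ hχ x⟩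
    rw [← hp.trace, trace_proj, classInner_symm ρ hχ, hm, mul_one]
  have hU0 : U.toSubmodule ≠ ⊥ := by
    intro h0
    rw [h0, finrank_bot, Nat.cast_zero] at hrank
    exact irr_one_ne_zero hχ hrank.symm
  obtain ⟨S, hle, hS⟩ := exists_irr_le ρ U hU0
  haveI := hS
  have hchar : χ = S.toRepresentation.character := by
    by_contra hne
    haveI := nontrivial_of_isIrreducible S.toRepresentation
    obtain ⟨⟨y, hy⟩, hy0⟩ := exists_ne (0 : S.toSubmodule)
    obtain ⟨x, hx⟩ := hle hy
    have h1 := proj_apply_irr ρ hχ S hS hy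
    rw [if_neg hne, ← hx, proj_idem ρ hχ, hx] at h1
    exact hy0 (Subtype.ext h1)
  have hSU : S.toSubmodule = U.toSubmodule := by
    refine Submodule.eq_of_le_of_finrank_eq hle ?_
    have : (Module.finrank ℂ S.toSubmodule : ℂ) = (Module.finrank ℂ U.toSubmodule : ℂ) := by
      rw [hrank, hchar, Representation.char_one]
    exact_mod_cast this
  have hmap : ∀ y ∈ S.toSubmodule, T y ∈ S.toSubmodule := by
    intro y hy
    rw [hSU] at hy ⊢
    obtain ⟨x, rfl⟩ := hy
    exact ⟨T x, (hcomm x).symm⟩
  obtain ⟨c, hc⟩ := schur_scalar S.toRepresentation (T.restrict hmap)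
    (fun g x => Subtype.ext (hT g x.1))
  refine ⟨c, fun x => ?_⟩
  have hx : proj ρ χ x ∈ S.toSubmodule := hSU.symm ▸ LinearMap.mem_range_self _ x
  exact congrArg Subtype.val (LinearMap.congr_fun hc ⟨_, hx⟩)

/-- Commuting maps commute with one another exactly when there are no repeated constituents. -/
theorem comm_iff : (∀ χ : G → ℂ, Cfsg.IsIrrCharacter G χ →
      Cfsg.classInner ρ.character χ = 0 ∨ Cfsg.classInner ρ.character χ = 1) ↔
    ∀ S T : V →ₗ[ℂ] V, IsInter ρ S → IsInter ρ T → S ∘ₗ T = T ∘ₗ S := by
  classical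
  constructor
  · intro h S T hS hT
    refine ext_irr ρ fun R hR x hx => ?_
    haveI := hR
    have hm := (h _ (isIrrCharacter_character R.toRepresentation)).resolve_left
      (constituent_of_irr ρ R hR)
    have hpx : proj ρ R.toRepresentation.character x = x := by
      rw [proj_apply_irr ρ (isIrrCharacter_character _) R hR hx, if_pos rfl]
    obtain ⟨c, hc⟩ := inter_comp_proj ρ (isIrrCharacter_character R.toRepresentation) hm hS
    obtain ⟨d, hd⟩ := inter_comp_proj ρ (isIrrCharacter_character R.toRepresentation) hm hT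
    have h1 := hc x
    have h2 := hd x
    rw [hpx] at h1 h2
    rw [LinearMap.comp_apply, LinearMap.comp_apply, h1, h2, map_smul, map_smul, h1, h2,
      smul_comm]
  · intro h χ hχ
    by_contra hne
    rw [not_or] at hne
    obtain ⟨S₁', hS₁', hc₁'⟩ := exists_irr_of_constituent ρ ⊤ hχ (by
      have htop : (⊤ : Subrepresentation ρ).toRepresentation.character = ρ.character := by
        refine Representation.char_iso (Representation.Equiv.mk (Submodule.topEquiv) fun g => ?_)
        ext x; rfl
      rw [htop]; exact hne.1)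
    -- move it into `ρ`
    let S₁ : Subrepresentation ρ := ⟨S₁'.toSubmodule.map (⊤ : Subrepresentation ρ).toSubmodule.subtype, by
      rintro g _ ⟨x, hx, rfl⟩
      exact ⟨_, S₁'.apply_mem_toSubmodule g hx, rfl⟩⟩
    let e₁ : S₁'.toRepresentation.Equiv S₁.toRepresentation :=
      Representation.Equiv.mk (Submodule.equivMapOfInjective _
        (⊤ : Subrepresentation ρ).toSubmodule.injective_subtype S₁'.toSubmodule)
        fun g => by ext x; rfl
    have hc₁ : S₁.toRepresentation.character = χ := by
      rw [← Representation.char_iso e₁, hc₁']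
    obtain ⟨T₁, hST⟩ := exists_compl ρ S₁
    have hT1 : Cfsg.classInner T₁.toRepresentation.character χ ≠ 0 := by
      intro h0
      apply hne.2
      rw [char_split ρ S₁ T₁ hST, classInner_add_left, h0, add_zero, hc₁,
        classInner_isIrr_self hχ]
    obtain ⟨S₂, hS₂, hc₂⟩ := exists_irr_of_constituent ρ T₁ hχ hT1
    obtain ⟨φ⟩ := equiv_of_char_eq S₁.toRepresentation S₂.toRepresentation (hc₁.trans hc₂.symm)
    let E := Submodule.prodEquivOfIsCompl _ _ hST
    let j : S₁.toSubmodule →ₗ[ℂ] V :=
      T₁.toSubmodule.subtype ∘ₗ S₂.toSubmodule.subtype ∘ₗ φ.toLinearEquiv.toLinearMap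
    let π₁ : V →ₗ[ℂ] S₁.toSubmodule := LinearMap.fst ℂ _ _ ∘ₗ E.symm.toLinearMap
    have hπ : ∀ g x, π₁ (ρ g x) = S₁.toRepresentation g (π₁ x) := by
      intro g x
      have := equiv_map (prodEquivOfCompl ρ S₁ T₁ hST).symm g x
      exact congrArg Prod.fst this
    let e : V →ₗ[ℂ] V := S₁.toSubmodule.subtype ∘ₗ π₁
    let f : V →ₗ[ℂ] V := j ∘ₗ π₁
    have he : IsInter ρ e := fun g x => congrArg Subtype.val (hπ g x)
    have hf : IsInter ρ f := fun g x => by
      show j (π₁ (ρ g x)) = ρ g (j (π₁ x))
      rw [hπ]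
      show ((φ.toLinearEquiv (S₁.toRepresentation g (π₁ x)) : T₁.toSubmodule) : V) = _
      rw [equiv_map φ]
      rfl
    haveI := hS₂
    haveI : Nontrivial S₁.toSubmodule :=
      φ.toLinearEquiv.toEquiv.nontrivial_congr.2 (nontrivial_of_isIrreducible S₂.toRepresentation)
    obtain ⟨s, hs⟩ := exists_ne (0 : S₁.toSubmodule)
    have hps : π₁ (s : V) = s := by
      show (E.symm (s : V)).1 = s
      rw [Submodule.prodEquivOfIsCompl_symm_apply_left]
    have hpj : π₁ (j s) = 0 := by
      show (E.symm (((φ.toLinearEquiv s : T₁.toSubmodule)) : V)).1 = 0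
      rw [Submodule.prodEquivOfIsCompl_symm_apply_right]
    have := LinearMap.congr_fun (h e f he hf) (s : V)
    simp only [LinearMap.comp_apply, e, f] at this
    rw [hps] at this
    rw [hpj] at this
    simp only [Submodule.subtype_apply, hps] at this
    apply hs
    have hj : j s = 0 := by simpa using this.symm
    have : φ.toLinearEquiv s = 0 := Subtype.ext (Subtype.ext hj)
    exact φ.toLinearEquiv.map_eq_zero_iff.1 this

end CfsgLib.Perm.Isotypic
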