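import Mathlib
import Cfsg.Prelude.Def_Perm
import Cfsg.Agent.Perm.Isotypic
import Cfsg.Agent.Characters.Integrality

/-!
The permutation character: its norm, its trivial constituent, self-paired orbitals, and the
divisibility of subdegrees by common divisors of constituent degrees.
-/

namespace CfsgLib.Perm.PermChar

open Representation CfsgLib.Characters Module
open scoped ComplexConjugate

universe u v

variable (G : Type u) [Group G] [Fintype G] (Ω : Type v) [Fintype Ω] [MulAction G Ω]

/-- The permutation character. -/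
noncomputable def perm : G → ℂ := fun g => (Nat.card (MulAction.fixedBy Ω g) : ℂ)

variable {G Ω}

omit [Fintype G] in
theorem character_permRep : (Cfsg.permRep ℂ G Ω).character = perm G Ω := by
  classical
  funext g
  rw [Representation.character, LinearMap.trace_eq_matrix_trace ℂ (Pi.basisFun ℂ Ω), Matrix.trace,
    perm, Nat.card_coe_set_eq, Set.ncard_eq_toFinset_card']
  have : (MulAction.fixedBy Ω g).toFinset = Finset.univ.filter (fun x => g⁻¹ • x = x) := by
    ext x
    simp only [Set.mem_toFinset, MulAction.mem_fixedBy, Finset.mem_filter, Finset.mem_univ,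
      true_and]
    rw [inv_smul_eq_iff, eq_comm]
  rw [this, Finset.card_filter, Nat.cast_sum]
  refine Finset.sum_congr rfl fun x _ => ?_
  rw [Matrix.diag, LinearMap.toMatrix_apply, Pi.basisFun_apply, Pi.basisFun_repr]
  show (Pi.single x (1 : ℂ) : Ω → ℂ) (g⁻¹ • x) = _
  rw [Pi.single_apply]
  split_ifs <;> simp

theorem isCharacter_perm : Cfsg.IsCharacter G (perm G Ω) := by
  rw [← character_permRep]; exact isCharacter_character _

theorem perm_one : perm G Ω 1 = (Nat.card Ω : ℂ) := by
  rw [perm]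
  norm_cast
  exact Nat.card_congr ((Equiv.setCongr (by ext x; simp)).trans (Equiv.Set.univ Ω))

/-- The norm of the permutation character is the rank. -/
theorem norm_perm : Cfsg.classInner (perm G Ω) (perm G Ω) =
    (Nat.card (MulAction.orbitRel.Quotient G (Ω × Ω)) : ℂ) := by
  classical
  have hb := MulAction.sum_card_fixedBy_eq_card_orbits_mul_card_group G (Ω × Ω)
  have hfix : ∀ g : G, Fintype.card (MulAction.fixedBy (Ω × Ω) g) =
      Nat.card (MulAction.fixedBy Ω g) * Nat.card (MulAction.fixedBy Ω g) := by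
    intro g
    rw [← Nat.card_eq_fintype_card, ← Nat.card_prod]
    exact Nat.card_congr
      { toFun := fun p => (⟨p.1.1, congrArg Prod.fst p.2⟩, ⟨p.1.2, congrArg Prod.snd p.2⟩)
        invFun := fun p => ⟨(p.1.1, p.2.1), Prod.ext p.1.2 p.2.2⟩
        left_inv := fun _ => rfl
        right_inv := fun _ => rfl }
  rw [Finset.sum_congr rfl fun g _ => hfix g] at hb
  rw [Cfsg.classInner]
  have h1 : ∀ g : G, perm G Ω g * conj (perm G Ω g) =
      ((Nat.card (MulAction.fixedBy Ω g) * Nat.card (MulAction.fixedBy Ω g) : ℕ) : ℂ) := by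
    intro g
    simp [perm]
  rw [Finset.sum_congr rfl fun g _ => h1 g, ← Nat.cast_sum, hb, Nat.cast_mul,
    ← Nat.card_eq_fintype_card (α := G), ← Nat.card_eq_fintype_card,
    mul_comm (_ : ℂ) (Nat.card G : ℂ), ← mul_assoc,
    inv_mul_cancel₀ (natCard_ne_zero (G := G)), one_mul]

/-- The trivial constituent occurs once for each orbit. -/
theorem inner_one : Cfsg.classInner (perm G Ω) (fun _ => 1) =
    (Nat.card (MulAction.orbitRel.Quotient G Ω) : ℂ) := by
  classical
  have hb := MulAction.sum_card_fixedBy_eq_card_orbits_mul_card_group G Ω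
  rw [Cfsg.classInner]
  have h1 : ∀ g : G, perm G Ω g * conj ((fun _ => 1 : G → ℂ) g) =
      ((Fintype.card (MulAction.fixedBy Ω g) : ℕ) : ℂ) := by
    intro g
    simp [perm, Nat.card_eq_fintype_card]
  rw [Finset.sum_congr rfl fun g _ => h1 g, ← Nat.cast_sum, hb, Nat.cast_mul,
    ← Nat.card_eq_fintype_card (α := G), ← Nat.card_eq_fintype_card,
    mul_comm (_ : ℂ) (Nat.card G : ℂ), ← mul_assoc,
    inv_mul_cancel₀ (natCard_ne_zero (G := G)), one_mul]

theorem inner_one_of_transitive [Nonempty Ω] [MulAction.IsPretransitive G Ω] :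
    Cfsg.classInner (perm G Ω) (fun _ => 1) = 1 := by
  rw [inner_one]
  have : Nat.card (MulAction.orbitRel.Quotient G Ω) = 1 := by
    haveI := (MulAction.pretransitive_iff_subsingleton_quotient G Ω).1 inferInstance
    haveI : Nonempty (MulAction.orbitRel.Quotient G Ω) :=
      ⟨Quotient.mk _ (Classical.arbitrary Ω)⟩
    exact Nat.card_unique
  rw [this, Nat.cast_one]

/-- Multiplicities: degree and norm. -/
theorem exists_mult : ∃ m : Cfsg.IrrCharacter G → ℕ,
    (∀ χ : Cfsg.IrrCharacter G, Cfsg.classInner (perm G Ω) (χ : G → ℂ) = m χ) ∧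
    ((Nat.card Ω : ℂ) = ∑ χ, (m χ : ℂ) * (χ : G → ℂ) 1) ∧
    Nat.card (MulAction.orbitRel.Quotient G (Ω × Ω)) = ∑ χ, m χ * m χ := by
  have h := isCharacter_perm (G := G) (Ω := Ω)
  choose m hm using fun χ : Cfsg.IrrCharacter G => classInner_character_irr h χ.2
  refine ⟨m, hm, ?_, ?_⟩
  · rw [← perm_one (G := G)]
    conv_lhs => rw [character_expansion h]
    simp only [hm, Finset.sum_apply, Pi.smul_apply, smul_eq_mul]
  · have h2 := classInner_eq_sum (isClassFunction_of_isCharacter h) (perm G Ω)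
    rw [norm_perm] at h2
    have h3 : (Nat.card (MulAction.orbitRel.Quotient G (Ω × Ω)) : ℂ) =
        ((∑ χ, m χ * m χ : ℕ) : ℂ) := by
      rw [h2, Nat.cast_sum]
      refine Finset.sum_congr rfl fun χ _ => ?_
      simp [hm]
    exact_mod_cast h3

/-- An invariant subspace without nonzero constants contains no trivial constituent. -/
theorem inner_one_sub_eq_zero [MulAction.IsPretransitive G Ω]
    (W : Subrepresentation (Cfsg.permRep ℂ G Ω))
    (h : (fun _ => (1 : ℂ)) ∉ W.toSubmodule) :
    Cfsg.classInner W.toRepresentation.character (fun _ => 1) = 0 := by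
  by_contra hne
  obtain ⟨S, hS, hc⟩ := Isotypic.exists_irr_of_constituent (Cfsg.permRep ℂ G Ω) W
    CfsgLib.Characters.isIrr_one hne
  haveI := hS
  haveI := nontrivial_of_isIrreducible (k := ℂ) (V := S.toSubmodule) S.toRepresentation
  have h1 : Module.finrank ℂ S.toSubmodule = 1 := by
    have := congrFun hc 1
    rw [Representation.char_one] at this
    exact_mod_cast this
  obtain ⟨s, hs⟩ := exists_ne (0 : S.toSubmodule)
  have hfix : ∀ g, S.toRepresentation g s = s := by
    intro g
    rw [char_of_finrank_eq_one (V := S.toSubmodule) S.toRepresentation h1 g, hc]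
    simp
  set w : Ω → ℂ := ((s : W.toSubmodule) : Ω → ℂ) with hw
  have hwW : w ∈ W.toSubmodule := (s : W.toSubmodule).2
  have hinv : ∀ (g : G) (x : Ω), w (g⁻¹ • x) = w x := fun g x =>
    congrFun (congrArg (fun z : S.toSubmodule => ((z : W.toSubmodule) : Ω → ℂ)) (hfix g)) x
  obtain ⟨a, ha⟩ : ∃ a, w a ≠ 0 := by
    by_contra hh
    simp only [not_exists, not_not] at hh
    exact hs (Subtype.ext (Subtype.ext (funext hh)))
  apply h
  have : (fun _ => (1 : ℂ)) = (w a)⁻¹ • w := by
    funext x
    obtain ⟨g, rfl⟩ := MulAction.exists_smul_eq G a x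
    have := hinv g (g • a)
    rw [inv_smul_smul] at this
    rw [Pi.smul_apply, smul_eq_mul, ← this, inv_mul_cancel₀ ha]
  rw [this]
  exact W.toSubmodule.smul_mem _ hwW

theorem dim_modEq [Nonempty Ω] [MulAction.IsPretransitive G Ω] {f : ℕ}
    (hf : ∀ χ : G → ℂ, Cfsg.IsIrrCharacter G χ → χ ≠ (fun _ => 1) →
      Cfsg.classInner (perm G Ω) χ ≠ 0 → ∃ m : ℕ, χ 1 = (f : ℂ) * m)
    (W : Subrepresentation (Cfsg.permRep ℂ G Ω))
    [Decidable ((fun _ => (1 : ℂ)) ∈ W.toSubmodule)] :
    ∃ k : ℕ, Module.finrank ℂ W.toSubmodule =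
      (if (fun _ => (1 : ℂ)) ∈ W.toSubmodule then 1 else 0) + f * k := by
  classical
  have hW := isCharacter_character W.toRepresentation
  choose m hm using fun χ : Cfsg.IrrCharacter G => classInner_character_irr hW χ.2
  have hle : ∀ χ : Cfsg.IrrCharacter G, m χ ≠ 0 →
      Cfsg.classInner (perm G Ω) (χ : G → ℂ) ≠ 0 := by
    intro χ hχ
    obtain ⟨a, b, ha, hab⟩ := Isotypic.exists_mult_le (Cfsg.permRep ℂ G Ω) W χ.2
    rw [character_permRep] at hab
    rw [hab]
    have : a = m χ := by exact_mod_cast ha.symm.trans (hm χ)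
    exact_mod_cast (by omega : a + b ≠ 0)
  let one : Cfsg.IrrCharacter G := ⟨_, CfsgLib.Characters.isIrr_one⟩
  have hk : ∀ χ : Cfsg.IrrCharacter G, χ ≠ one → ∃ k : ℕ, (m χ : ℂ) * (χ : G → ℂ) 1 = f * k := by
    intro χ hne
    by_cases h0 : m χ = 0
    · exact ⟨0, by simp [h0]⟩
    obtain ⟨j, hj⟩ := hf χ χ.2 (fun h => hne (Subtype.ext h)) (hle χ h0)
    exact ⟨m χ * j, by rw [hj, Nat.cast_mul]; ring⟩
  choose! k hk using hk
  refine ⟨∑ χ ∈ Finset.univ.erase one, k χ, ?_⟩
  have hexp := congrFun (character_expansion hW) 1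
  rw [Representation.char_one, Finset.sum_apply, ← Finset.add_sum_erase _ _ (Finset.mem_univ one)]
    at hexp
  simp only [Pi.smul_apply, smul_eq_mul, hm] at hexp
  rw [Finset.sum_congr rfl fun χ hχ => hk χ (Finset.ne_of_mem_erase hχ), ← Finset.mul_sum,
    ← Nat.cast_sum] at hexp
  have h1 : m one = if (fun _ => (1 : ℂ)) ∈ W.toSubmodule then 1 else 0 := by
    split_ifs with hc
    · obtain ⟨a, b, ha, hab⟩ := Isotypic.exists_mult_le (Cfsg.permRep ℂ G Ω) W
        CfsgLib.Characters.isIrr_one
      rw [character_permRep, inner_one_of_transitive] at hab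
      have ha' : a = m one := by exact_mod_cast ha.symm.trans (hm one)
      have hab' : 1 = a + b := by exact_mod_cast hab
      rcases Nat.eq_zero_or_pos (m one) with h0 | h0
      · exfalso
        have hz : Isotypic.proj W.toRepresentation (fun _ => (1 : ℂ)) = 0 := by
          refine Isotypic.ext_irr W.toRepresentation fun S hS x hx => ?_
          haveI := hS
          rw [Isotypic.proj_apply_irr _ CfsgLib.Characters.isIrr_one S hS hx, if_neg, LinearMap.zero_apply]
          intro h
          obtain ⟨a', b', ha'', hab''⟩ := Isotypic.exists_mult_le W.toRepresentation S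
            CfsgLib.Characters.isIrr_one
          rw [← h, classInner_isIrr_self CfsgLib.Characters.isIrr_one] at ha''
          have e1 : a' = 1 := by exact_mod_cast ha''.symm
          have e2 : m one = a' + b' := by exact_mod_cast (hm one).symm.trans hab''
          omega
        have := congrArg (fun L => ((L ⟨_, hc⟩ : W.toSubmodule) : Ω → ℂ))  hz
        simp only [Isotypic.proj, LinearMap.smul_apply, Submodule.coe_smul,
          Isotypic.avgOp_sub_apply, LinearMap.zero_apply, Submodule.coe_zero] at this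
        have hav : avgOp (fun _ => (1 : ℂ)) (Cfsg.permRep ℂ G Ω) (fun _ => (1 : ℂ)) =
            (Nat.card G : ℂ) • (fun _ => (1 : ℂ)) := by
          funext x
          simp [avgOp, Cfsg.permRep]
        rw [hav, smul_smul, one_div, inv_mul_cancel₀ (natCard_ne_zero (G := G)), one_smul] at this
        exact one_ne_zero (congrFun this (Classical.arbitrary Ω))
      · omega
    · exact_mod_cast (hm one).symm.trans (inner_one_sub_eq_zero W hc)
  rw [← h1]
  simp only [one, mul_one] at hexp
  exact_mod_cast hexp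

/-- Common divisors of the constituent degrees divide the subdegrees. -/
theorem dvd_subdegree [MulAction.IsPretransitive G Ω] {f : ℕ}
    (hf : ∀ χ : G → ℂ, Cfsg.IsIrrCharacter G χ → χ ≠ (fun _ => 1) →
      Cfsg.classInner (perm G Ω) χ ≠ 0 → ∃ m : ℕ, χ 1 = (f : ℂ) * m)
    {a b : Ω} (hab : b ≠ a) :
    f ∣ Nat.card (MulAction.orbit (MulAction.stabilizer G a) b) := by
  classical
  haveI : Nonempty Ω := ⟨a⟩
  rcases Nat.eq_zero_or_pos f with rfl | hf0
  · exfalso
    obtain ⟨k, hk⟩ := dim_modEq hf (⊤ : Subrepresentation (Cfsg.permRep ℂ G Ω))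
    rw [show (⊤ : Subrepresentation (Cfsg.permRep ℂ G Ω)).toSubmodule = ⊤ from rfl] at hk
    rw [if_pos Submodule.mem_top, finrank_top, Module.finrank_pi, zero_mul, add_zero] at hk
    exact hab ((Fintype.card_le_one_iff.1 hk.le) b a)
  -- the orbital matrix
  let R : Ω → Ω → Prop := fun x y => ∃ g : G, g • a = x ∧ g • b = y
  let M0 : Matrix Ω Ω ℤ := Matrix.of fun x y => if R x y then 1 else 0
  let T : (Ω → ℂ) →ₗ[ℂ] (Ω → ℂ) := Matrix.toLin' (M0.map (Int.castRingHom ℂ))
  have hTapp : ∀ v x, T v x = ∑ y, (if R x y then v y else 0) := by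
    intro v x
    simp only [T, Matrix.toLin'_apply, Matrix.mulVec, dotProduct, M0, Matrix.map_apply,
      Matrix.of_apply]
    refine Finset.sum_congr rfl fun y _ => ?_
    split_ifs <;> simp
  have hR : ∀ (g : G) x y, R (g • x) (g • y) ↔ R x y := by
    intro g x y
    constructor
    · rintro ⟨h, h1, h2⟩
      exact ⟨g⁻¹ * h, by rw [mul_smul, h1, inv_smul_smul], by rw [mul_smul, h2, inv_smul_smul]⟩
    · rintro ⟨h, h1, h2⟩
      exact ⟨g * h, by rw [mul_smul, h1], by rw [mul_smul, h2]⟩
  have hT : Isotypic.IsInter (Cfsg.permRep ℂ G Ω) T := by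
    intro g v
    funext x
    show T (fun y => v (g⁻¹ • y)) x = T v (g⁻¹ • x)
    rw [hTapp, hTapp]
    refine Fintype.sum_equiv (MulAction.toPerm g⁻¹) _ _ fun y => ?_
    simp [hR]
  set d := Nat.card (MulAction.orbit (MulAction.stabilizer G a) b) with hd
  -- row sums
  have hrow : T (fun _ => 1) = (d : ℂ) • (fun _ => (1 : ℂ)) := by
    funext x
    obtain ⟨g, rfl⟩ := MulAction.exists_smul_eq G a x
    rw [hTapp, Finset.sum_boole, Pi.smul_apply, smul_eq_mul, mul_one]
    congr 1
    rw [hd, ← Fintype.card_subtype, ← Nat.card_eq_fintype_card]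
    refine (Nat.card_congr ((Equiv.subtypeEquiv (MulAction.toPerm g) fun y => ?_))).symm
    show y ∈ MulAction.orbit (MulAction.stabilizer G a) b ↔ R (g • a) (g • y)
    rw [hR]
    constructor
    · rintro ⟨⟨h, hh⟩, rfl⟩
      exact ⟨h, hh, rfl⟩
    · rintro ⟨h, hh, rfl⟩
      exact ⟨⟨h, hh⟩, rfl⟩
  -- trace zero
  have htr : LinearMap.trace ℂ _ T = 0 := by
    rw [LinearMap.trace_eq_matrix_trace ℂ (Pi.basisFun ℂ Ω), LinearMap.toMatrix_eq_toMatrix',
      LinearMap.toMatrix'_toLin', Matrix.trace]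
    refine Finset.sum_eq_zero fun x _ => ?_
    have : ¬ R x x := by
      rintro ⟨g, h1, h2⟩
      exact hab (MulAction.injective g (h2.trans h1.symm))
    simp [M0, Matrix.map_apply, this]
  -- roots
  have hsplit : T.charpoly.Splits := IsAlgClosed.splits _
  rw [Module.End.trace_eq_sum_roots_charpoly_of_splits hsplit,
    Finset.sum_multiset_count] at htr
  have hcnt : ∀ μ : ℂ, ∃ k : ℕ,
      T.charpoly.roots.count μ = (if μ = (d : ℂ) then 1 else 0) + f * k := by
    intro μ
    let W : Subrepresentation (Cfsg.permRep ℂ G Ω) := ⟨Module.End.maxGenEigenspace T μ, fun g x hx =>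
      Module.End.mapsTo_maxGenEigenspace_of_comm (f := T) (g := (Cfsg.permRep ℂ G Ω) g)
        (LinearMap.ext fun y => hT g y) μ hx⟩
    obtain ⟨k, hk⟩ := dim_modEq hf W
    refine ⟨k, ?_⟩
    rw [Polynomial.count_roots, ← LinearMap.finrank_maxGenEigenspace_eq]
    refine hk.trans ?_
    congr 1
    have hone : (fun _ => (1 : ℂ)) ∈ Module.End.maxGenEigenspace T (d : ℂ) :=
      (Module.End.genEigenspace T (d : ℂ)).monotone le_top
        (Module.End.mem_eigenspace_iff.2 hrow)
    by_cases h : μ = (d : ℂ)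
    · subst h
      rw [if_pos rfl]
      exact if_pos hone
    · rw [if_neg h]
      refine if_neg fun hm => ?_
      have hdis := (Module.End.independent_maxGenEigenspace T).pairwiseDisjoint h
      have : (fun _ => (1 : ℂ)) = (0 : Ω → ℂ) := hdis.le_bot ⟨hm, hone⟩
      exact one_ne_zero (congrFun this a)
  choose k hk using hcnt
  have hint : ∀ μ ∈ T.charpoly.roots.toFinset, IsIntegral ℤ μ := by
    intro μ hμ
    have hroot := Polynomial.isRoot_of_mem_roots (Multiset.mem_toFinset.1 hμ)
    refine ⟨M0.charpoly, M0.charpoly_monic, ?_⟩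
    rw [← LinearMap.charpoly_toMatrix T (Pi.basisFun ℂ Ω), LinearMap.toMatrix_eq_toMatrix',
      LinearMap.toMatrix'_toLin', Matrix.charpoly_map] at hroot
    rw [algebraMap_int_eq, ← Polynomial.eval_map]
    exact hroot
  have hdmem : (d : ℂ) ∈ T.charpoly.roots.toFinset := by
    rw [Multiset.mem_toFinset, ← Multiset.count_pos, hk, if_pos rfl]
    omega
  set R' := T.charpoly.roots.toFinset with hR'
  have hz : IsIntegral ℤ (∑ μ ∈ R', (k μ : ℂ) * μ) :=
    IsIntegral.sum _ fun μ hμ => (isIntegral_algebraMap (x := (k μ : ℤ))).mul (hint μ hμ)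
  have hkey : (d : ℂ) + f * (∑ μ ∈ R', (k μ : ℂ) * μ) = 0 := by
    rw [← htr, Finset.mul_sum]
    have : ∀ μ ∈ R', T.charpoly.roots.count μ • μ =
        (if μ = (d : ℂ) then (d : ℂ) else 0) + f * ((k μ : ℂ) * μ) := by
      intro μ _
      rw [hk, nsmul_eq_mul, Nat.cast_add, Nat.cast_mul, add_mul]
      split_ifs with h <;> simp [h, mul_assoc]
    rw [Finset.sum_congr rfl this, Finset.sum_add_distrib,
      Finset.sum_ite_eq' _ _ (fun _ => (d : ℂ)), if_pos hdmem]
  refine dvd_of_isIntegral_div hf0.ne' ?_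
  have hfne : (f : ℂ) ≠ 0 := Nat.cast_ne_zero.2 hf0.ne'
  have : (d : ℂ) / f = -(∑ μ ∈ R', (k μ : ℂ) * μ) := by
    rw [div_eq_iff hfne]
    linear_combination hkey
  rw [this]
  exact hz.neg

/-- The suborbits partition the points. -/
theorem sum_suborbits (a : Ω) :
    ∃ (Q : Type v) (_ : Fintype Q) (q₀ : Q) (d : Q → ℕ),
      Fintype.card Q = Nat.card (MulAction.orbitRel.Quotient (MulAction.stabilizer G a) Ω) ∧
      Nat.card Ω = ∑ q, d q ∧ d q₀ = 1 ∧
      (∀ q, q ≠ q₀ → ∃ b, b ≠ a ∧
        d q = Nat.card (MulAction.orbit (MulAction.stabilizer G a) b) ∧ 0 < d q) ∧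
      ∀ b, b ≠ a → ∃ q, q ≠ q₀ ∧
        d q = Nat.card (MulAction.orbit (MulAction.stabilizer G a) b) := by
  classical
  let S := MulAction.stabilizer G a
  letI : Fintype (MulAction.orbitRel.Quotient S Ω) := Fintype.ofFinite _
  let d : MulAction.orbitRel.Quotient S Ω → ℕ := fun q => Nat.card q.orbit
  have hd : ∀ b : Ω, d (Quotient.mk _ b) = Nat.card (MulAction.orbit S b) := fun b => by
    show Nat.card (MulAction.orbitRel.Quotient.orbit (Quotient.mk'' b)) = _
    rw [MulAction.orbitRel.Quotient.orbit_mk]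
  refine ⟨_, inferInstance, Quotient.mk _ a, d, (Nat.card_eq_fintype_card).symm, ?_, ?_, ?_, ?_⟩
  · rw [Nat.card_congr (MulAction.selfEquivSigmaOrbits' S Ω), Nat.card_sigma]
  · rw [hd]
    have : MulAction.orbit S a = {a} := by
      ext x
      constructor
      · rintro ⟨⟨g, hg⟩, rfl⟩; exact hg
      · rintro rfl; exact MulAction.mem_orbit_self _
    rw [this, Nat.card_coe_set_eq, Set.ncard_singleton]
  · intro q hq
    obtain ⟨b, rfl⟩ := Quotient.exists_rep q
    refine ⟨b, fun h => hq (by rw [h]), hd b, ?_⟩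
    rw [hd]
    haveI : Nonempty (MulAction.orbit S b) := ⟨⟨b, MulAction.mem_orbit_self _⟩⟩
    exact Nat.card_pos
  · intro b hb
    refine ⟨Quotient.mk _ b, fun h => hb ?_, hd b⟩
    obtain ⟨⟨g, hg⟩, hgb⟩ := Quotient.exact h
    exact hgb.symm.trans hg

end CfsgLib.Perm.PermChar
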