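import Mathlib
import Cfsg.Agent.Perm.PermChar

/-!
Rank three groups of degree `2 * m` whose permutation character is `1 + (m - 1) + m`.
-/

namespace CfsgLib.Perm.RankThree

open Representation CfsgLib.Characters Module CfsgLib.Perm

universe u v

/-- The arithmetic of the parameters. -/
theorem arith {m k : ℕ} {r s : ℤ} (hm : 0 < m) (hk1 : 1 < k) (hk2 : k + 2 < 2 * m)
    (h1 : (k : ℤ) + (m - 1) * r + m * s = 0)
    (h2 : (k : ℤ) ^ 2 + (m - 1) * r ^ 2 + m * s ^ 2 = 2 * m * k) :
    ∃ a : ℕ, 0 < a ∧ m = 2 * a ^ 2 + 2 * a + 1 ∧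
      (k = a * (2 * a + 1) ∨ k = (a + 1) * (2 * a + 1)) := by
  obtain ⟨u, hu⟩ : ∃ u : ℤ, u = -(r + s) := ⟨_, rfl⟩
  have hs : s = -r - u := by omega
  subst hs
  have hk : (k : ℤ) = r + m * u := by linarith
  have hm3 : 3 ≤ (m : ℤ) := by omega
  have hkb : (k : ℤ) + 2 < 2 * m := by omega
  have hk0 : 1 < (k : ℤ) := by omega
  have hrb : r < m ∧ -(m : ℤ) < r := by
    have hb : ((m : ℤ) - 1) * r ^ 2 ≤ (m : ℤ) ^ 2 := by
      nlinarith [sq_nonneg ((k : ℤ) - m), sq_nonneg (-r - u), mul_nonneg (show (0 : ℤ) ≤ m by omega) (sq_nonneg (-r - u))]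
    constructor
    · by_contra hh
      push Not at hh
      nlinarith [mul_le_mul hh hh (by omega) (by omega)]
    · by_contra hh
      push Not at hh
      nlinarith [mul_le_mul (show (m : ℤ) ≤ -r by omega) (show (m : ℤ) ≤ -r by omega) (by omega) (by omega)]
  have hu0 : 0 ≤ u := by
    by_contra hh
    push Not at hh
    nlinarith
  have hu2 : u ≤ 2 := by
    by_contra hh
    push Not at hh
    nlinarith
  have hq : (m : ℤ) * (2 * r ^ 2 + 4 * r * u + u ^ 2 - 2 * r + m * (u ^ 2 - 2 * u)) = 0 := by
    rw [hk] at h2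
    linear_combination h2
  have hq' := (mul_eq_zero.1 hq).resolve_left (by omega)
  interval_cases u
  · have : r * (r - 1) = 0 := by linarith
    rcases mul_eq_zero.1 this with h | h <;> omega
  · have hmr : (m : ℤ) = 2 * r ^ 2 + 2 * r + 1 := by linarith
    rcases le_or_gt 0 r with hr | hr
    · obtain ⟨a, rfl⟩ : ∃ a : ℕ, r = a := ⟨r.toNat, by omega⟩
      refine ⟨a, ?_, by exact_mod_cast hmr, Or.inr ?_⟩
      · by_contra h0
        have : a = 0 := by omega
        subst this
        push_cast at hmr
        omega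
      · have : (k : ℤ) = ((a + 1) * (2 * a + 1) : ℕ) := by push_cast; nlinarith
        exact_mod_cast this
    · obtain ⟨a, rfl⟩ : ∃ a : ℕ, r = -(a : ℤ) - 1 := ⟨(-r - 1).toNat, by omega⟩
      refine ⟨a, ?_, ?_, Or.inl ?_⟩
      · by_contra h0
        have : a = 0 := by omega
        subst this
        push_cast at hmr
        omega
      · have : (m : ℤ) = (2 * a ^ 2 + 2 * a + 1 : ℕ) := by push_cast; nlinarith
        exact_mod_cast this
      · have : (k : ℤ) = (a * (2 * a + 1) : ℕ) := by push_cast; nlinarith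
        exact_mod_cast this
  · have : (r + 1) * (r + 2) = 0 := by linarith
    rcases mul_eq_zero.1 this with h | h <;> omega

variable {G : Type u} [Group G] [Fintype G] {Ω : Type v} [Fintype Ω] [MulAction G Ω]

/-- The orbital relation of the pair `(a, b)`. -/
def Rel (G : Type u) [Group G] {Ω : Type v} [MulAction G Ω] (a b : Ω) (x y : Ω) : Prop :=
  ∃ g : G, g • a = x ∧ g • b = y

omit [Fintype G] [Fintype Ω] in
theorem rel_smul {a b : Ω} (g : G) (x y : Ω) : Rel G a b (g • x) (g • y) ↔ Rel G a b x y := by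
  constructor
  · rintro ⟨h, h1, h2⟩
    exact ⟨g⁻¹ * h, by rw [mul_smul, h1, inv_smul_smul], by rw [mul_smul, h2, inv_smul_smul]⟩
  · rintro ⟨h, h1, h2⟩
    exact ⟨g * h, by rw [mul_smul, h1], by rw [mul_smul, h2]⟩

theorem main [MulAction.IsPretransitive G Ω] {m : ℕ} (hm : Fintype.card Ω = 2 * m) {a b : Ω}
    (hab : b ≠ a)
    (hrank : Nat.card (MulAction.orbitRel.Quotient (MulAction.stabilizer G a) Ω) = 3)
    (hsub : ∀ c : Ω, c ≠ a → 1 < Nat.card (MulAction.orbit (MulAction.stabilizer G a) c))
    (χ₁ χ₂ : G → ℂ) (h₁ : Cfsg.IsIrrCharacter G χ₁) (h₂ : Cfsg.IsIrrCharacter G χ₂)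
    (hπ : PermChar.perm G Ω = fun g => 1 + χ₁ g + χ₂ g) (hd₁ : χ₁ 1 = (m : ℂ) - 1)
    (hd₂ : χ₂ 1 = m) :
    ∃ c : ℕ, 0 < c ∧ m = 2 * c ^ 2 + 2 * c + 1 ∧
      (Nat.card (MulAction.orbit (MulAction.stabilizer G a) b) = c * (2 * c + 1) ∨
       Nat.card (MulAction.orbit (MulAction.stabilizer G a) b) = (c + 1) * (2 * c + 1)) := by
  classical
  haveI : Nonempty Ω := ⟨a⟩
  set ρ := Cfsg.permRep ℂ G Ω with hρ
  have hchar : ρ.character = PermChar.perm G Ω := PermChar.character_permRep
  set k := Nat.card (MulAction.orbit (MulAction.stabilizer G a) b) with hk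
  -- the two other suborbits
  obtain ⟨Q, _, q₀, d, hQ, hsum, hd0, hd, hall⟩ := PermChar.sum_suborbits (G := G) (Ω := Ω) a
  obtain ⟨q₁, hq₁, hdq₁⟩ := hall b hab
  obtain ⟨q₂, hq20, hq21⟩ : ∃ q₂, q₂ ≠ q₀ ∧ q₂ ≠ q₁ := by
    by_contra hh
    simp only [not_exists, not_and, not_not] at hh
    have : (Finset.univ : Finset Q) ⊆ {q₀, q₁} := by
      intro q _
      simp only [Finset.mem_insert, Finset.mem_singleton]
      by_cases h : q = q₀
      · exact Or.inl h
      · exact Or.inr (hh q h)
    have := (Finset.card_le_card this).trans Finset.card_le_two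
    rw [Finset.card_univ, hQ, hrank] at this
    omega
  have huniv : (Finset.univ : Finset Q) = {q₀, q₁, q₂} := by
    symm
    apply Finset.eq_univ_of_card
    rw [Finset.card_eq_three.2 ⟨q₀, q₁, q₂, hq₁.symm, hq20.symm, hq21.symm, rfl⟩, hQ, hrank]
  rw [huniv, Finset.sum_insert (by simp [hq₁.symm, hq20.symm]), Finset.sum_pair hq21.symm, hd0,
    hdq₁, Nat.card_eq_fintype_card, hm] at hsum
  obtain ⟨b₂, hb₂, hdq₂, -⟩ := hd q₂ hq20
  have hk1 : 1 < k := hsub b hab
  have hk2 : k + 2 < 2 * m := by
    have := hsub b₂ hb₂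
    rw [← hdq₂] at this
    omega
  -- multiplicities
  have hne12 : χ₁ ≠ χ₂ := by
    intro h
    rw [h, hd₂] at hd₁
    have : (1 : ℂ) = 0 := by linear_combination hd₁
    exact one_ne_zero this
  have hone : Cfsg.IsIrrCharacter G (fun _ => (1 : ℂ)) := CfsgLib.Characters.isIrr_one
  have hinner : ∀ ψ : G → ℂ, Cfsg.classInner ρ.character ψ =
      Cfsg.classInner (fun _ => (1 : ℂ)) ψ + Cfsg.classInner χ₁ ψ + Cfsg.classInner χ₂ ψ := by
    intro ψ
    rw [hchar, hπ, show (fun g => 1 + χ₁ g + χ₂ g) = (fun _ => (1 : ℂ)) + χ₁ + χ₂ from rfl,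
      classInner_add_left, classInner_add_left]
  have hne1 : χ₁ ≠ fun _ => 1 := by
    intro h
    rw [h] at hd₁
    have : (m : ℂ) = 2 := by linear_combination -hd₁
    have : m = 2 := by exact_mod_cast this
    omega
  have hne2 : χ₂ ≠ fun _ => 1 := by
    intro h
    rw [h] at hd₂
    simp only at hd₂
    have : m = 1 := by exact_mod_cast hd₂.symm
    omega
  have hm0 : Cfsg.classInner ρ.character (fun _ => 1) = 1 := by
    rw [hinner, classInner_isIrr_self hone, classInner_isIrr_ne h₁ hone hne1,
      classInner_isIrr_ne h₂ hone hne2, add_zero, add_zero]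
  have hm1 : Cfsg.classInner ρ.character χ₁ = 1 := by
    rw [hinner, classInner_isIrr_self h₁, classInner_isIrr_ne hone h₁ hne1.symm,
      classInner_isIrr_ne h₂ h₁ hne12.symm, add_zero, zero_add]
  have hm2 : Cfsg.classInner ρ.character χ₂ = 1 := by
    rw [hinner, classInner_isIrr_self h₂, classInner_isIrr_ne hone h₂ hne2.symm,
      classInner_isIrr_ne h₁ h₂ hne12, add_zero, zero_add]
  -- the adjacency map
  let M0 : Matrix Ω Ω ℤ := Matrix.of fun x y => if Rel G a b x y then 1 else 0
  let T : (Ω → ℂ) →ₗ[ℂ] (Ω → ℂ) := Matrix.toLin' (M0.map (Int.castRingHom ℂ))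
  have hTapp : ∀ v x, T v x = ∑ y, (if Rel G a b x y then v y else 0) := by
    intro v x
    simp only [T, Matrix.toLin'_apply, Matrix.mulVec, dotProduct, M0, Matrix.map_apply,
      Matrix.of_apply]
    refine Finset.sum_congr rfl fun y _ => ?_
    split_ifs <;> simp
  have hT : Isotypic.IsInter ρ T := by
    intro g v
    funext x
    show T (fun y => v (g⁻¹ • y)) x = T v (g⁻¹ • x)
    rw [hTapp, hTapp]
    refine Fintype.sum_equiv (MulAction.toPerm g⁻¹) _ _ fun y => ?_
    simp [rel_smul]
  have hrow : ∀ x, Nat.card {y : Ω // Rel G a b x y} = k := by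
    intro x
    obtain ⟨g, rfl⟩ := MulAction.exists_smul_eq G a x
    refine (Nat.card_congr ((Equiv.subtypeEquiv (MulAction.toPerm g) fun y => ?_))).symm
    show y ∈ MulAction.orbit (MulAction.stabilizer G a) b ↔ Rel G a b (g • a) (g • y)
    rw [rel_smul]
    constructor
    · rintro ⟨⟨h, hh⟩, rfl⟩
      exact ⟨h, hh, rfl⟩
    · rintro ⟨h, hh, rfl⟩
      exact ⟨⟨h, hh⟩, rfl⟩
  -- every non-diagonal pair is in exactly one of two orbitals
  have hcases : ∀ x y : Ω, x ≠ y → Rel G a b x y ∨ Rel G a b₂ x y := by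
    intro x y hxy
    obtain ⟨g, rfl⟩ := MulAction.exists_smul_eq G a x
    have hne : g⁻¹ • y ≠ a := fun h => hxy (by rw [← h, smul_inv_smul])
    -- the suborbit of `g⁻¹ • y`
    let S := MulAction.stabilizer G a
    have htri : g⁻¹ • y ∈ MulAction.orbit S b ∨ g⁻¹ • y ∈ MulAction.orbit S b₂ := by
      by_contra hh
      rw [not_or] at hh
      have hb₂b : b₂ ∉ MulAction.orbit S b := by
        intro hb
        have e : MulAction.orbit S b₂ = MulAction.orbit S b := MulAction.orbit_eq_iff.2 hb
        have h3 := hh.1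
        -- compare sizes of the partition
        have hsz : ({a} : Finset Ω).card + (MulAction.orbit S b).toFinset.card ≤
            Fintype.card Ω := by
          rw [← Finset.card_union_of_disjoint]
          · exact Finset.card_le_univ _
          · rw [Finset.disjoint_singleton_left, Set.mem_toFinset]
            rintro ⟨⟨h, hha⟩, he⟩
            exact hab (MulAction.injective h ((he : h • b = a).trans hha.symm))
        letI := Fintype.ofFinite (MulAction.orbitRel.Quotient S Ω)
        have hinj : ({Quotient.mk _ a, Quotient.mk _ b, Quotient.mk _ (g⁻¹ • y)} :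
            Finset (MulAction.orbitRel.Quotient S Ω)).card = 3 := by
          refine Finset.card_eq_three.2 ⟨_, _, _, ?_, ?_, ?_, rfl⟩
          · intro h
            obtain ⟨⟨h', hha⟩, he⟩ := Quotient.exact h
            exact hab (MulAction.injective h' ((he : h' • b = a).trans hha.symm))
          · intro h
            obtain ⟨⟨h', hha⟩, he⟩ := Quotient.exact h
            exact hne (MulAction.injective h' ((he : h' • (g⁻¹ • y) = a).trans hha.symm))
          · intro h
            exact h3 (MulAction.mem_orbit_symm.1 (Quotient.exact h))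
        have hall' : ∀ q : MulAction.orbitRel.Quotient S Ω,
            q ∈ ({Quotient.mk _ a, Quotient.mk _ b, Quotient.mk _ (g⁻¹ • y)} : Finset _) := by
          intro q
          rw [Finset.eq_univ_of_card _ (hinj.trans (by rw [← Nat.card_eq_fintype_card, hrank]))]
          exact Finset.mem_univ _
        have hk' : Nat.card (MulAction.orbit S b₂) = k := by rw [e]
        have hparts : Fintype.card Ω ≤ 1 + k + Nat.card (MulAction.orbit S (g⁻¹ • y)) := by
          have hsub : (Finset.univ : Finset Ω) ⊆ {a} ∪ (MulAction.orbit S b).toFinset ∪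
              (MulAction.orbit S (g⁻¹ • y)).toFinset := by
            intro z _
            have := hall' (Quotient.mk _ z)
            simp only [Finset.mem_insert, Finset.mem_singleton] at this
            simp only [Finset.mem_union, Finset.mem_singleton, Set.mem_toFinset]
            rcases this with h | h | h
            · obtain ⟨⟨h', hha⟩, he⟩ := Quotient.exact h
              exact Or.inl (Or.inl ((he.symm.trans hha)))
            · exact Or.inl (Or.inr (Quotient.exact h))
            · exact Or.inr (Quotient.exact h)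
          refine (Finset.card_le_card hsub).trans ((Finset.card_union_le _ _).trans ?_)
          refine Nat.add_le_add ((Finset.card_union_le _ _).trans ?_) ?_
          · rw [Finset.card_singleton, hk, Nat.card_coe_set_eq, Set.ncard_eq_toFinset_card']
          · rw [Nat.card_coe_set_eq, Set.ncard_eq_toFinset_card']
        obtain ⟨q₃, hq₃, hdq₃⟩ := hall _ hne
        have : d q₃ = d q₁ ∨ d q₃ = d q₂ := by
          have := Finset.mem_univ q₃
          rw [huniv] at this
          simp only [Finset.mem_insert, Finset.mem_singleton] at this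
          rcases this with h | h | h
          · exact absurd h hq₃
          · exact Or.inl (by rw [h])
          · exact Or.inr (by rw [h])
        rw [← hdq₃] at hparts
        rw [hdq₂, hk'] at hsum this
        rw [hdq₁] at this
        omega
      letI := Fintype.ofFinite (MulAction.orbitRel.Quotient S Ω)
      have : ({Quotient.mk _ a, Quotient.mk _ b, Quotient.mk _ b₂, Quotient.mk _ (g⁻¹ • y)} :
          Finset (MulAction.orbitRel.Quotient S Ω)).card ≤ 3 := by
        rw [← hrank, Nat.card_eq_fintype_card]; exact Finset.card_le_univ _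
      have hna : ∀ z : Ω, z ≠ a → (Quotient.mk _ a : MulAction.orbitRel.Quotient S Ω) ≠
          Quotient.mk _ z := by
        intro z hz h
        obtain ⟨⟨h', hha⟩, he⟩ := Quotient.exact h
        exact hz (MulAction.injective h' ((he : h' • z = a).trans hha.symm))
      have n1 : (Quotient.mk _ b : MulAction.orbitRel.Quotient S Ω) ≠ Quotient.mk _ b₂ :=
        fun h => hb₂b (MulAction.mem_orbit_symm.1 (Quotient.exact h))
      have n2 : (Quotient.mk _ b : MulAction.orbitRel.Quotient S Ω) ≠ Quotient.mk _ (g⁻¹ • y) :=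
        fun h => hh.1 (MulAction.mem_orbit_symm.1 (Quotient.exact h))
      have n3 : (Quotient.mk _ b₂ : MulAction.orbitRel.Quotient S Ω) ≠ Quotient.mk _ (g⁻¹ • y) :=
        fun h => hh.2 (MulAction.mem_orbit_symm.1 (Quotient.exact h))
      rw [Finset.card_insert_of_notMem (by simp [hna b hab, hna b₂ hb₂, hna _ hne]),
        Finset.card_eq_three.2 ⟨_, _, _, n1, n2, n3, rfl⟩] at this
      omega
    rcases htri with ⟨⟨h, hh⟩, he⟩ | ⟨⟨h, hh⟩, he⟩
    · exact Or.inl ⟨g * h, by rw [mul_smul, show h • a = a from hh],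
        by rw [mul_smul, show h • b = g⁻¹ • y from he, smul_inv_smul]⟩
    · exact Or.inr ⟨g * h, by rw [mul_smul, show h • a = a from hh],
        by rw [mul_smul, show h • b₂ = g⁻¹ • y from he, smul_inv_smul]⟩
  have hsym : ∀ x y, Rel G a b x y → Rel G a b y x := by
    intro x y hxy
    have hne : x ≠ y := by
      rintro rfl
      obtain ⟨g, h1, h2⟩ := hxy
      exact hab (MulAction.injective g (h2.trans h1.symm))
    rcases hcases y x hne.symm with h | h
    · exact h
    exfalso
    -- the two orbitals are paired, so the degree is odd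
    obtain ⟨g, hga, hgb⟩ := hxy
    obtain ⟨g', hg'a, hg'b⟩ := h
    have hpair : Rel G a b₂ b a := by
      rw [← rel_smul g, hga, hgb]
      exact ⟨g', hg'a, hg'b⟩
    have hswap : ∀ u v, Rel G a b₂ u v ↔ Rel G a b v u := by
      intro u v
      obtain ⟨g₀, h0a, h0b⟩ := hpair
      constructor
      · rintro ⟨h, rfl, rfl⟩
        refine ⟨h * g₀⁻¹, ?_, ?_⟩
        · rw [mul_smul, ← h0b, inv_smul_smul]
        · rw [mul_smul, ← h0a, inv_smul_smul]
      · rintro ⟨h, rfl, rfl⟩
        exact ⟨h * g₀, by rw [mul_smul, h0a], by rw [mul_smul, h0b]⟩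
    have h2 : Nat.card {y : Ω // Rel G a b₂ a y} =
        Nat.card (MulAction.orbit (MulAction.stabilizer G a) b₂) := by
      refine Nat.card_congr (Equiv.subtypeEquivRight fun z => ?_)
      constructor
      · rintro ⟨h, hha, rfl⟩; exact ⟨⟨h, hha⟩, rfl⟩
      · rintro ⟨⟨h, hha⟩, rfl⟩; exact ⟨h, hha, rfl⟩
    -- column sums
    have hcol : Nat.card {y : Ω // Rel G a b y a} = k := by
      have key : (∑ x : Ω, Nat.card {y : Ω // Rel G a b x y}) =
          ∑ x : Ω, Nat.card {y : Ω // Rel G a b y x} := by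
        rw [← Nat.card_sigma, ← Nat.card_sigma]
        exact Nat.card_congr ⟨fun p => ⟨p.2.1, p.1, p.2.2⟩, fun p => ⟨p.2.1, p.1, p.2.2⟩,
          fun _ => rfl, fun _ => rfl⟩
      have hconst : ∀ x, Nat.card {y : Ω // Rel G a b y x} =
          Nat.card {y : Ω // Rel G a b y a} := by
        intro x
        obtain ⟨h, rfl⟩ := MulAction.exists_smul_eq G a x
        exact (Nat.card_congr (Equiv.subtypeEquiv (MulAction.toPerm h)
          fun z => (rel_smul h z a).symm)).symm
      rw [Finset.sum_congr rfl fun x _ => hrow x, Finset.sum_congr rfl fun x _ => hconst x,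
        Finset.sum_const, Finset.sum_const, smul_eq_mul, smul_eq_mul] at key
      exact (Nat.eq_of_mul_eq_mul_left (Finset.card_pos.2 Finset.univ_nonempty) key).symm
    have : Nat.card (MulAction.orbit (MulAction.stabilizer G a) b₂) = k := by
      rw [← h2, ← hcol]
      exact Nat.card_congr (Equiv.subtypeEquivRight fun z => hswap a z)
    rw [hdq₂, this] at hsum
    omega
  -- scalars on the three parts
  have hT1 : T (fun _ => 1) = (k : ℂ) • (fun _ => (1 : ℂ)) := by
    funext x
    rw [hTapp, Finset.sum_boole, Pi.smul_apply, smul_eq_mul, mul_one, ← hrow x,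
      Nat.card_eq_fintype_card, Fintype.card_subtype]
  obtain ⟨c₀, hc₀⟩ := Isotypic.inter_comp_proj ρ hone hm0 hT
  obtain ⟨r, hr⟩ := Isotypic.inter_comp_proj ρ h₁ hm1 hT
  obtain ⟨s, hs⟩ := Isotypic.inter_comp_proj ρ h₂ hm2 hT
  have hconst1 : ∀ g, ρ g (fun _ => (1 : ℂ)) = fun _ => 1 := fun g => rfl
  have hproj1 : ∀ χ : G → ℂ, Isotypic.proj ρ χ (fun _ => (1 : ℂ)) =
      (χ 1 * Cfsg.classInner χ (fun _ => (1 : ℂ))) • (fun _ => (1 : ℂ)) := by
    intro χ
    rw [Isotypic.proj, LinearMap.smul_apply, avgOp, LinearMap.sum_apply]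
    simp only [LinearMap.smul_apply, hconst1]
    rw [← Finset.sum_smul, smul_smul, Cfsg.classInner]
    congr 1
    simp only [map_one, mul_one]
    ring
  have hc0 : c₀ = k := by
    have h := hc₀ (fun _ => (1 : ℂ))
    rw [hproj1, classInner_isIrr_self hone, mul_one, one_smul, hT1] at h
    have := congrFun h a
    simpa using this.symm
  have hzero : ∀ χ : Cfsg.IrrCharacter G, (χ : G → ℂ) ≠ (fun _ => 1) → (χ : G → ℂ) ≠ χ₁ →
      (χ : G → ℂ) ≠ χ₂ → Isotypic.proj ρ (χ : G → ℂ) = 0 := by
    intro χ e0 e1 e2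
    refine Isotypic.ext_irr ρ fun S hS x hx => ?_
    rw [Isotypic.proj_apply_irr ρ χ.2 S hS hx, if_neg, LinearMap.zero_apply]
    intro h
    apply Isotypic.constituent_of_irr ρ S hS
    rw [← h, hinner, classInner_isIrr_ne hone χ.2 e0.symm, classInner_isIrr_ne h₁ χ.2 e1.symm,
      classInner_isIrr_ne h₂ χ.2 e2.symm, add_zero, add_zero]
  have hTdec : T = (k : ℂ) • Isotypic.proj ρ (fun _ => 1) + r • Isotypic.proj ρ χ₁ +
      s • Isotypic.proj ρ χ₂ := by
    refine Isotypic.ext_irr ρ fun S hS x hx => ?_
    haveI := hS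
    simp only [LinearMap.add_apply, LinearMap.smul_apply, Isotypic.proj_apply_irr ρ hone S hS hx,
      Isotypic.proj_apply_irr ρ h₁ S hS hx, Isotypic.proj_apply_irr ρ h₂ S hS hx]
    have hcase : (fun _ => (1 : ℂ)) = S.toRepresentation.character ∨
        χ₁ = S.toRepresentation.character ∨ χ₂ = S.toRepresentation.character := by
      by_contra hh
      rw [not_or, not_or] at hh
      apply Isotypic.constituent_of_irr ρ S hS
      have hS' := isIrrCharacter_character S.toRepresentation
      rw [hinner, classInner_isIrr_ne hone hS' hh.1, classInner_isIrr_ne h₁ hS' hh.2.1,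
        classInner_isIrr_ne h₂ hS' hh.2.2, add_zero, add_zero]
    rcases hcase with h | h | h
    · rw [if_pos h, if_neg (fun h' => hne1 (h'.trans h.symm)),
        if_neg (fun h' => hne2 (h'.trans h.symm))]
      have := hc₀ x
      rw [Isotypic.proj_apply_irr ρ hone S hS hx, if_pos h, hc0] at this
      simpa using this
    · rw [if_pos h, if_neg (fun h' => hne1 (h.trans h'.symm)),
        if_neg (fun h' => hne12 (h.trans h'.symm))]
      have := hr x
      rw [Isotypic.proj_apply_irr ρ h₁ S hS hx, if_pos h] at this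
      simpa using this
    · rw [if_pos h, if_neg (fun h' => hne2 (h.trans h'.symm)),
        if_neg (fun h' => hne12 (h'.trans h.symm))]
      have := hs x
      rw [Isotypic.proj_apply_irr ρ h₂ S hS hx, if_pos h] at this
      simpa using this
  have e1 : (k : ℂ) + (m - 1) * r + m * s = 0 := by
    have htr : LinearMap.trace ℂ _ T = 0 := by
      rw [LinearMap.trace_eq_matrix_trace ℂ (Pi.basisFun ℂ Ω), LinearMap.toMatrix_eq_toMatrix',
        LinearMap.toMatrix'_toLin', Matrix.trace]
      refine Finset.sum_eq_zero fun x _ => ?_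
      have : ¬ Rel G a b x x := by
        rintro ⟨g, h1, h2⟩
        exact hab (MulAction.injective g (h2.trans h1.symm))
      simp [M0, Matrix.map_apply, this]
    rw [hTdec, map_add, map_add, map_smul, map_smul, map_smul, Isotypic.trace_proj,
      Isotypic.trace_proj, Isotypic.trace_proj, Isotypic.classInner_symm ρ hone,
      Isotypic.classInner_symm ρ h₁, Isotypic.classInner_symm ρ h₂, hm0, hm1, hm2, hd₁, hd₂] at htr
    simp only [smul_eq_mul] at htr
    linear_combination htr
  have hTT : T ∘ₗ T = (k : ℂ) ^ 2 • Isotypic.proj ρ (fun _ => 1) +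
      r ^ 2 • Isotypic.proj ρ χ₁ + s ^ 2 • Isotypic.proj ρ χ₂ := by
    refine LinearMap.ext fun x => ?_
    rw [LinearMap.comp_apply]
    conv_lhs => arg 2; rw [hTdec]
    simp only [LinearMap.add_apply, LinearMap.smul_apply, map_add, map_smul, hc₀, hr, hs, hc0,
      smul_smul, sq]
  have hN : ∀ x y, ((M0 * M0) x y : ℂ) = LinearMap.toMatrix' (T ∘ₗ T) x y := by
    intro x y
    rw [LinearMap.toMatrix'_comp, LinearMap.toMatrix'_toLin', ← Matrix.map_mul, Matrix.map_apply]
    rfl
  have e2 : (k : ℂ) ^ 2 + (m - 1) * r ^ 2 + m * s ^ 2 = 2 * m * k := by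
    have htr : LinearMap.trace ℂ _ (T ∘ₗ T) = (2 * m * k : ℕ) := by
      rw [LinearMap.trace_eq_matrix_trace ℂ (Pi.basisFun ℂ Ω), LinearMap.toMatrix_eq_toMatrix',
        Matrix.trace]
      have hdiag : ∀ x, Matrix.diag (LinearMap.toMatrix' (T ∘ₗ T)) x = (k : ℂ) := by
        intro x
        rw [Matrix.diag, ← hN, Matrix.mul_apply]
        have : ∀ y, M0 x y * M0 y x = if Rel G a b x y then 1 else 0 := by
          intro y
          simp only [M0, Matrix.of_apply]
          by_cases h : Rel G a b x y
          · rw [if_pos h, if_pos (hsym x y h)]; ring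
          · rw [if_neg h]; ring
        rw [Finset.sum_congr rfl fun y _ => this y, Finset.sum_boole, ← hrow x,
          Nat.card_eq_fintype_card, Fintype.card_subtype]
        simp
      rw [Finset.sum_congr rfl fun x _ => hdiag x, Finset.sum_const, Finset.card_univ, hm,
        nsmul_eq_mul, ← Nat.cast_mul]
    rw [hTT, map_add, map_add, map_smul, map_smul, map_smul, Isotypic.trace_proj,
      Isotypic.trace_proj, Isotypic.trace_proj, Isotypic.classInner_symm ρ hone,
      Isotypic.classInner_symm ρ h₁, Isotypic.classInner_symm ρ h₂, hm0, hm1, hm2, hd₁, hd₂] at htr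
    simp only [smul_eq_mul] at htr
    push_cast at htr
    linear_combination htr
  -- an integral quadratic satisfied by both eigenvalues
  obtain ⟨y₂, hy₂⟩ : ∃ y, Rel G a b₂ a y := ⟨b₂, 1, one_smul _ _, one_smul _ _⟩
  have hay₂ : y₂ ≠ a ∧ ¬ Rel G a b a y₂ := by
    refine ⟨?_, ?_⟩
    · rintro rfl
      obtain ⟨g, h1, h2⟩ := hy₂
      exact hb₂ (MulAction.injective g (h2.trans h1.symm))
    · intro h
      obtain ⟨g, hga, rfl⟩ := hy₂
      obtain ⟨g', hg'a, hg'b⟩ := h
      have e : MulAction.orbit (MulAction.stabilizer G a) b₂ =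
          MulAction.orbit (MulAction.stabilizer G a) b := MulAction.orbit_eq_iff.2
        ⟨⟨g⁻¹ * g', by
          rw [MulAction.mem_stabilizer_iff, mul_smul, hg'a, inv_smul_eq_iff, hga]⟩,
          by show (g⁻¹ * g') • b = b₂; rw [mul_smul, hg'b, inv_smul_smul]⟩
      -- then a third suborbit is missing
      obtain ⟨c, hc1, hc2⟩ : ∃ c : Ω, c ≠ a ∧ c ∉ MulAction.orbit (MulAction.stabilizer G a) b := by
        by_contra hh
        simp only [not_exists, not_and, not_not] at hh
        have : (Finset.univ : Finset Ω) ⊆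
            {a} ∪ (MulAction.orbit (MulAction.stabilizer G a) b).toFinset := by
          intro z _
          simp only [Finset.mem_union, Finset.mem_singleton, Set.mem_toFinset]
          by_cases h : z = a
          · exact Or.inl h
          · exact Or.inr (hh z h)
        have := (Finset.card_le_card this).trans (Finset.card_union_le _ _)
        rw [Finset.card_univ, hm, Finset.card_singleton, ← Set.ncard_eq_toFinset_card',
          ← Nat.card_coe_set_eq] at this
        omega
      rcases hcases a c hc1.symm with ⟨h', h1, h2⟩ | ⟨h', h1, h2⟩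
      · exact hc2 ⟨⟨h', h1⟩, h2⟩
      · exact hc2 (e ▸ ⟨⟨h', h1⟩, h2⟩)
  set α := (M0 * M0) a a
  set β := (M0 * M0) a b
  set γ := (M0 * M0) a y₂
  have hinvN : ∀ (g : G) x y, (M0 * M0) (g • x) (g • y) = (M0 * M0) x y := by
    intro g x y
    rw [Matrix.mul_apply, Matrix.mul_apply]
    refine (Fintype.sum_equiv (MulAction.toPerm g) _ _ fun z => ?_).symm
    simp [M0, rel_smul]
  have hNform : ∀ x y, (M0 * M0) x y =
      (if x = y then α - γ else 0) + (β - γ) * M0 x y + γ := by
    intro x y
    by_cases hxy : x = y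
    · subst hxy
      obtain ⟨g, rfl⟩ := MulAction.exists_smul_eq G a x
      have : ¬ Rel G a b (g • a) (g • a) := by
        rintro ⟨h, h1, h2⟩
        exact hab (MulAction.injective h (h2.trans h1.symm))
      rw [hinvN, if_pos rfl]
      simp [M0, this, α]
    · rw [if_neg hxy]
      by_cases hR : Rel G a b x y
      · obtain ⟨g, rfl, rfl⟩ := hR
        have : Rel G a b (g • a) (g • b) := ⟨g, rfl, rfl⟩
        rw [hinvN]
        simp [M0, this, β]
      · have h2 := (hcases x y hxy).resolve_left hR
        obtain ⟨g, rfl, rfl⟩ := h2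
        obtain ⟨h, hha, hhb⟩ := hy₂
        have : (g * h⁻¹) • a = g • a ∧ (g * h⁻¹) • y₂ = g • b₂ := by
          constructor
          · rw [mul_smul, inv_smul_eq_iff.2 hha.symm]
          · rw [mul_smul, ← hhb, inv_smul_smul]
        rw [← this.1, ← this.2] at hR ⊢
        rw [hinvN]
        simp [M0, hR, γ]
  -- eigenvectors
  have hquad : ∀ (χ : G → ℂ) (t : ℂ), Cfsg.IsIrrCharacter G χ → χ ≠ (fun _ => 1) →
      Cfsg.classInner ρ.character χ = 1 → (∀ x, T (Isotypic.proj ρ χ x) = t • Isotypic.proj ρ χ x) →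
      t ^ 2 = ((β - γ : ℤ) : ℂ) * t + ((α - γ : ℤ) : ℂ) := by
    intro χ t hχ hne hmult ht
    obtain ⟨x, hx⟩ : ∃ x, Isotypic.proj ρ χ x ≠ 0 := by
      by_contra hh
      simp only [not_exists, not_not] at hh
      have := Isotypic.trace_proj ρ χ
      rw [LinearMap.ext (g := 0) hh, map_zero, Isotypic.classInner_symm ρ hχ, hmult, mul_one]
        at this
      exact irr_one_ne_zero hχ this.symm
    set w := Isotypic.proj ρ χ x with hw
    have hsum0 : ∑ y, w y = 0 := by
      let J : (Ω → ℂ) →ₗ[ℂ] (Ω → ℂ) := LinearMap.pi fun _ => ∑ y, LinearMap.proj y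
      have hJ : ∀ v z, J v z = ∑ y, v y := by intro v z; simp [J]
      have hJi : Isotypic.IsInter ρ J := by
        intro g v
        funext z
        show J (fun y => v (g⁻¹ • y)) z = J v (g⁻¹ • z)
        rw [hJ, hJ]
        exact Fintype.sum_equiv (MulAction.toPerm g⁻¹) _ _ fun y => rfl
      obtain ⟨c, hc⟩ := Isotypic.inter_comp_proj ρ hχ hmult hJi
      by_contra hS
      have h := hc x
      rw [← hw] at h
      have hcw : w = ((∑ y, w y) / c) • (fun _ => (1 : ℂ)) := by
        funext z
        have hz := congrFun h z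
        rw [hJ, Pi.smul_apply, smul_eq_mul] at hz
        have hc0 : c ≠ 0 := fun h0 => hS (by rw [hz, h0, zero_mul])
        rw [Pi.smul_apply, smul_eq_mul, mul_one, hz, mul_div_cancel_left₀ _ hc0]
      have h2 : Isotypic.proj ρ χ w = w := Isotypic.proj_idem ρ hχ x
      rw [hcw, map_smul, hproj1, classInner_isIrr_ne hχ hone hne, mul_zero, zero_smul,
        smul_zero, ← hcw] at h2
      exact hx h2.symm
    obtain ⟨z, hz⟩ : ∃ z, w z ≠ 0 := by
      by_contra hh
      simp only [not_exists, not_not] at hh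
      exact hx (funext hh)
    have h1 : (T ∘ₗ T) w z = t ^ 2 * w z := by
      rw [hw, LinearMap.comp_apply, ht, map_smul, ht, smul_smul]
      simp [sq]
    have h2 : (T ∘ₗ T) w z = ((α - γ : ℤ) : ℂ) * w z + ((β - γ : ℤ) : ℂ) * (t * w z) := by
      have hexp : (T ∘ₗ T) w z = ∑ y, ((M0 * M0) z y : ℂ) * w y := by
        conv_lhs => rw [← Matrix.toLin'_toMatrix' (T ∘ₗ T), Matrix.toLin'_apply]
        simp only [Matrix.mulVec, dotProduct, hN]
      rw [hexp]
      have hTz : t * w z = ∑ y, (M0 z y : ℂ) * w y := by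
        have := congrFun (ht x) z
        rw [Pi.smul_apply, smul_eq_mul, hTapp] at this
        rw [← this]
        refine Finset.sum_congr rfl fun y _ => ?_
        simp only [M0, Matrix.of_apply]
        split_ifs
        · rw [Int.cast_one, one_mul]
        · rw [Int.cast_zero, zero_mul]
      rw [hTz, Finset.mul_sum]
      have hsplit : ∀ y, ((M0 * M0) z y : ℂ) * w y = (if z = y then ((α - γ : ℤ) : ℂ) * w y else 0)
          + ((β - γ : ℤ) : ℂ) * ((M0 z y : ℂ) * w y) + (γ : ℂ) * w y := by
        intro y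
        rw [hNform]
        split_ifs with h <;> push_cast <;> ring
      rw [Finset.sum_congr rfl fun y _ => hsplit y, Finset.sum_add_distrib, Finset.sum_add_distrib,
        Finset.sum_ite_eq, if_pos (Finset.mem_univ _), ← Finset.mul_sum (a := (γ : ℂ)), hsum0,
        mul_zero, add_zero]
    rw [h1] at h2
    apply mul_right_cancel₀ hz
    linear_combination h2
  have q1 := hquad χ₁ r h₁ hne1 hm1 hr
  have q2 := hquad χ₂ s h₂ hne2 hm2 hs
  set e : ℤ := β - γ
  set f : ℤ := α - γ
  obtain ⟨ri, si, hri, hsi⟩ : ∃ ri si : ℤ, r = ri ∧ s = si := by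
    by_cases hrs : r = s
    · exfalso
      subst hrs
      have hn : (2 * (m : ℂ) - 1) * r = -(k : ℂ) := by linear_combination e1
      -- `k / (2m - 1)` would be an integral rational number
      have hint : IsIntegral ℤ r := by
        refine ⟨Polynomial.X ^ 2 - (Polynomial.C e * Polynomial.X + Polynomial.C f),
          Polynomial.monic_X_pow_sub ((Polynomial.degree_linear_le).trans_lt (by norm_num)), ?_⟩
        rw [Polynomial.eval₂_sub, Polynomial.eval₂_X_pow, Polynomial.eval₂_add, Polynomial.eval₂_mul,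
          Polynomial.eval₂_C, Polynomial.eval₂_C, Polynomial.eval₂_X, q1]
        simp
      have hd : 2 * m - 1 ∣ k := by
        refine dvd_of_isIntegral_div (by omega) ?_
        have hne : (2 * (m : ℂ) - 1) ≠ 0 := by
          intro h
          have : ((2 * m : ℕ) : ℂ) = ((1 : ℕ) : ℂ) := by push_cast; linear_combination h
          have : 2 * m = 1 := by exact_mod_cast this
          omega
        have : (k : ℂ) / ((2 * m - 1 : ℕ) : ℂ) = -r := by
          rw [Nat.cast_sub (by omega)]
          push_cast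
          rw [div_eq_iff hne]
          linear_combination hn
        rw [this]
        exact hint.neg
      have := Nat.le_of_dvd (by omega) hd
      omega
    · have hsum' : r + s = e := by
        apply mul_left_cancel₀ (sub_ne_zero.2 hrs)
        linear_combination q1 - q2
      refine ⟨e + (k + (m - 1) * e), -(k + (m - 1) * e), ?_, ?_⟩
      · push_cast
        linear_combination hsum' - e1 + ((m : ℂ) - 1) * hsum'
      · push_cast
        linear_combination e1 - ((m : ℂ) - 1) * hsum'
  subst hri hsi
  exact arith (by omega) hk1 hk2 (by exact_mod_cast e1) (by exact_mod_cast e2)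

end CfsgLib.Perm.RankThree
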