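import Mathlib
import Cfsg.Agent.AutAlt.Basic
import Cfsg.Agent.S0253

/-!
The group `SL(2,5)`: quaternion elements, centre and automorphisms of the central quotient.
-/

set_option maxHeartbeats 200000

namespace CfsgLib.Perm.RegularLinear

section SLFive

/-- The group `SL(2,5)`. -/
abbrev SLFive := Matrix.SpecialLinearGroup (Fin 2) (ZMod 5)

theorem card_slFive : Nat.card SLFive = 120 := by
  rw [Nat.card_eq_fintype_card]
  decide +kernel

theorem slFive_quat : ∃ x u : SLFive, x * x = u * u ∧ x * x ≠ 1 ∧ (x * x) * (x * x) = 1 ∧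
    u * x ≠ x * u ∧ ∃ g : SLFive, g ^ 3 = 1 ∧ g ≠ 1 :=
  ⟨⟨!![0, 4; 1, 0], by decide +kernel⟩, ⟨!![2, 0; 0, 3], by decide +kernel⟩, by decide +kernel,
    by decide +kernel, by decide +kernel, by decide +kernel,
    (⟨!![0, 4; 1, 4], by decide +kernel⟩ : SLFive), by decide +kernel,
    fun h => absurd (congrArg (fun t : SLFive => t.1 0 1) h) (by decide +kernel)⟩

/-- The action of automorphisms on the central quotient. -/
noncomputable def autQuot (G : Type*) [Group G] :
    MulAut G →* MulAut (G ⧸ Subgroup.center G) where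
  toFun φ := QuotientGroup.congr _ _ φ
    (Subgroup.characteristic_iff_map_eq.1 inferInstance φ)
  map_one' := by
    refine MulEquiv.ext fun g => ?_
    induction g using QuotientGroup.induction_on
    rfl
  map_mul' φ ψ := by
    refine MulEquiv.ext fun g => ?_
    induction g using QuotientGroup.induction_on
    rfl

/-- An automorphism of a perfect group that is trivial modulo the centre is trivial. -/
theorem eq_one_of_autQuot {G : Type*} [Group G] (hperf : commutator G = ⊤) {φ : MulAut G}
    (h : autQuot G φ = 1) : φ = 1 := by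
  have hc : ∀ g, g⁻¹ * φ g ∈ Subgroup.center G := fun g => by
    have := congrArg (fun ψ : MulAut (G ⧸ Subgroup.center G) => ψ g) h
    exact QuotientGroup.eq.1 (Eq.symm this)
  let c : G →* Subgroup.center G :=
    { toFun := fun g => ⟨g⁻¹ * φ g, hc g⟩
      map_one' := Subtype.ext (by simp)
      map_mul' := fun g g' => Subtype.ext (by
        show (g * g')⁻¹ * φ (g * g') = g⁻¹ * φ g * (g'⁻¹ * φ g')
        rw [map_mul, mul_inv_rev, mul_assoc, ← mul_assoc g⁻¹, ← mul_assoc,
          (Subgroup.mem_center_iff.1 (hc g) g'⁻¹), mul_assoc]) }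
  refine MulEquiv.ext fun g => ?_
  have hker : commutator G ≤ c.ker := by
    rw [commutator_def, Subgroup.commutator_le]
    intro a _ b _
    rw [MonoidHom.mem_ker, map_commutatorElement, commutatorElement_eq_one_iff_mul_comm]
    exact Subtype.ext (Subgroup.mem_center_iff.1 (c b).2 _)
  have : c g = 1 := hker (hperf ▸ Subgroup.mem_top g)
  exact (inv_mul_eq_one.1 (congrArg Subtype.val this)).symm

/-- The central quotient of `SL(2,5)`. -/
theorem slFive_quot : Nonempty ((SLFive ⧸ Subgroup.center SLFive) ≃* alternatingGroup (Fin 5)) := by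
  haveI : Fact (Nat.Prime 5) := ⟨by norm_num⟩
  exact Cfsg.Agent.S0253.result (F := ZMod 5) (ZMod.card 5)

theorem card_center_slFive : Nat.card (Subgroup.center SLFive) = 2 := by
  obtain ⟨e⟩ := slFive_quot
  have h := Subgroup.card_eq_card_quotient_mul_card_subgroup (Subgroup.center SLFive)
  rw [card_slFive, Nat.card_congr e.toEquiv, nat_card_alternatingGroup, Nat.card_fin,
    show Nat.factorial 5 / 2 = 60 from rfl] at h
  omega

theorem card_aut_altFive : Nat.card (MulAut (alternatingGroup (Fin 5))) = 120 := by
  rw [← Nat.card_congr (Equiv.ofBijective _ (CfsgLib.AutAlt.conjNormal_bijective (α := Fin 5)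
    (by simp) (by simp))), Nat.card_eq_fintype_card, Fintype.card_perm, Fintype.card_fin]
  rfl

end SLFive

end CfsgLib.Perm.RegularLinear
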