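import Mathlib

/-!
Criteria for multiple transitivity.
-/

namespace CfsgLib.Perm

open MulAction

variable {G : Type*} [Group G] {α : Type*} [MulAction G α]

/-- If for every set `A` of fewer than `k` points the pointwise stabiliser of `A` is transitive on
the rest, the group is `k`-transitive. -/
theorem isMultiplyPretransitive_of_fixing (k : ℕ)
    (h : ∀ A : Finset α, A.card < k → ∀ a b : α, a ∉ A → b ∉ A →
      ∃ g : G, (∀ x ∈ A, g • x = x) ∧ g • a = b) :
    IsMultiplyPretransitive G α k := by
  classical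
  rw [isMultiplyPretransitive_iff]
  intro x y
  suffices ∀ j ≤ k, ∃ g : G, ∀ i : Fin k, (i : ℕ) < j → g • x i = y i by
    obtain ⟨g, hg⟩ := this k le_rfl
    exact ⟨g, DFunLike.ext _ _ fun i => hg i i.2⟩
  intro j hj
  induction j with
  | zero => exact ⟨1, fun i hi => absurd hi (Nat.not_lt_zero _)⟩
  | succ j ih =>
    obtain ⟨g, hg⟩ := ih (by omega)
    let i₀ : Fin k := ⟨j, hj⟩
    let A : Finset α := (Finset.univ.filter (fun i : Fin k => (i : ℕ) < j)).image y
    have hAc : A.card < k := by
      refine lt_of_le_of_lt Finset.card_image_le ?_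
      refine lt_of_lt_of_le (Finset.card_lt_card (t := Finset.univ) ?_) (by simp)
      rw [Finset.ssubset_univ_iff]
      intro he
      have := Finset.eq_univ_iff_forall.1 he i₀
      simp [i₀] at this
    have ha : g • x i₀ ∉ A := by
      simp only [A, Finset.mem_image, Finset.mem_filter, Finset.mem_univ, true_and, not_exists,
        not_and]
      intro i hi he
      rw [← hg i hi] at he
      have := x.injective (MulAction.injective g he)
      rw [this] at hi
      exact lt_irrefl j hi
    have hb : y i₀ ∉ A := by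
      simp only [A, Finset.mem_image, Finset.mem_filter, Finset.mem_univ, true_and, not_exists,
        not_and]
      intro i hi he
      rw [y.injective he] at hi
      exact lt_irrefl j hi
    obtain ⟨g', hfix, hmove⟩ := h A hAc _ _ ha hb
    refine ⟨g' * g, fun i hi => ?_⟩
    rw [mul_smul]
    rcases Nat.lt_succ_iff_lt_or_eq.1 hi with hi | hi
    · rw [hg i hi]
      apply hfix
      simp only [A, Finset.mem_image, Finset.mem_filter, Finset.mem_univ, true_and]
      exact ⟨i, hi, rfl⟩
    · have : i = i₀ := Fin.ext hi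
      rw [this]
      exact hmove

/-- A finite set which is a union of orbits whose sizes are divisible by `d` has size divisible
by `d`. -/
theorem dvd_ncard_of_invariant [Finite α] {d : ℕ} (P : Subgroup G) (O : Set α)
    (hO : ∀ g : P, ∀ x ∈ O, g • x ∈ O) (hd : ∀ x ∈ O, d ∣ Nat.card (orbit P x)) :
    d ∣ O.ncard := by
  classical
  haveI := Fintype.ofFinite α
  induction hn : O.ncard using Nat.strong_induction_on generalizing O with
  | _ n ih =>
    subst hn
    rcases O.eq_empty_or_nonempty with rfl | ⟨x, hx⟩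
    · simp
    · have hsub : orbit P x ⊆ O := by
        rintro _ ⟨g, rfl⟩
        exact hO g x hx
      have hlt : (O \ orbit P x).ncard < O.ncard :=
        Set.ncard_lt_ncard ⟨Set.sdiff_subset, fun h => (h hx).2 (mem_orbit_self x)⟩ (Set.toFinite _)
      have hinv : ∀ g : P, ∀ y ∈ O \ orbit P x, g • y ∈ O \ orbit P x := by
        rintro g y ⟨hy, hy'⟩
        refine ⟨hO g y hy, fun h => hy' ?_⟩
        have := mem_orbit_of_mem_orbit g⁻¹ h
        rwa [inv_smul_smul] at this
      have := ih _ hlt _ hinv (fun y hy => hd y hy.1) rfl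
      rw [← Set.ncard_sdiff_add_ncard_of_subset hsub (Set.toFinite _)]
      refine dvd_add this ?_
      rw [← Nat.card_coe_set_eq]
      exact hd x hx

/-- Gleason-type lemma: if every `k`-set `s` is fixed pointwise by a subgroup all of whose other
orbits have length divisible by some `d > 1`, then the group is `k`-transitive. -/
theorem isMultiplyPretransitive_of_orbits_dvd [Fintype α] {k d : ℕ} (hd : 1 < d)
    (hkn : k < Fintype.card α)
    (h : ∀ s : Finset α, s.card = k → ∃ P : Subgroup G, (∀ g ∈ P, ∀ x ∈ s, g • x = x) ∧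
      ∀ x, x ∉ s → d ∣ Nat.card (orbit P x)) :
    IsMultiplyPretransitive G α k := by
  classical
  apply isMultiplyPretransitive_of_fixing
  intro A hA a b ha hb
  by_contra hne
  simp only [not_exists, not_and] at hne
  let X := fixingSubgroup G (A : Set α)
  let O : Set α := orbit X a
  have hbO : b ∉ O := by
    rintro ⟨⟨g, hg⟩, he⟩
    exact hne g (fun x hx => (mem_fixingSubgroup_iff G).1 hg x hx) he
  have hab : a ≠ b := by
    rintro rfl
    exact hbO (mem_orbit_self a)
  -- choose the rest of the `k`-set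
  have hU : k - (A.card + 1) ≤ ((Finset.univ \ A).erase a |>.erase b).card := by
    rw [Finset.card_erase_of_mem (by simp [hb, hab.symm]),
      Finset.card_erase_of_mem (by simp [ha]), Finset.card_sdiff_of_subset (Finset.subset_univ _),
      Finset.card_univ]
    omega
  obtain ⟨B, hBsub, hBc⟩ := Finset.exists_subset_card_eq hU
  have hB : ∀ x ∈ B, x ∉ A ∧ x ≠ a ∧ x ≠ b := by
    intro x hx
    have := hBsub hx
    simp at this
    tauto
  have hBA : Disjoint A B := Finset.disjoint_right.2 fun x hx => (hB x hx).1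
  have key : ∀ c : α, c ∉ A → c ∉ B → d ∣ (O \ (↑(insert c (A ∪ B)) : Set α)).ncard := by
    intro c hcA hcB
    obtain ⟨P, hP, hPd⟩ := h (insert c (A ∪ B)) (by
      rw [Finset.card_insert_of_notMem (by simp [hcA, hcB]), Finset.card_union_of_disjoint hBA, hBc]
      omega)
    apply dvd_ncard_of_invariant P
    · rintro g x ⟨hx, hxs⟩
      have hgX : (g : G) ∈ X := (mem_fixingSubgroup_iff G).2 fun y hy =>
        hP _ g.2 y (by simp only [Finset.mem_coe] at hy; simp [hy])
      refine ⟨mem_orbit_of_mem_orbit (⟨(g : G), hgX⟩ : X) hx, fun hgs => hxs ?_⟩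
      have hfix := hP _ g.2 _ (Finset.mem_coe.1 hgs)
      have : g • x = x := MulAction.injective (g : G) hfix
      rwa [this] at hgs
    · exact fun x hx => hPd x hx.2
  have k1 := key a ha (fun h' => (hB a h').2.1 rfl)
  have k2 := key b hb (fun h' => (hB b h').2.2 rfl)
  have e : O \ (↑(insert b (A ∪ B)) : Set α) = insert a (O \ (↑(insert a (A ∪ B)) : Set α)) := by
    ext x
    simp only [Set.mem_sdiff, Finset.coe_insert, Finset.coe_union, Set.mem_insert_iff, Set.mem_union,
      Finset.mem_coe]
    constructor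
    · rintro ⟨hx, hxn⟩
      by_cases hxa : x = a
      · exact Or.inl hxa
      · exact Or.inr ⟨hx, by tauto⟩
    · rintro (rfl | ⟨hx, hxn⟩)
      · exact ⟨mem_orbit_self _, by
          rintro (h' | h' | h')
          · exact hab h'
          · exact ha h'
          · exact (hB _ h').2.1 rfl⟩
      · refine ⟨hx, ?_⟩
        rintro (h' | h')
        · exact hbO (h' ▸ hx)
        · exact hxn (Or.inr h')
  rw [e, Set.ncard_insert_of_notMem (by simp) (Set.toFinite _)] at k2
  have h1 : d ∣ 1 := (Nat.dvd_add_right k1).1 k2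
  exact absurd (Nat.dvd_one.1 h1) hd.ne'

/-- Transitivity of a fixing subgroup adds to the multiple transitivity. -/
theorem isMultiplyPretransitive_add_of_fixingSubgroup {k : ℕ} (s : Finset α)
    (hG : IsMultiplyPretransitive G α s.card)
    (hF : IsMultiplyPretransitive (fixingSubgroup G (s : Set α))
      (SubMulAction.ofFixingSubgroup G (s : Set α)) k) :
    IsMultiplyPretransitive G α (s.card + k) := by
  classical
  let e : Fin s.card ↪ α := s.equivFin.symm.toEmbedding.trans (Function.Embedding.subtype _)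
  have hes : ∀ u ∈ s, ∃ i, e i = u := fun u hu =>
    ⟨s.equivFin ⟨u, hu⟩, by simp [e]⟩
  have main : ∀ x : Fin (s.card + k) ↪ α, ∃ g : G,
      (∀ i, g • x (Fin.castAdd k i) = e i) ∧
      ∀ i, g • x (Fin.natAdd s.card i) ∉ (s : Set α) := by
    intro x
    obtain ⟨g, hg⟩ := hG.exists_smul_eq ((Fin.castAddEmb k).trans x) e
    refine ⟨g, fun i => DFunLike.congr_fun hg i, fun i hi => ?_⟩
    obtain ⟨j, hj⟩ := hes _ hi
    rw [← DFunLike.congr_fun hg j] at hj
    have h' : Fin.castAdd k j = Fin.natAdd s.card i := x.injective (MulAction.injective g hj)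
    have := congrArg Fin.val h'
    simp at this
    omega
  rw [isMultiplyPretransitive_iff]
  intro x y
  obtain ⟨g, hgx, hgx'⟩ := main x
  obtain ⟨g', hgy, hgy'⟩ := main y
  let xr : Fin k ↪ SubMulAction.ofFixingSubgroup G (s : Set α) :=
    ⟨fun i => ⟨g • x (Fin.natAdd _ i), hgx' i⟩, fun i j h => by
      simpa using x.injective (MulAction.injective g (congrArg Subtype.val h))⟩
  let yr : Fin k ↪ SubMulAction.ofFixingSubgroup G (s : Set α) :=
    ⟨fun i => ⟨g' • y (Fin.natAdd _ i), hgy' i⟩, fun i j h => by
      simpa using y.injective (MulAction.injective g' (congrArg Subtype.val h))⟩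
  obtain ⟨⟨f, hf⟩, hfe⟩ := hF.exists_smul_eq xr yr
  refine ⟨g'⁻¹ * f * g, DFunLike.ext _ _ fun i => ?_⟩
  show (g'⁻¹ * f * g) • x i = y i
  rw [mul_smul, mul_smul, inv_smul_eq_iff]
  induction i using Fin.addCases with
  | left i =>
    rw [hgx, hgy]
    exact (mem_fixingSubgroup_iff G).1 hf _ (by simp [e])
  | right i => exact congrArg Subtype.val (DFunLike.congr_fun hfe i)

/-- The generous transitivity hypothesis used for induced permutations. -/
theorem exists_induced_perm [Fintype α] [DecidableEq α] {H : Subgroup (Equiv.Perm α)} {k : ℕ}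
    (hgen : ∀ s : Finset α, s.card = k + 1 → ∀ σ : Equiv.Perm ↥s, ∃ g ∈ H, ∀ x : ↥s, g (x : α) = σ x)
    (hk : k < Fintype.card α) (t : Finset α) (ht : t.card ≤ k + 1) (π : Equiv.Perm α)
    (hπ : ∀ x ∈ t, π x ∈ t) : ∃ g ∈ H, ∀ x ∈ t, g x = π x := by
  obtain ⟨T, htT, hTc⟩ := Finset.exists_superset_card_eq ht (by omega)
  let σ₀ : Equiv.Perm ↥t := π.subtypePerm (fun x => by
    constructor
    · intro hx
      have himg : t.image π = t :=
        Finset.eq_of_subset_of_card_le (Finset.image_subset_iff.2 hπ)
          (by rw [Finset.card_image_of_injective _ π.injective])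
      rw [← himg, Finset.mem_image] at hx
      obtain ⟨y, hy, hyx⟩ := hx
      rwa [← π.injective hyx]
    · exact hπ x)
  let π' : Equiv.Perm α := Equiv.Perm.ofSubtype σ₀
  have hπ' : ∀ x, x ∈ T ↔ π' x ∈ T := by
    intro x
    by_cases hx : x ∈ t
    · have : π' x = π x := Equiv.Perm.ofSubtype_apply_of_mem σ₀ hx
      rw [this]
      exact ⟨fun _ => htT (hπ x hx), fun _ => htT hx⟩
    · rw [Equiv.Perm.ofSubtype_apply_of_not_mem σ₀ hx]
  obtain ⟨g, hg, hgT⟩ := hgen T hTc (π'.subtypePerm (fun x => (hπ' x).symm))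
  refine ⟨g, hg, fun x hx => ?_⟩
  exact (hgT ⟨x, htT hx⟩).trans (Equiv.Perm.ofSubtype_apply_of_mem σ₀ hx)

/-- Generous `k`-transitivity implies `k`-transitivity. -/
theorem isMultiplyPretransitive_of_generous [Fintype α] [DecidableEq α]
    {H : Subgroup (Equiv.Perm α)} {k : ℕ} (hk : k < Fintype.card α)
    (hgen : ∀ s : Finset α, s.card = k + 1 → ∀ σ : Equiv.Perm ↥s, ∃ g ∈ H, ∀ x : ↥s, g (x : α) = σ x) :
    IsMultiplyPretransitive H α k := by
  apply isMultiplyPretransitive_of_fixing
  intro A hA a b ha hb
  obtain ⟨g, hg, hgT⟩ := exists_induced_perm hgen hk (insert a (insert b A)) (by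
      refine le_trans (Finset.card_insert_le _ _) ?_
      have := Finset.card_insert_le b A
      omega) (Equiv.swap a b) (fun x hx => by
      rw [Equiv.swap_apply_def]
      split_ifs <;> simp_all)
  refine ⟨⟨g, hg⟩, fun x hx => ?_, ?_⟩
  · show g x = x
    rw [hgT x (by simp [hx]), Equiv.swap_apply_of_ne_of_ne]
    · exact fun h => ha (h ▸ hx)
    · exact fun h => hb (h ▸ hx)
  · show g a = b
    rw [hgT a (by simp), Equiv.swap_apply_left]

end CfsgLib.Perm
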