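import Mathlib

/-!
# Automorphisms of permutation groups induced from the symmetric normalizer

`exists_normalizer_perm_of_fix`: an automorphism of a transitive permutation group mapping a point
stabilizer into a point stabilizer is induced by conjugation.

`orbit_card_eq_one_or_pred`: for a 2-transitive action and an automorphism `α` of odd order, an
orbit of `α(G_o)` of length coprime to the degree has length `1` or `n-1`.
-/

set_option autoImplicit false
set_option linter.unusedSectionVars false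

namespace CfsgLib.Perm.AutNormalizer

open MulAction Matrix Finset

theorem exists_normalizer_perm_of_fix {Ω : Type*} [Finite Ω] (G : Subgroup (Equiv.Perm Ω))
    [IsPretransitive G Ω] (o : Ω) (α : G ≃* G) {ω : Ω}
    (h : ∀ g ∈ (stabilizer G o).map α.toMonoidHom, g • ω = ω) :
    ∃ σ : Equiv.Perm Ω, σ ∈ Subgroup.normalizer (G : Set (Equiv.Perm Ω)) ∧
      ∀ g : G, ((α g : G) : Equiv.Perm Ω) = σ * (g : Equiv.Perm Ω) * σ⁻¹ := by
  classical
  choose r hr using fun x : Ω => exists_smul_eq G o x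
  let f : Ω → Ω := fun x => α (r x) • ω
  have hf : ∀ g : G, f (g • o) = α g • ω := fun g => by
    have : g⁻¹ * r (g • o) ∈ stabilizer G o := by
      rw [mem_stabilizer_iff, mul_smul, hr, inv_smul_smul]
    have := h (α (g⁻¹ * r (g • o))) ⟨_, this, rfl⟩
    rw [map_mul, map_inv, mul_smul, inv_smul_eq_iff] at this
    exact this
  have hsurj : Function.Surjective f := fun y => by
    obtain ⟨g, hg⟩ := exists_smul_eq G ω y
    exact ⟨α.symm g • o, by rw [hf, α.apply_symm_apply, hg]⟩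
  let σ : Equiv.Perm Ω := Equiv.ofBijective f ⟨Finite.injective_iff_surjective.mpr hsurj, hsurj⟩
  have hσ : ∀ x, σ x = f x := fun x => rfl
  have key : ∀ g : G, ((α g : G) : Equiv.Perm Ω) = σ * (g : Equiv.Perm Ω) * σ⁻¹ := fun g => by
    rw [eq_mul_inv_iff_mul_eq]
    ext x
    obtain ⟨a, rfl⟩ := exists_smul_eq G o x
    show α g • σ (a • o) = σ (g • (a • o))
    rw [hσ, hσ, hf, ← mul_smul g a, hf, map_mul, mul_smul]
  refine ⟨σ, Subgroup.mem_normalizer_iff.mpr fun x => ⟨fun hx => ?_, fun hx => ?_⟩, key⟩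
  · rw [← key ⟨x, hx⟩]
    exact (α ⟨x, hx⟩).2
  · obtain ⟨g, hg⟩ := α.surjective ⟨_, hx⟩
    have h1 := key g
    rw [hg] at h1
    simp only [mul_left_inj, mul_right_inj] at h1
    rw [h1]
    exact g.2

theorem fix_of_induced {Ω : Type*} (G : Subgroup (Equiv.Perm Ω)) (o : Ω) (α : G ≃* G)
    (σ : Equiv.Perm Ω) (h : ∀ g : G, ((α g : G) : Equiv.Perm Ω) = σ * (g : Equiv.Perm Ω) * σ⁻¹) :
    ∀ g ∈ (stabilizer G o).map α.toMonoidHom, g • σ o = σ o := by
  rintro _ ⟨g, hg, rfl⟩
  show ((α g : G) : Equiv.Perm Ω) (σ o) = σ o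
  have hg' : (g : Equiv.Perm Ω) o = o := hg
  simp [h, hg']

section matrix

variable {G X : Type*} [Group G] [Fintype X] [DecidableEq X] [MulAction G X]

/-- The matrix `a I + b J`. -/
def aIbJ (a b : ℤ) : Matrix X X ℤ := of fun x y => (if x = y then a else 0) + b

theorem aIbJ_apply (a b : ℤ) (x y : X) :
    aIbJ a b x y = (if x = y then a else 0) + b := rfl

theorem aIbJ_transpose (a b : ℤ) : (aIbJ a b : Matrix X X ℤ)ᵀ = aIbJ a b := by
  ext x y
  simp [aIbJ_apply, eq_comm]

theorem aIbJ_mul (a b c d : ℤ) : (aIbJ a b : Matrix X X ℤ) * aIbJ c d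
    = aIbJ (a * c) (a * d + b * c + b * d * Fintype.card X) := by
  ext x y
  simp [Matrix.mul_apply, aIbJ_apply, add_mul, mul_add, Finset.sum_add_distrib, ite_mul, mul_ite,
    Finset.card_univ]
  split_ifs <;> ring

theorem exists_aIbJ_pow (a b : ℤ) (s : ℕ) :
    ∃ c, (aIbJ a b : Matrix X X ℤ) ^ s = aIbJ (a ^ s) c := by
  induction s with
  | zero => exact ⟨0, by ext x y; simp [aIbJ_apply, one_apply]⟩
  | succ s ih =>
    obtain ⟨c, hc⟩ := ih
    exact ⟨_, by rw [pow_succ, hc, aIbJ_mul, pow_succ]⟩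

theorem exists_aIbJ_of_invariant (h2 : IsMultiplyPretransitive G X 2) (x₀ y₀ : X) (hne : x₀ ≠ y₀)
    (A : Matrix X X ℤ) (hA : ∀ (g : G) x y, A (g • x) (g • y) = A x y) :
    A = aIbJ (A x₀ x₀ - A x₀ y₀) (A x₀ y₀) := by
  rw [is_two_pretransitive_iff] at h2
  ext x y
  rw [aIbJ_apply]
  rcases eq_or_ne x y with rfl | hxy
  · obtain ⟨z, hz⟩ : ∃ z, x ≠ z := by
      by_cases h : x = x₀
      · exact ⟨y₀, h ▸ hne⟩
      · exact ⟨x₀, h⟩
    obtain ⟨g, hg, -⟩ := h2 hne hz
    rw [if_pos rfl, ← hg, hA]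
    ring
  · obtain ⟨g, hg, hg'⟩ := h2 hne hxy
    rw [if_neg hxy, ← hg, ← hg', hA, zero_add]

theorem arith {n k m u a b l : ℤ} {t : ℕ} (hn : 2 ≤ n) (hk : 1 ≤ k) (hkn : k ≤ n)
    (hcop : IsCoprime k n) (hk2 : k ^ 2 = m + l * n) (hm : m = k - l) (hl : 0 ≤ l)
    (hu : u ^ 2 = m) (ha : a = u * m ^ t) (hab : k ^ (2 * t + 1) = a + b * n) :
    k = 1 ∨ k = n - 1 := by
  have hkn' : k < n := by
    rcases hkn.lt_or_eq with h | h
    · exact h
    · subst h
      have := isCoprime_self.mp hcop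
      rw [Int.isUnit_iff] at this
      omega
  have hmn : IsCoprime n m := by
    have h1 : IsCoprime n (k ^ 2) := hcop.symm.pow_right
    have h2 : m = k ^ 2 + n * (-l) := by linarith
    rw [h2]
    exact h1.add_mul_left_right _
  have hdvd : n ∣ m ^ t * (k - u) := by
    have h1 : n ∣ (k ^ 2) ^ t - m ^ t :=
      (dvd_trans ⟨l, by linarith⟩ (sub_dvd_pow_sub_pow _ _ t))
    have h2 : m ^ t * (k - u) = k * (m ^ t - (k ^ 2) ^ t) + b * n := by
      have : k * (k ^ 2) ^ t = a + b * n := by rw [← pow_mul, ← pow_succ', hab]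
      rw [ha] at this
      linear_combination this
    rw [h2]
    exact dvd_add (Dvd.dvd.mul_left (dvd_sub_comm.mp h1) _) (dvd_mul_left _ _)
  obtain ⟨q, hq⟩ : n ∣ k - u := (hmn.pow_right (n := t)).dvd_of_dvd_mul_left hdvd
  have hum : u ≤ k ∧ -k ≤ u := by
    constructor <;> nlinarith
  have hq0 : 0 ≤ q := by nlinarith
  have hq2 : q ≤ 1 := by nlinarith
  obtain rfl | rfl : q = 0 ∨ q = 1 := by omega
  · left
    have : u = k := by linarith
    subst this
    nlinarith
  · right
    have h1 : u = k - n := by linarith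
    have h3 : l * (n - 1) = k * (k - 1) := by nlinarith
    have h4 : (n - k) ^ 2 * (n - 1) = k * (n - k) := by
      have h5 : (n - k) ^ 2 = k - l := by rw [← hm, ← hu, h1]; ring
      rw [h5]
      nlinarith
    have h5 : (n - k) * (n - 1) = k := by
      apply mul_left_cancel₀ (show n - k ≠ 0 by omega)
      linear_combination h4
    nlinarith

theorem orbit_card_eq_one_or_pred (h2 : IsMultiplyPretransitive G X 2) (o ω : X) (α : MulAut G)
    (hα : Odd (orderOf α))
    (hk : (Nat.card (orbit ((stabilizer G o).map α.toMonoidHom) ω)).Coprime (Fintype.card X)) :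
    Nat.card (orbit ((stabilizer G o).map α.toMonoidHom) ω) = 1 ∨
      Nat.card (orbit ((stabilizer G o).map α.toMonoidHom) ω) = Fintype.card X - 1 := by
  classical
  set H := (stabilizer G o).map α.toMonoidHom with hH
  set k := Nat.card (orbit H ω) with hkdef
  have hk1 : 1 ≤ k := Nat.one_le_iff_ne_zero.mpr fun h => by
    have : Nonempty (orbit H ω) := ⟨⟨ω, mem_orbit_self _⟩⟩
    exact Nat.card_pos.ne' h
  have hkn : k ≤ Fintype.card X := by
    rw [hkdef, ← Nat.card_eq_fintype_card]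
    exact Nat.card_le_card_of_injective _ Subtype.val_injective
  by_cases hn : Fintype.card X ≤ 1
  · left; omega
  obtain ⟨x₀, y₀, hne⟩ := Fintype.exists_pair_of_one_lt_card (by omega : 1 < Fintype.card X)
  have htr : IsPretransitive G X := isPretransitive_of_is_two_pretransitive (h2 := h2)
  let M : Matrix X X ℤ :=
    of fun x y => if ∃ g : G, g • o = x ∧ (α g)⁻¹ • y ∈ orbit H ω then 1 else 0
  have hM : ∀ (h : G) x y, M (h • x) (α h • y) = M x y := fun h x y => by
    simp only [M, of_apply]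
    congr 1
    refine propext ⟨fun ⟨g, h1, h2⟩ => ⟨h⁻¹ * g, ?_, ?_⟩, fun ⟨g, h1, h2⟩ => ⟨h * g, ?_, ?_⟩⟩
    · rw [mul_smul, h1, inv_smul_smul]
    · rwa [map_mul, map_inv, _root_.mul_inv_rev, inv_inv, mul_smul]
    · rw [mul_smul, h1]
    · rwa [map_mul, _root_.mul_inv_rev, mul_smul, inv_smul_smul]
  have hrow0 : ∀ y, M o y = if y ∈ orbit H ω then 1 else 0 := fun y => by
    simp only [M, of_apply]
    congr 1
    refine propext ⟨?_, fun hy => ⟨1, one_smul _ _, by simpa using hy⟩⟩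
    rintro ⟨g, h1, h2⟩
    have hg : α g ∈ H := ⟨g, h1, rfl⟩
    have := mem_orbit_of_mem_orbit (⟨α g, hg⟩ : H) h2
    rwa [Subgroup.smul_def, smul_inv_smul] at this
  have hrow : ∀ x, ∑ y, M x y = (k : ℤ) := fun x => by
    obtain ⟨g, rfl⟩ := exists_smul_eq G o x
    rw [← Equiv.sum_comp (MulAction.toPerm (α g))]
    simp only [MulAction.toPerm_apply, hM, hrow0, Finset.sum_boole]
    rw [hkdef, Nat.card_eq_fintype_card, Fintype.card_subtype]
  have hcol : ∀ y, ∑ x, M x y = (k : ℤ) := by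
    have hconst : ∀ y, ∑ x, M x y = ∑ x, M x o := fun y => by
      obtain ⟨h, rfl⟩ := exists_smul_eq G o y
      rw [← Equiv.sum_comp (MulAction.toPerm (α.symm h))]
      refine Finset.sum_congr rfl fun x _ => ?_
      have := hM (α.symm h) x o
      rwa [MulEquiv.apply_symm_apply] at this
    have htot : ∑ y, ∑ x, M x y = Fintype.card X • (k : ℤ) := by
      rw [Finset.sum_comm]
      simp [hrow]
    simp only [hconst, Finset.sum_const, Finset.card_univ, nsmul_eq_mul] at htot
    intro y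
    rw [hconst y]
    exact mul_left_cancel₀ (by exact_mod_cast (by omega : Fintype.card X ≠ 0)) htot
  have hpow : ∀ (j : ℕ) (h : G) x y, (M ^ j) (h • x) ((α ^ j) h • y) = (M ^ j) x y := by
    intro j
    induction j with
    | zero => intro h x y; simp [one_apply, smul_left_cancel_iff]
    | succ j ih =>
      intro h x y
      rw [pow_succ M, mul_apply, mul_apply, ← Equiv.sum_comp (MulAction.toPerm ((α ^ j) h))]
      refine Finset.sum_congr rfl fun z _ => ?_
      rw [MulAction.toPerm_apply, ih, pow_succ', MulAut.mul_apply, hM]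
  set s := orderOf α with hs
  obtain ⟨a, b, hab⟩ : ∃ a b, M ^ s = aIbJ a b :=
    ⟨_, _, exists_aIbJ_of_invariant h2 x₀ y₀ hne _ fun h x y => by
      have := hpow s h x y
      rwa [hs, pow_orderOf_eq_one, MulAut.one_apply, ← hs] at this⟩
  set l : ℤ := (M * Mᵀ) x₀ y₀ with hl
  have hMMT : M * Mᵀ = aIbJ ((k : ℤ) - l) l := by
    have h1 := exists_aIbJ_of_invariant h2 x₀ y₀ hne (M * Mᵀ) fun h x y => by
      simp only [mul_apply, transpose_apply]
      rw [← Equiv.sum_comp (MulAction.toPerm (α h))]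
      simp only [MulAction.toPerm_apply, hM]
    rw [h1, ← hl]
    congr 2
    rw [mul_apply, ← hrow x₀]
    refine Finset.sum_congr rfl fun y _ => ?_
    simp only [transpose_apply, M, of_apply]
    split_ifs <;> simp
  have hMJ : M * aIbJ 0 1 = aIbJ 0 (k : ℤ) := by
    ext x y
    simp [mul_apply, aIbJ_apply, hrow]
  have hJM : aIbJ 0 1 * M = aIbJ 0 (k : ℤ) := by
    ext x y
    simp [mul_apply, aIbJ_apply, hcol]
  have hJMT : Mᵀ * aIbJ 0 1 = aIbJ 0 (k : ℤ) := by
    have := congrArg transpose hJM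
    rwa [transpose_mul, aIbJ_transpose, aIbJ_transpose] at this
  have hsplit : ∀ c d : ℤ, (aIbJ c d : Matrix X X ℤ) = c • 1 + d • aIbJ 0 1 := fun c d => by
    ext x y
    simp only [aIbJ_apply, Matrix.add_apply, Matrix.smul_apply, one_apply, smul_eq_mul]
    split_ifs <;> ring
  have hcomm : Commute M (M * Mᵀ) := by
    rw [hMMT, hsplit]
    exact ((Commute.one_right M).smul_right _).add_right
      (Commute.smul_right (hMJ.trans hJM.symm) _)
  have hk2 : (k : ℤ) ^ 2 = ((k : ℤ) - l) + l * Fintype.card X := by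
    have h1 : M * Mᵀ * aIbJ 0 1 = aIbJ 0 ((k : ℤ) ^ 2) := by
      rw [mul_assoc, hJMT, hsplit 0 (k : ℤ), zero_smul, zero_add, Matrix.mul_smul, hMJ]
      ext x y; simp [aIbJ_apply]; ring
    rw [hMMT, aIbJ_mul] at h1
    have := congrFun (congrFun h1 x₀) y₀
    simp [aIbJ_apply] at this
    linarith
  have hks : (k : ℤ) ^ s = a + b * Fintype.card X := by
    have h1 : ∀ j, M ^ j * aIbJ 0 1 = aIbJ 0 ((k : ℤ) ^ j) := by
      intro j
      induction j with
      | zero => simp
      | succ j ih =>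
        rw [pow_succ, mul_assoc, hMJ, hsplit 0 (k : ℤ), zero_smul, zero_add, Matrix.mul_smul, ih]
        ext x y; simp [aIbJ_apply]; ring
    have := h1 s
    rw [hab, aIbJ_mul] at this
    have := congrFun (congrFun this x₀) y₀
    simp [aIbJ_apply] at this
    linarith
  have hsq : a ^ 2 = ((k : ℤ) - l) ^ s := by
    have h1 : ∀ j, M ^ j * (M ^ j)ᵀ = (M * Mᵀ) ^ j := by
      intro j
      induction j with
      | zero => simp
      | succ j ih =>
        rw [pow_succ' M, transpose_mul, show M * M ^ j * ((M ^ j)ᵀ * Mᵀ) = M * (M ^ j * (M ^ j)ᵀ) * Mᵀ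
          by simp only [mul_assoc], ih, (hcomm.pow_right j).eq, mul_assoc, ← pow_succ]
    have := h1 s
    rw [hab, aIbJ_transpose, aIbJ_mul, hMMT] at this
    obtain ⟨c, hc⟩ := exists_aIbJ_pow (X := X) ((k : ℤ) - l) l s
    rw [hc] at this
    have e1 := congrFun (congrFun this x₀) y₀
    have e2 := congrFun (congrFun this x₀) x₀
    simp [aIbJ_apply, hne] at e1 e2
    linarith
  have hl0 : 0 ≤ l := by
    rw [hl, mul_apply]
    refine Finset.sum_nonneg fun y _ => mul_nonneg ?_ ?_ <;>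
      · simp only [transpose_apply, M, of_apply]; split_ifs <;> simp
  have hcopZ : IsCoprime (k : ℤ) (Fintype.card X : ℤ) := Int.isCoprime_iff_nat_coprime.mpr (by simpa using hk)
  have hm0 : (k : ℤ) - l ≠ 0 := fun h => by
    rw [h, zero_add] at hk2
    have h1 : IsCoprime ((k : ℤ) ^ 2) (Fintype.card X : ℤ) := hcopZ.pow_left
    rw [hk2] at h1
    have h2 := Int.isUnit_iff.mp (isCoprime_self.mp h1.of_mul_left_right)
    omega
  obtain ⟨t, ht⟩ := hα
  have hu : ∃ u, a = u * ((k : ℤ) - l) ^ t := by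
    have : (((k : ℤ) - l) ^ t) ^ 2 ∣ a ^ 2 := ⟨(k : ℤ) - l, by rw [hsq, ht, ← pow_mul, ← pow_succ]; ring_nf⟩
    obtain ⟨u, hu⟩ := (Int.pow_dvd_pow_iff (by norm_num : 2 ≠ 0)).mp this
    exact ⟨u, by rw [hu, mul_comm]⟩
  obtain ⟨u, hu⟩ := hu
  have hu2 : u ^ 2 = (k : ℤ) - l := by
    apply mul_right_cancel₀ (pow_ne_zero (2 * t) hm0)
    have h1 := hsq
    rw [ht, hu, pow_succ' ((k : ℤ) - l) (2 * t)] at h1
    linear_combination h1
  rcases arith (n := (Fintype.card X : ℤ)) (by omega) (by omega) (by omega) hcopZ hk2 rfl hl0 hu2 hu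
    (by rw [← hks, ht]) with h | h
  · left; omega
  · right; omega

theorem exists_fixed_of_coprime_orbit (h2 : IsMultiplyPretransitive G X 2) (o ω : X) (α : MulAut G)
    (hα : Odd (orderOf α))
    (hk : (Nat.card (orbit ((stabilizer G o).map α.toMonoidHom) ω)).Coprime (Fintype.card X)) :
    ∃ z : X, ∀ g ∈ (stabilizer G o).map α.toMonoidHom, g • z = z := by
  classical
  set H := (stabilizer G o).map α.toMonoidHom
  rcases orbit_card_eq_one_or_pred h2 o ω α hα hk with h | h
  · refine ⟨ω, fun g hg => ?_⟩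
    rw [Nat.card_eq_one_iff_unique] at h
    have := h.1.elim ⟨_, mem_orbit ω (⟨g, hg⟩ : H)⟩ ⟨ω, mem_orbit_self _⟩
    exact congrArg Subtype.val this
  · have hc : Nat.card ↥(orbit H ω) + (orbit H ω)ᶜ.ncard = Fintype.card X := by
      rw [Nat.card_coe_set_eq, Set.ncard_add_ncard_compl, Nat.card_eq_fintype_card]
    have hn : 0 < Fintype.card X := Fintype.card_pos_iff.mpr ⟨o⟩
    change Nat.card ↥(orbit H ω) = _ at h
    have h1 : (orbit H ω)ᶜ.ncard = 1 := by omega
    obtain ⟨z, hz⟩ := Set.ncard_eq_one.mp h1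
    refine ⟨z, fun g hg => ?_⟩
    have hzmem : z ∈ (orbit H ω)ᶜ := hz ▸ rfl
    have : g • z ∈ (orbit H ω)ᶜ := fun hmem => hzmem <| by
      have := mem_orbit_of_mem_orbit (⟨g, hg⟩ : H)⁻¹ hmem
      rwa [Subgroup.smul_def, InvMemClass.coe_inv, inv_smul_smul] at this
    rw [hz] at this
    exact this

end matrix

end CfsgLib.Perm.AutNormalizer
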