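import Mathlib

/-!
Basic facts on transitive permutation groups and centralisers of actions.
-/

namespace CfsgLib.Perm

open MulAction

variable {G : Type*} [Group G] {α : Type*} [MulAction G α]

/-- A map commuting with a transitive action is determined by one value. -/
theorem eq_of_comm_of_eq [IsPretransitive G α] {f h : α → α}
    (hf : ∀ g : G, ∀ x, f (g • x) = g • f x) (hh : ∀ g : G, ∀ x, h (g • x) = g • h x)
    {a : α} (he : f a = h a) : f = h := by
  funext x
  obtain ⟨g, rfl⟩ := exists_smul_eq G a x
  rw [hf, hh, he]

/-- Membership in the centraliser of a permutation group, pointwise. -/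
theorem mem_centralizer_iff_apply {α : Type*} (G : Subgroup (Equiv.Perm α)) {c : Equiv.Perm α} :
    c ∈ Subgroup.centralizer (G : Set (Equiv.Perm α)) ↔
      ∀ g : G, ∀ x : α, c (g • x) = g • c x := by
  rw [Subgroup.mem_centralizer_iff]
  constructor
  · intro h g x
    have := congrArg (fun p : Equiv.Perm α => p x) (h g.1 g.2)
    exact this.symm
  · intro h g hg
    ext x
    exact (h ⟨g, hg⟩ x).symm

theorem centralizer_eq_one_of_fix {α : Type*} (G : Subgroup (Equiv.Perm α))
    [IsPretransitive G α] {c : Equiv.Perm α}
    (hc : c ∈ Subgroup.centralizer (G : Set (Equiv.Perm α))) {a : α} (ha : c a = a) : c = 1 := by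
  have := eq_of_comm_of_eq (G := G) ((mem_centralizer_iff_apply G).1 hc)
    (h := id) (fun g x => rfl) ha
  ext x
  exact congrFun this x

/-- If the stabiliser of `a` fixes `b`, there is an element of the centraliser taking `a` to `b`,
in a transitive finite permutation group. -/
theorem exists_centralizer_of_fixed {α : Type*} [Finite α] (G : Subgroup (Equiv.Perm α))
    [IsPretransitive G α] {a b : α} (hb : ∀ g : G, g • a = a → g • b = b) :
    ∃ c ∈ Subgroup.centralizer (G : Set (Equiv.Perm α)), c a = b := by
  choose r hr using exists_smul_eq G a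
  have key : ∀ g : G, ∀ x, r (g • x) • b = g • r x • b := by
    intro g x
    have h1 : ((g * r x)⁻¹ * r (g • x)) • a = a := by
      rw [mul_smul, hr, mul_inv_rev, mul_smul, inv_smul_smul, inv_smul_eq_iff, hr]
    have := hb _ h1
    rw [mul_smul, inv_smul_eq_iff, mul_smul] at this
    exact this
  have hsurj : Function.Surjective (fun x => r x • b) := by
    intro y
    obtain ⟨g, rfl⟩ := exists_smul_eq G b y
    refine ⟨g • a, ?_⟩
    simp only
    rw [key, hb _ (hr a)]
  refine ⟨Equiv.ofBijective _ (Finite.surjective_iff_bijective.1 hsurj),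
    (mem_centralizer_iff_apply G).2 key, ?_⟩
  exact hb _ (hr a)

/-- If two points have the same stabiliser in a transitive group, some element of the centraliser
takes one to the other; no finiteness needed. -/
theorem exists_centralizer_of_stabilizer_eq {α : Type*} (G : Subgroup (Equiv.Perm α))
    [IsPretransitive G α] {a b : α} (hb : stabilizer G a = stabilizer G b) :
    ∃ c ∈ Subgroup.centralizer (G : Set (Equiv.Perm α)), c a = b := by
  choose r hr using exists_smul_eq G a
  choose s hs using exists_smul_eq G b
  have aux : ∀ (u v : α) (r : α → G), (∀ x, r x • u = x) → stabilizer G u = stabilizer G v →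
      ∀ (g : G), ∀ x, r (g • x) • v = g • r x • v := by
    intro u v r hr huv g x
    have h1 : ((g * r x)⁻¹ * r (g • x)) ∈ stabilizer G u := by
      rw [mem_stabilizer_iff, mul_smul, hr, mul_inv_rev, mul_smul, inv_smul_smul,
        inv_smul_eq_iff, hr]
    rw [huv, mem_stabilizer_iff, mul_smul, inv_smul_eq_iff, mul_smul] at h1
    exact h1
  have hra : ∀ g : G, g • a = a → g • b = b := fun g hg => by
    have : g ∈ stabilizer G a := hg
    rwa [hb] at this
  have hsb : ∀ g : G, g • b = b → g • a = a := fun g hg => by
    have : g ∈ stabilizer G b := hg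
    rwa [← hb] at this
  let e : Equiv.Perm α :=
    { toFun := fun x => r x • b
      invFun := fun x => s x • a
      left_inv := fun x => by
        simp only
        rw [aux b a s hs hb.symm (r x) b, hsb _ (hs b), hr]
      right_inv := fun x => by
        simp only
        rw [aux a b r hr hb (s x) a, hra _ (hr a), hs] }
  exact ⟨e, (mem_centralizer_iff_apply G).2 (aux a b r hr hb), hra _ (hr a)⟩

end CfsgLib.Perm

namespace CfsgLib.Perm

open MulAction

/-- Two subgroups of a group with trivial intersection, both normal, commute elementwise. -/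
theorem commute_of_normal_disjoint {G : Type*} [Group G] {M N : Subgroup G} (hM : M.Normal)
    (hN : N.Normal) (h : M ⊓ N = ⊥) {x y : G} (hx : x ∈ M) (hy : y ∈ N) : x * y = y * x :=
  Subgroup.commute_of_normal_of_disjoint M N hM hN (disjoint_iff.2 h) x y hx hy

/-- An abelian transitive group of a faithful action is semiregular. -/
theorem stabilizer_eq_bot_of_comm {G : Type*} [Group G] {α : Type*} [MulAction G α]
    [FaithfulSMul G α] (M : Subgroup G) [IsPretransitive M α]
    (hM : ∀ x ∈ M, ∀ y ∈ M, x * y = y * x) (a : α) : stabilizer M a = ⊥ := by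
  rw [eq_bot_iff]
  intro m hm
  rw [Subgroup.mem_bot]
  apply Subtype.ext
  apply eq_of_smul_eq_smul (α := α)
  intro x
  obtain ⟨k, rfl⟩ := exists_smul_eq M a x
  show (m : G) • (k : G) • a = (1 : G) • (k : G) • a
  rw [one_smul, smul_smul, hM _ m.2 _ k.2, mul_smul]
  congr 1

/-- If `d` commutes with the transitive group `M` and agrees at one point with some element `n`
which commutes with `M`, then they are equal. -/
theorem eq_of_centralizer_agree {α : Type*} (M : Subgroup (Equiv.Perm α))
    [IsPretransitive M α] {c d : Equiv.Perm α}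
    (hc : c ∈ Subgroup.centralizer (M : Set (Equiv.Perm α)))
    (hd : d ∈ Subgroup.centralizer (M : Set (Equiv.Perm α))) {a : α} (he : c a = d a) : c = d := by
  apply Equiv.ext
  intro x
  exact congrFun (eq_of_comm_of_eq (G := M) ((mem_centralizer_iff_apply M).1 hc)
    ((mem_centralizer_iff_apply M).1 hd) he) x

/-- Mapping a transitive subgroup into `Equiv.Perm α` keeps it transitive. -/
theorem isPretransitive_map_subtype {α : Type*} {G : Subgroup (Equiv.Perm α)} (M : Subgroup G)
    [h : IsPretransitive M α] : IsPretransitive (M.map G.subtype : Subgroup (Equiv.Perm α)) α := by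
  constructor
  intro a b
  obtain ⟨m, hm⟩ := h.exists_smul_eq a b
  exact ⟨⟨_, Subgroup.mem_map_of_mem _ m.2⟩, hm⟩

/-- The centraliser of `M` contains `N` when they commute elementwise. -/
theorem map_le_centralizer_map {α : Type*} {G : Subgroup (Equiv.Perm α)} {M N : Subgroup G}
    (h : ∀ x ∈ M, ∀ y ∈ N, x * y = y * x) :
    N.map G.subtype ≤ Subgroup.centralizer ((M.map G.subtype : Subgroup (Equiv.Perm α)) : Set _) := by
  rintro _ ⟨y, hy, rfl⟩
  rw [Subgroup.mem_centralizer_iff]
  rintro _ ⟨x, hx, rfl⟩
  exact congrArg G.subtype (h x hx y hy)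

/-- If `N` is transitive and centralises the transitive group `M`, then `N` is the whole
centraliser of `M`. -/
theorem centralizer_map_eq {α : Type*} {G : Subgroup (Equiv.Perm α)} {M N : Subgroup G}
    [IsPretransitive M α] [IsPretransitive N α] (h : ∀ x ∈ M, ∀ y ∈ N, x * y = y * x) :
    Subgroup.centralizer ((M.map G.subtype : Subgroup (Equiv.Perm α)) : Set _)
      = N.map G.subtype := by
  refine le_antisymm ?_ (map_le_centralizer_map h)
  intro c hc
  rcases isEmpty_or_nonempty α with hα | ⟨⟨a⟩⟩
  · rw [Subsingleton.elim c 1]; exact one_mem _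
  · haveI := isPretransitive_map_subtype M
    obtain ⟨n, hn⟩ := exists_smul_eq N a (c a)
    have hn' := map_le_centralizer_map h (Subgroup.mem_map_of_mem G.subtype n.2)
    rw [eq_of_centralizer_agree (M.map G.subtype) hc hn' hn.symm]
    exact Subgroup.mem_map_of_mem _ n.2

end CfsgLib.Perm
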