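import Mathlib
import Cfsg.Agent.Characters.FrobeniusKernel
import Cfsg.Agent.S0144

/-!
# Minimal normal subgroups of doubly transitive groups

Burnside's theorem: a minimal normal subgroup of a doubly transitive group is regular elementary
abelian or simple and primitive.
-/

set_option autoImplicit false
set_option linter.style.haveILetI false
set_option linter.unusedSectionVars false

namespace CfsgLib.Perm.BurnsideMinimal

open MulAction
open scoped Pointwise

section Basic

variable {M α : Type*} [Group M] [MulAction M α]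

/-- Orbit-stabiliser when all stabilisers on an invariant set have the same order. -/
theorem card_dvd_of_stab [Finite M] [Finite α] (Y : Subgroup M) (S : Set α)
    (hinv : ∀ y ∈ Y, ∀ x ∈ S, y • x ∈ S) (d : ℕ)
    (hstab : ∀ x ∈ S, Nat.card ↥(Y ⊓ stabilizer M x) = d) : Nat.card Y ∣ d * S.ncard := by
  classical
  let X : SubMulAction Y α := ⟨S, fun y x hx => hinv y.1 y.2 x hx⟩
  haveI : Finite X := Subtype.finite
  haveI := Fintype.ofFinite (orbitRel.Quotient Y X)
  rw [← Nat.card_coe_set_eq, show Nat.card S = Nat.card X from rfl,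
    Nat.card_congr (selfEquivSigmaOrbits Y X), Nat.card_sigma, Finset.mul_sum]
  refine Finset.dvd_sum fun w _ => ?_
  have hs : Nat.card (stabilizer Y (Quotient.out w)) = d := by
    rw [← hstab _ (Quotient.out w).2]
    exact Nat.card_congr
      { toFun := fun y => ⟨y.1.1, y.1.2, congrArg Subtype.val y.2⟩
        invFun := fun y => ⟨⟨y.1, y.2.1⟩, Subtype.ext y.2.2⟩
        left_inv := fun _ => rfl
        right_inv := fun _ => rfl }
  rw [← hs, mul_comm, ← Nat.card_prod,
    Nat.card_congr (orbitProdStabilizerEquivGroup Y (Quotient.out w))]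

/-- An element commuting with a transitive subgroup and fixing a point is trivial. -/
theorem eq_one_of_commute [FaithfulSMul M α] {T : Subgroup M} (hT : IsPretransitive T α) {x : M}
    (hx : ∀ t ∈ T, x * t = t * x) {a : α} (hxa : x • a = a) : x = 1 := by
  refine eq_of_smul_eq_smul (α := α) fun b => ?_
  obtain ⟨⟨t, ht⟩, rfl⟩ := hT.exists_smul_eq a b
  rw [one_smul, Subgroup.mk_smul, ← mul_smul, hx t ht, mul_smul, hxa]

end Basic

variable {G α : Type*} [Group G] [MulAction G α] (N : Subgroup G) [N.Normal]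

/-- Conjugation of a normal subgroup. -/
theorem conj_smul (g : G) (n : N) (x : α) : (MulAut.conjNormal g n : N) • (g • x) = g • (n • x) := by
  show ((MulAut.conjNormal g n : N) : G) • (g • x) = g • ((n : G) • x)
  rw [MulAut.conjNormal_apply, ← mul_smul, ← mul_smul, inv_mul_cancel_right]

theorem mem_stab_conj (g : G) (n : N) (x : α) :
    MulAut.conjNormal g n ∈ stabilizer N (g • x) ↔ n ∈ stabilizer N x := by
  rw [mem_stabilizer_iff, mem_stabilizer_iff, conj_smul, smul_left_cancel_iff]

variable [Finite G] [Finite α]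

theorem pair_card (h2 : IsMultiplyPretransitive G α 2) {a b c e : α} (hab : a ≠ b) (hce : c ≠ e) :
    Nat.card ↥(stabilizer N a ⊓ stabilizer N b) = Nat.card ↥(stabilizer N c ⊓ stabilizer N e) := by
  obtain ⟨g, hga, hgb⟩ := is_two_pretransitive_iff.1 h2 hab hce
  refine Nat.card_congr ((MulAut.conjNormal (H := N) g).toEquiv.subtypeEquiv fun n => ?_)
  show n ∈ stabilizer N a ⊓ stabilizer N b ↔ MulAut.conjNormal g n ∈ stabilizer N c ⊓ stabilizer N e
  rw [Subgroup.mem_inf, Subgroup.mem_inf, ← hga, ← hgb, mem_stab_conj, mem_stab_conj]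

variable [FaithfulSMul G α]

/-- A normal subgroup of a doubly transitive group with a non-trivial block is a Frobenius group:
only the identity fixes two points. -/
theorem pair_eq_bot_of_block (h2 : IsMultiplyPretransitive G α 2) [IsPretransitive N α]
    {B : Set α} (hB : IsBlock N B) {a b c : α} (ha : a ∈ B) (hb : b ∈ B) (hab : a ≠ b)
    (hc : c ∉ B) : stabilizer N a ⊓ stabilizer N b = ⊥ := by
  classical
  set d := Nat.card ↥(stabilizer N a ⊓ stabilizer N b) with hd
  have hpair : ∀ x y : α, x ≠ y → Nat.card ↥(stabilizer N x ⊓ stabilizer N y) = d := fun x y h =>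
    pair_card N h2 h hab
  -- an element fixing `x` and stabilising a block away from `x` fixes that block pointwise
  have key : ∀ (x : α) (g : N), x ∉ g • B → ∀ h : N, h • x = x → h • (g • B) = g • B →
      ∀ y ∈ g • B, h • y = y := by
    intro x g hx h hhx hhC y hy
    obtain ⟨u, hu⟩ := exists_smul_eq N a x
    set D := u • B with hD
    have hxD : x ∈ D := hu ▸ Set.smul_mem_smul_set ha
    have hBD : IsBlock N D := hB.translate u
    set Y : Subgroup N := stabilizer N x ⊓ stabilizer N (g • B) with hY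
    have h1 : Nat.card Y ∣ d * (g • B).ncard := by
      refine card_dvd_of_stab Y _ (fun v hv z hz => ?_) d fun z hz => ?_
      · have hv' : v • (g • B) = g • B := (Subgroup.mem_inf.1 hv).2
        rw [← hv']; exact Set.smul_mem_smul_set hz
      · have hxz : x ≠ z := fun e => hx (e ▸ hz)
        rw [← hpair x z hxz]
        congr 2
        ext v
        simp only [hY, Subgroup.mem_inf]
        refine ⟨fun hv => ⟨hv.1.1, hv.2⟩, fun hv => ⟨⟨hv.1, ?_⟩, hv.2⟩⟩
        exact (hB.translate g).stabilizer_le hz hv.2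
    have h2' : Nat.card (stabilizer N x) ∣ d * (D \ {x}).ncard := by
      refine card_dvd_of_stab _ _ (fun v hv z hz => ?_) d fun z hz => ?_
      · have hvD : v • D = D := hBD.stabilizer_le hxD hv
        refine ⟨hvD ▸ Set.smul_mem_smul_set hz.1, fun e => hz.2 ?_⟩
        exact (smul_left_cancel_iff v).1 ((Set.mem_singleton_iff.1 e).trans hv.symm)
      · exact hpair x z fun e => hz.2 e.symm
    have hcard : (g • B).ncard = (D \ {x}).ncard + 1 := by
      rw [Set.ncard_sdiff_singleton_add_one hxD, hD, Set.ncard_smul_set, Set.ncard_smul_set]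
    rw [hcard, Nat.mul_succ] at h1
    have h3 : Nat.card Y ∣ d :=
      (Nat.dvd_add_right ((Subgroup.card_dvd_of_le inf_le_left).trans h2')).1 h1
    have hle : stabilizer N x ⊓ stabilizer N y ≤ Y := fun v hv =>
      Subgroup.mem_inf.2 ⟨hv.1, (hB.translate g).stabilizer_le hy hv.2⟩
    have heq : stabilizer N x ⊓ stabilizer N y = Y := Subgroup.eq_of_le_of_card_ge hle (by
      rw [hpair x y fun e => hx (e ▸ hy)]
      exact Nat.le_of_dvd Nat.card_pos h3)
    have hmem : h ∈ Y := Subgroup.mem_inf.2 ⟨hhx, hhC⟩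
    rw [← heq] at hmem
    exact (Subgroup.mem_inf.1 hmem).2
  -- all two-point stabilisers at `a` agree
  have heq : ∀ z : α, z ∉ B → stabilizer N a ⊓ stabilizer N z = stabilizer N a ⊓ stabilizer N b := by
    intro z hz
    have hle : stabilizer N a ⊓ stabilizer N z ≤ stabilizer N a ⊓ stabilizer N b := by
      intro h hh
      refine Subgroup.mem_inf.2 ⟨hh.1, key z 1 (by rwa [one_smul]) h hh.2 ?_ b (by rwa [one_smul])⟩
      rw [one_smul]
      exact hB.stabilizer_le ha hh.1
    exact Subgroup.eq_of_le_of_card_ge hle (hpair a z fun e => hz (e ▸ ha)).ge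
  rw [Subgroup.eq_bot_iff_forall]
  intro h hh
  refine Subtype.ext (eq_of_smul_eq_smul (α := α) fun z => ?_)
  rw [Subgroup.coe_one, one_smul]
  show h • z = z
  by_cases hz : z ∈ B
  · have hh' := hh
    rw [← heq c hc] at hh'
    refine key c 1 (by rwa [one_smul]) h hh'.2 ?_ z (by rwa [one_smul])
    rw [one_smul]
    exact hB.stabilizer_le ha hh.1
  · rw [← heq z hz] at hh
    exact hh.2

/-- A minimal normal subgroup of a doubly transitive group is primitive unless it is regular. -/
theorem isPreprimitive (h2 : IsMultiplyPretransitive G α 2) [IsPretransitive N α]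
    (hmin : ∀ M : Subgroup G, M.Normal → M ≤ N → M = ⊥ ∨ M = N)
    (hne : ∀ a : α, stabilizer N a ≠ ⊥) : IsPreprimitive N α := by
  classical
  constructor
  intro B hB
  by_contra hT
  simp only [IsTrivialBlock, not_or, Set.Subsingleton, not_forall] at hT
  obtain ⟨⟨a, ha, b, hb, hab⟩, huniv⟩ := hT
  obtain ⟨c, hc⟩ := (Set.ne_univ_iff_exists_notMem B).1 huniv
  have hpair : ∀ x y : α, x ≠ y → stabilizer N x ⊓ stabilizer N y = ⊥ := by
    intro x y hxy
    apply Subgroup.eq_bot_of_card_eq
    rw [pair_card N h2 hxy hab, pair_eq_bot_of_block N h2 hB ha hb hab hc, Subgroup.card_bot]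
  set H := stabilizer N a with hH
  have hmal : ∀ g : N, g ∉ H → ∀ x ∈ H, g * x * g⁻¹ ∈ H → x = 1 := by
    intro g hg x hx hgx
    have hne' : g⁻¹ • a ≠ a := fun e => hg (by
      rw [hH, mem_stabilizer_iff]; exact (eq_inv_smul_iff.1 e.symm))
    have hmem : x ∈ stabilizer N a ⊓ stabilizer N (g⁻¹ • a) := Subgroup.mem_inf.2 ⟨hx, by
      rw [mem_stabilizer_iff]
      have h1 : (g * x * g⁻¹) • a = a := hgx
      rwa [mul_smul, mul_smul, ← eq_inv_smul_iff] at h1⟩
    rwa [hpair _ _ hne'.symm, Subgroup.mem_bot] at hmem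
  obtain ⟨K, -, hKc, hKmem⟩ := CfsgLib.Characters.exists_frobenius_kernel H hmal
  have hK : ∀ x : N, x ∈ K ↔ ∀ z : α, x • z = z → x = 1 := by
    intro x
    rw [hKmem]
    refine ⟨fun h z hz => ?_, fun h y hy => h (y • a) ?_⟩
    · obtain ⟨y, rfl⟩ := exists_smul_eq N a z
      refine h y ?_
      rw [hH, mem_stabilizer_iff, mul_smul, mul_smul, hz, inv_smul_smul]
    · rwa [hH, mem_stabilizer_iff, mul_smul, mul_smul, inv_smul_eq_iff] at hy
  have hKn : (K.map N.subtype).Normal := by
    constructor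
    rintro _ ⟨x, hx, rfl⟩ g
    refine ⟨MulAut.conjNormal g x, (hK _).2 fun z hz => ?_, MulAut.conjNormal_apply g x⟩
    rw [← smul_inv_smul g z, conj_smul, smul_left_cancel_iff] at hz
    rw [(hK x).1 hx _ hz, map_one]
  rcases hmin _ hKn (Subgroup.map_subtype_le K) with h | h
  · rw [Subgroup.map_eq_bot_iff_of_injective _ N.subtype_injective] at h
    rw [h, Subgroup.isComplement'_bot_left] at hKc
    obtain ⟨g, hg⟩ := exists_smul_eq N a b
    have h1 : g ∈ H := by rw [hKc]; exact Subgroup.mem_top g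
    exact hab ((show g • a = a from h1).symm.trans hg)
  · have h' : K = ⊤ := Subgroup.map_injective N.subtype_injective
      (by rw [h, ← MonoidHom.range_eq_map, N.range_subtype])
    rw [h', Subgroup.isComplement'_top_left] at hKc
    exact hne a hKc

/-- A regular minimal normal subgroup of a doubly transitive group is elementary abelian. -/
theorem elementary_of_regular (h2 : IsMultiplyPretransitive G α 2) [IsPretransitive N α] (hN : N ≠ ⊥)
    (hmin : ∀ M : Subgroup G, M.Normal → M ≤ N → M = ⊥ ∨ M = N)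
    (hreg : ∀ a : α, stabilizer N a = ⊥) :
    IsMulCommutative N ∧ ∃ p : ℕ, p.Prime ∧ ∀ n ∈ N, n ^ p = 1 := by
  classical
  haveI : Nontrivial N := (Subgroup.nontrivial_iff_ne_bot N).2 hN
  obtain ⟨p, hp, hpd⟩ := Nat.exists_prime_and_dvd (n := Nat.card N) Finite.one_lt_card.ne'
  haveI := Fact.mk hp
  obtain ⟨x, hx⟩ := exists_prime_orderOf_dvd_card' p hpd
  have hx1 : x ≠ 1 := fun e => hp.ne_one (by rw [← hx, e, orderOf_one])
  haveI : Nonempty α := by
    by_contra h
    rw [not_nonempty_iff] at h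
    exact hx1 (Subtype.ext (eq_of_smul_eq_smul (α := α) fun z => h.elim z))
  obtain ⟨a⟩ := ‹Nonempty α›
  have hne : ∀ n : N, n ≠ 1 → n • a ≠ a := fun n hn e => hn (by
    rw [← Subgroup.mem_bot, ← hreg a]; exact e)
  have hexp : ∀ n : N, n ^ p = 1 := by
    intro n
    by_cases hn : n = 1
    · rw [hn, one_pow]
    obtain ⟨g, hga, hgx⟩ := is_two_pretransitive_iff.1 h2 (hne x hx1).symm (hne n hn).symm
    have h1 : n⁻¹ * MulAut.conjNormal g x = 1 := by
      rw [← Subgroup.mem_bot, ← hreg a, mem_stabilizer_iff, mul_smul]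
      conv_lhs => rw [← hga, conj_smul, hgx, inv_smul_smul]
    rw [inv_mul_eq_one] at h1
    rw [h1, ← map_pow, ← hx, pow_orderOf_eq_one, map_one]
  haveI : Group.IsNilpotent N :=
    IsPGroup.isNilpotent (p := p) fun n => ⟨1, by rw [pow_one]; exact hexp n⟩
  have hZn : ((Subgroup.center N).map N.subtype).Normal := inferInstance
  rcases hmin _ hZn (Subgroup.map_subtype_le _) with h | h
  · rw [Subgroup.map_eq_bot_iff_of_injective _ N.subtype_injective] at h
    exact absurd h (Group.IsNilpotent.center_ne_bot N)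
  · have h' : Subgroup.center N = ⊤ := Subgroup.map_injective N.subtype_injective
      (by rw [h, ← MonoidHom.range_eq_map, N.range_subtype])
    refine ⟨⟨⟨fun u v => ?_⟩⟩, p, hp, fun n hn => congrArg Subtype.val (hexp ⟨n, hn⟩)⟩
    exact Subgroup.mem_center_iff.1 (h' ▸ Subgroup.mem_top v : v ∈ Subgroup.center N) u

/-- A primitive non-regular minimal normal subgroup of a doubly transitive group is simple. -/
theorem isSimpleGroup (h2 : IsMultiplyPretransitive G α 2) [IsPreprimitive N α] (hN : N ≠ ⊥)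
    (hmin : ∀ M : Subgroup G, M.Normal → M ≤ N → M = ⊥ ∨ M = N) : IsSimpleGroup N := by
  classical
  haveI : Nontrivial N := (Subgroup.nontrivial_iff_ne_bot N).2 hN
  refine ⟨fun L hL => ?_⟩
  by_contra! hL'
  -- a minimal normal subgroup `M` of `N`
  obtain ⟨M, hMs, hMmin'⟩ := (Set.toFinite {M : Subgroup N | M.Normal ∧ M ≠ ⊥}).exists_minimal
    ⟨L, hL, hL'.1⟩
  obtain ⟨hMn, hM⟩ := hMs
  have hMmin : ∀ K : Subgroup N, K.Normal → K ≤ M → K = ⊥ ∨ K = M := fun K hK hle =>
    or_iff_not_imp_left.2 fun h => le_antisymm hle (hMmin' ⟨hK, h⟩ hle)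
  have htrans : ∀ K : Subgroup N, K.Normal → K ≠ ⊥ → IsPretransitive K α := by
    intro K hK hK1
    refine IsQuasiPreprimitive.isPretransitive_of_normal (N := K) fun h => hK1 ?_
    rw [Subgroup.eq_bot_iff_forall]
    intro k hk
    refine Subtype.ext (eq_of_smul_eq_smul (α := α) fun z => ?_)
    rw [Subgroup.coe_one, one_smul]
    exact (h ▸ Set.mem_univ z : z ∈ fixedPoints K α) ⟨k, hk⟩
  let c : G → Subgroup N := fun g => M.map (MulAut.conjNormal (H := N) g).toMonoidHom
  have hcmem : ∀ (g : G) (n : N), MulAut.conjNormal g n ∈ c g ↔ n ∈ M := fun g n => by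
    refine ⟨fun ⟨m, hm, e⟩ => ?_, fun hn => ⟨n, hn, rfl⟩⟩
    rwa [← (MulAut.conjNormal (H := N) g).injective e]
  have hcn : ∀ g, (c g).Normal := fun g =>
    hMn.map _ (MulAut.conjNormal (H := N) g).surjective
  have hc1 : ∀ g, c g ≠ ⊥ := fun g h => hM
    ((Subgroup.map_eq_bot_iff_of_injective _ (MulAut.conjNormal (H := N) g).injective).1 h)
  have hccard : ∀ g, Nat.card (c g) = Nat.card M := fun g =>
    (Nat.card_congr (Subgroup.equivMapOfInjective M _
      (MulAut.conjNormal (H := N) g).injective).toEquiv).symm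
  have hcmul : ∀ g h : G, c (g * h) = (c h).map (MulAut.conjNormal (H := N) g).toMonoidHom := by
    intro g h
    show M.map _ = (M.map _).map _
    rw [Subgroup.map_map, map_mul]
    rfl
  have hcMmin : ∀ g, c g ≤ M → c g = M := fun g h =>
    Subgroup.eq_of_le_of_card_ge h (hccard g).ge
  -- some conjugate differs from `M`
  obtain ⟨g₀, hg₀⟩ : ∃ g, c g ≠ M := by
    by_contra! hall
    have hn : (M.map N.subtype).Normal := ⟨by
      rintro _ ⟨m, hm, rfl⟩ g
      exact ⟨MulAut.conjNormal g m, hall g ▸ (hcmem g m).2 hm, MulAut.conjNormal_apply g m⟩⟩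
    rcases hmin _ hn (Subgroup.map_subtype_le M) with h | h
    · exact hM ((Subgroup.map_eq_bot_iff_of_injective _ N.subtype_injective).1 h)
    · have h' : M = ⊤ := Subgroup.map_injective N.subtype_injective
        (by rw [h, ← MonoidHom.range_eq_map, N.range_subtype])
      exact hL'.2 (top_le_iff.1 (h' ▸ hMmin' ⟨hL, hL'.1⟩ (h' ▸ le_top)))
  set M' := c g₀ with hM'
  have hinf : ∀ g, c g ≠ M → M ⊓ c g = ⊥ := by
    intro g hg
    haveI := hcn g
    rcases hMmin (M ⊓ c g) inferInstance inf_le_left with h | h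
    · exact h
    · exact absurd (Subgroup.eq_of_le_of_card_ge (inf_eq_left.1 h) (hccard g).le).symm hg
  have hcomm : ∀ g, c g ≠ M → ∀ m ∈ M, ∀ k ∈ c g, m * k = k * m := fun g hg m hm k hk =>
    Subgroup.commute_of_normal_of_disjoint M (c g) hMn (hcn g) (disjoint_iff.2 (hinf g hg)) m k hm hk
  have hMt := htrans M hMn hM
  have hM't := htrans M' (hcn g₀) (hc1 g₀)
  -- `M` is regular and `M'` is its centraliser
  obtain ⟨a⟩ : Nonempty α := by
    by_contra h
    rw [not_nonempty_iff] at h
    exact hN ((Subgroup.eq_bot_iff_forall N).2 fun n _ =>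
      eq_of_smul_eq_smul (α := α) fun z => h.elim z)
  have hMreg : ∀ m ∈ M, m • a = a → m = 1 := fun m hm hma =>
    eq_one_of_commute hM't (fun k hk => hcomm g₀ hg₀ m hm k hk) hma
  have hcent : ∀ x : N, (∀ m ∈ M, x * m = m * x) → x ∈ M' := by
    intro x hx
    obtain ⟨⟨k, hk⟩, hka⟩ := hM't.exists_smul_eq a (x • a)
    have h1 : k⁻¹ * x = 1 := by
      refine eq_one_of_commute hMt (fun m hm => ?_) (a := a) ?_
      · have hc := hcomm g₀ hg₀ m hm k⁻¹ (inv_mem hk)
        rw [mul_assoc, hx m hm, ← mul_assoc, ← hc, mul_assoc]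
      · rw [mul_smul, ← hka]
        exact inv_smul_smul k a
    rwa [← inv_mul_eq_one.1 h1]
  have htwo : ∀ g, c g = M ∨ c g = M' := fun g => or_iff_not_imp_left.2 fun hg =>
    Subgroup.eq_of_le_of_card_ge (fun k hk => hcent k fun m hm => (hcomm g hg m hm k hk).symm)
      (by rw [hccard g, hM', hccard g₀])
  have hnab : ¬ ∀ m ∈ M, ∀ m' ∈ M, m * m' = m' * m := fun h => by
    refine hM ((Subgroup.eq_bot_iff_forall M).2 fun m hm => ?_)
    have h1 : m ∈ M ⊓ M' := Subgroup.mem_inf.2 ⟨hm, hcent m fun m' hm' => h m hm m' hm'⟩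
    rwa [hinf g₀ hg₀, Subgroup.mem_bot] at h1
  -- transport along an element fixing `a` and normalising `M`
  have horder : ∀ g : G, g • a = a → c g = M → ∀ x ∈ M, ∀ y ∈ M, g • (x • a) = y • a →
      orderOf x = orderOf y := by
    intro g hga hg x hx y hy hxy
    have h1 : y⁻¹ * MulAut.conjNormal g x = 1 := by
      refine hMreg _ (mul_mem (inv_mem hy) (hg ▸ (hcmem g x).2 hx)) ?_
      conv_lhs => rw [mul_smul, ← hga, conj_smul, hxy, inv_smul_smul]
    rw [inv_mul_eq_one.1 h1, MulEquiv.orderOf_eq]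
  have hthree : ∀ x ∈ M, ∀ y ∈ M, ∀ z ∈ M, x ≠ 1 → y ≠ 1 → z ≠ 1 →
      orderOf x = orderOf y ∨ orderOf x = orderOf z ∨ orderOf y = orderOf z := by
    intro x hx y hy z hz hx1 hy1 hz1
    have hna : ∀ w ∈ M, w ≠ 1 → a ≠ w • a := fun w hw hw1 e => hw1 (hMreg w hw e.symm)
    obtain ⟨g, hga, hgy⟩ := is_two_pretransitive_iff.1 h2 (hna x hx hx1) (hna y hy hy1)
    obtain ⟨k, hka, hkz⟩ := is_two_pretransitive_iff.1 h2 (hna x hx hx1) (hna z hz hz1)
    rcases htwo g with hg | hg
    · exact Or.inl (horder g hga hg x hx y hy hgy)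
    rcases htwo k with hk | hk
    · exact Or.inr (Or.inl (horder k hka hk x hx z hz hkz))
    refine Or.inr (Or.inr (horder (k * g⁻¹) ?_ ?_ y hy z hz ?_))
    · rw [mul_smul, inv_smul_eq_iff.2 hga.symm, hka]
    · rcases htwo (k * g⁻¹) with h | h
      · exact h
      exfalso
      have h1 := hcmul (k * g⁻¹) g
      rw [inv_mul_cancel_right, hk, hg, ← h] at h1
      exact hg₀ (h.symm.trans (Subgroup.map_injective (MulAut.conjNormal (H := N) (k * g⁻¹)).injective h1).symm)
    · rw [mul_smul, ← hgy, inv_smul_smul, hkz]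
  -- at most two primes, so `M` is soluble
  haveI : Nontrivial M := (Subgroup.nontrivial_iff_ne_bot M).2 hM
  obtain ⟨p, hp, hpd⟩ := Nat.exists_prime_and_dvd (n := Nat.card M) Finite.one_lt_card.ne'
  obtain ⟨q, hq, hall⟩ : ∃ q : ℕ, q.Prime ∧ ∀ r, r.Prime → r ∣ Nat.card M → r = p ∨ r = q := by
    by_cases hall : ∀ r, r.Prime → r ∣ Nat.card M → r = p
    · exact ⟨p, hp, fun r h h' => Or.inl (hall r h h')⟩
    push Not at hall
    obtain ⟨q, hq, hqd, hqp⟩ := hall
    refine ⟨q, hq, fun r hr hrd => ?_⟩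
    by_contra! hne'
    haveI := Fact.mk hp
    haveI := Fact.mk hq
    haveI := Fact.mk hr
    obtain ⟨x, hx⟩ := exists_prime_orderOf_dvd_card' p hpd
    obtain ⟨y, hy⟩ := exists_prime_orderOf_dvd_card' q hqd
    obtain ⟨z, hz⟩ := exists_prime_orderOf_dvd_card' r hrd
    rw [← Subgroup.orderOf_coe] at hx hy hz
    rcases hthree x x.2 y y.2 z z.2
      (fun e => hp.ne_one (by rw [← hx, e, orderOf_one]))
      (fun e => hq.ne_one (by rw [← hy, e, orderOf_one]))
      (fun e => hr.ne_one (by rw [← hz, e, orderOf_one])) with h | h | h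
    · exact hqp (by rw [← hy, ← h, hx])
    · exact hne'.1 (by rw [← hz, ← h, hx])
    · exact hne'.2 (by rw [← hz, ← h, hy])
  have hdvd : Nat.card M ∣ p ^ Nat.card M * q ^ Nat.card M := by
    rw [Nat.dvd_iff_prime_pow_dvd_dvd]
    intro r k hr hk
    rcases k with _ | k
    · simp
    have hle : k + 1 ≤ Nat.card M :=
      (Nat.lt_pow_self hr.one_lt).le.trans (Nat.le_of_dvd Nat.card_pos hk)
    rcases hall r hr ((dvd_pow_self r k.succ_ne_zero).trans hk) with rfl | rfl
    · exact (pow_dvd_pow r hle).trans (dvd_mul_right _ _)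
    · exact (pow_dvd_pow r hle).trans (dvd_mul_left _ _)
  haveI : Group.IsSolvable M :=
    CfsgLib.Characters.isSolvable_of_card_eq_primePow_mul p q _ _ hp hq hdvd
  haveI := hMn
  have hlt : commutator M < ⊤ := Group.IsSolvable.commutator_lt_top_of_nontrivial M
  rcases hMmin ⁅M, M⁆ inferInstance (Subgroup.commutator_le_right M M) with h | h
  · exact hnab fun m hm m' hm' =>
      commutatorElement_eq_one_iff_mul_comm.1
        (Subgroup.mem_bot.1 (h ▸ Subgroup.commutator_mem_commutator hm hm'))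
  · refine hlt.ne (Subgroup.map_injective M.subtype_injective ?_)
    rw [Subgroup.map_subtype_commutator, h, ← MonoidHom.range_eq_map, M.range_subtype]

end CfsgLib.Perm.BurnsideMinimal
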