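import Mathlib

/-!
The integral group ring of a cyclic group of prime order.
-/

namespace CfsgLib.Perm.CircRing

open AddMonoidAlgebra Polynomial

variable {p : ℕ} [hp : Fact p.Prime]

/-- The element with prescribed coefficients. -/
noncomputable def ofFun {R : Type*} [CommRing R] (f : ZMod p → R) : AddMonoidAlgebra R (ZMod p) :=
  ∑ z, AddMonoidAlgebra.single z (f z)

theorem coeff_ofFun {R : Type*} [CommRing R] (f : ZMod p → R) (z : ZMod p) :
    (ofFun f).coeff z = f z := by
  classical
  simp [ofFun, Finsupp.single_apply]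

theorem ofFun_coeff {R : Type*} [CommRing R] (x : AddMonoidAlgebra R (ZMod p)) :
    ofFun (fun z => x.coeff z) = x := by
  ext z
  rw [coeff_ofFun]

theorem ext_coeff {R : Type*} [CommRing R] {x y : AddMonoidAlgebra R (ZMod p)}
    (h : ∀ z, x.coeff z = y.coeff z) : x = y := by
  rw [← ofFun_coeff x, ← ofFun_coeff y]
  simp only [h]

theorem coeff_mul' {R : Type*} [CommRing R] (x y : AddMonoidAlgebra R (ZMod p)) (z : ZMod p) :
    (x * y).coeff z = ∑ w, x.coeff w * y.coeff (z - w) := by
  classical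
  rw [coeff_mul_antidiag x y z (Finset.univ.image fun w => (w, z - w)) (fun {q} => ?_),
    Finset.sum_image (fun a _ b _ h => congrArg Prod.fst h)]
  simp only [Finset.mem_image, Finset.mem_univ, true_and]
  constructor
  · rintro ⟨w, rfl⟩
    simp
  · intro h
    exact ⟨q.1, Prod.ext rfl (by rw [← h]; simp)⟩

/-- A primitive complex `p`-th root of unity. -/
noncomputable def root (p : ℕ) : ℂ := Complex.exp (2 * Real.pi * Complex.I / p)

theorem root_prim : IsPrimitiveRoot (root p) p :=
  Complex.isPrimitiveRoot_exp p hp.out.ne_zero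

/-- The faithful additive character. -/
noncomputable def psi : AddChar (ZMod p) ℂ := AddChar.zmodChar p root_prim.pow_eq_one

theorem psi_apply (z : ZMod p) : psi z = root p ^ z.val := rfl

/-- Evaluation at the primitive root. -/
noncomputable def hat : AddMonoidAlgebra ℤ (ZMod p) →ₐ[ℤ] ℂ :=
  AddMonoidAlgebra.lift ℤ ℂ (ZMod p) psi.toMonoidHom

/-- The augmentation. -/
noncomputable def aug : AddMonoidAlgebra ℤ (ZMod p) →ₐ[ℤ] ℤ :=
  AddMonoidAlgebra.lift ℤ ℤ (ZMod p) 1

theorem hat_apply (x : AddMonoidAlgebra ℤ (ZMod p)) : hat x = ∑ z, (x.coeff z : ℂ) * psi z := by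
  conv_lhs => rw [← ofFun_coeff x, ofFun, map_sum]
  refine Finset.sum_congr rfl fun z _ => ?_
  rw [hat, AddMonoidAlgebra.lift_single, zsmul_eq_mul]
  rfl

theorem aug_apply (x : AddMonoidAlgebra ℤ (ZMod p)) : aug x = ∑ z, x.coeff z := by
  conv_lhs => rw [← ofFun_coeff x, ofFun, map_sum]
  refine Finset.sum_congr rfl fun z _ => ?_
  rw [aug, AddMonoidAlgebra.lift_single]
  simp

theorem hat_single (z : ZMod p) (c : ℤ) : hat (AddMonoidAlgebra.single z c) = (c : ℂ) * psi z := by
  rw [hat, AddMonoidAlgebra.lift_single, zsmul_eq_mul]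
  rfl

theorem aug_single (z : ZMod p) (c : ℤ) : aug (AddMonoidAlgebra.single z c) = c := by
  rw [aug, AddMonoidAlgebra.lift_single]
  simp

/-- Only the multiples of the norm element vanish at the primitive root. -/
theorem eq_of_hat_eq_zero {x : AddMonoidAlgebra ℤ (ZMod p)} (h : hat x = 0) (z : ZMod p) :
    x.coeff z = x.coeff 0 := by
  classical
  let f : ℚ[X] := ∑ i ∈ Finset.range p, Polynomial.monomial i (x.coeff (i : ZMod p) : ℚ)
  have hroot : Polynomial.aeval (root p) f = 0 := by
    rw [hat_apply] at h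
    rw [← h, map_sum]
    refine Finset.sum_bij' (fun i _ => (i : ZMod p)) (fun z _ => z.val) (fun _ _ => Finset.mem_univ _)
      (fun z _ => Finset.mem_range.2 (ZMod.val_lt z))
      (fun i hi => ZMod.val_cast_of_lt (Finset.mem_range.1 hi))
      (fun z _ => ZMod.natCast_rightInverse z) (fun i hi => ?_)
    rw [Polynomial.aeval_monomial, psi_apply, ZMod.val_cast_of_lt (Finset.mem_range.1 hi)]
    simp
  have hdvd : Polynomial.cyclotomic p ℚ ∣ f := by
    rw [Polynomial.cyclotomic_eq_minpoly_rat root_prim hp.out.pos]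
    exact minpoly.dvd ℚ _ hroot
  obtain ⟨g, hg⟩ := hdvd
  have hdeg : f.natDegree ≤ p - 1 := by
    refine Polynomial.natDegree_sum_le_of_forall_le _ _ fun i hi => ?_
    exact (Polynomial.natDegree_monomial_le _).trans (by rw [Finset.mem_range] at hi; omega)
  have hg0 : g.natDegree = 0 := by
    by_contra hne
    have hg' : g ≠ 0 := fun h0 => hne (by rw [h0]; simp)
    have := Polynomial.natDegree_mul (Polynomial.cyclotomic_ne_zero p ℚ) hg'
    rw [← hg, Polynomial.natDegree_cyclotomic, Nat.totient_prime hp.out] at this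
    omega
  obtain ⟨c, rfl⟩ := Polynomial.natDegree_eq_zero.1 hg0
  have hc : ∀ i < p, (x.coeff (i : ZMod p) : ℚ) = c := by
    intro i hi
    have h1 : f.coeff i = (x.coeff (i : ZMod p) : ℚ) := by
      simp [f, Polynomial.coeff_monomial, hi]
    rw [← h1, hg, Polynomial.cyclotomic_prime, Polynomial.coeff_mul_C, Polynomial.finsetSum_coeff]
    simp [Polynomial.coeff_X_pow, hi]
  have h1 := hc z.val (ZMod.val_lt z)
  have h2 := hc 0 hp.out.pos
  rw [ZMod.natCast_rightInverse z] at h1
  rw [Nat.cast_zero] at h2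
  exact_mod_cast h1.trans h2.symm

/-- An element is determined by its two evaluations. -/
theorem ext_hat {x y : AddMonoidAlgebra ℤ (ZMod p)} (h1 : hat x = hat y) (h2 : aug x = aug y) :
    x = y := by
  have hz : ∀ z, (x - y).coeff z = (x - y).coeff 0 :=
    eq_of_hat_eq_zero (by rw [map_sub, h1, sub_self])
  have hs : aug (x - y) = 0 := by rw [map_sub, h2, sub_self]
  rw [aug_apply, Finset.sum_congr rfl (fun z _ => hz z), Finset.sum_const, Finset.card_univ,
    ZMod.card, nsmul_eq_mul, mul_eq_zero] at hs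
  refine ext_coeff fun z => ?_
  have := (hz z).trans (hs.resolve_left (by exact_mod_cast hp.out.ne_zero))
  simpa [sub_eq_zero] using this

/-- The `q`-th power modulo a prime `q` multiplies the arguments by `q`. -/
theorem pow_coeff_modEq {q : ℕ} (hq : q.Prime) (hqp : q ≠ p) (x : AddMonoidAlgebra ℤ (ZMod p))
    (z : ZMod p) :
    (((x ^ q).coeff ((q : ZMod p) * z) : ℤ) : ZMod q) = ((x.coeff z : ℤ) : ZMod q) := by
  classical
  haveI := Fact.mk hq
  let φ := AddMonoidAlgebra.mapRingHom (ZMod p) (Int.castRingHom (ZMod q))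
  have hφ : ∀ (y : AddMonoidAlgebra ℤ (ZMod p)) w, (φ y).coeff w = ((y.coeff w : ℤ) : ZMod q) := by
    intro y w
    simp [φ]
  haveI : CharP (AddMonoidAlgebra (ZMod q) (ZMod p)) q :=
    charP_of_injective_ringHom (f := AddMonoidAlgebra.singleZeroRingHom)
      (fun a b h => by simpa using congrArg (fun t => t.coeff 0) h) q
  rw [← hφ, map_pow]
  conv_lhs => rw [← ofFun_coeff x, ofFun, map_sum, sum_pow_char]
  rw [AddMonoidAlgebra.coeff_sum, Finset.sum_apply', Finset.sum_eq_single z ?_ (by simp)]
  · rw [show φ (AddMonoidAlgebra.single z (x.coeff z)) =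
      AddMonoidAlgebra.single z ((x.coeff z : ℤ) : ZMod q) from by simp [φ],
      AddMonoidAlgebra.single_pow, ZMod.pow_card, AddMonoidAlgebra.coeff_single,
      nsmul_eq_mul, Finsupp.single_eq_same]
  · intro w _ hw
    rw [show φ (AddMonoidAlgebra.single w (x.coeff w)) =
      AddMonoidAlgebra.single w ((x.coeff w : ℤ) : ZMod q) from by simp [φ],
      AddMonoidAlgebra.single_pow, AddMonoidAlgebra.coeff_single, nsmul_eq_mul,
      Finsupp.single_eq_of_ne]
    intro h
    apply hw
    have hne : (q : ZMod p) ≠ 0 := by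
      rw [Ne, ZMod.natCast_eq_zero_iff]
      intro hd
      exact hqp ((Nat.prime_dvd_prime_iff_eq hp.out hq).1 hd).symm
    exact (mul_left_cancel₀ hne h).symm

end CfsgLib.Perm.CircRing
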