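import Mathlib

/-!
The arithmetic condition for Dickson pairs.
-/

namespace CfsgLib.Perm.DicksonPair

open Finset

/-- `1 + q + ... + q ^ (i - 1)`. -/
def geo (q i : ℕ) : ℕ := ∑ j ∈ range i, q ^ j

theorem geo_succ (q i : ℕ) : geo q (i + 1) = q * geo q i + 1 := by
  unfold geo
  rw [sum_range_succ', pow_zero, mul_sum]
  congr 1
  exact sum_congr rfl fun j _ => pow_succ' q j

theorem geo_mul (q a b : ℕ) : geo q (a * b) = geo q a * geo (q ^ a) b := by
  induction b with
  | zero => simp [geo]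
  | succ b ih =>
    rw [Nat.mul_succ]
    unfold geo at ih ⊢
    rw [sum_range_add, ih, sum_range_succ, mul_add, ← pow_mul]
    congr 1
    rw [sum_mul]
    refine sum_congr rfl fun j _ => ?_
    rw [pow_add, mul_comm]

theorem geo_add (q a b : ℕ) : geo q (a + b) = geo q a + q ^ a * geo q b := by
  unfold geo
  rw [sum_range_add, mul_sum]
  congr 1
  exact sum_congr rfl fun j _ => pow_add q a j

theorem sub_one_mul_geo (q i : ℕ) : ((q : ℤ) - 1) * geo q i = (q : ℤ) ^ i - 1 := by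
  unfold geo
  push_cast
  exact mul_geom_sum _ _

theorem geo_modEq {q r : ℕ} (h : q ≡ 1 [MOD r]) (i : ℕ) : geo q i ≡ i [MOD r] := by
  induction i with
  | zero => rfl
  | succ i ih =>
    rw [geo_succ]
    have := (h.mul ih).add_right 1
    simpa using this

theorem geo_prime_eq {q r : ℕ} (hr : r.Prime) (h : q ≡ 1 [MOD r]) (h4 : r = 2 → q ≡ 1 [MOD 4]) :
    ∃ u, geo q r = r * u ∧ ¬ r ∣ u := by
  suffices geo q r ≡ r [MOD r ^ 2] by
    have hd : r ∣ geo q r := Nat.modEq_zero_iff_dvd.1 (((geo_modEq h r).trans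
      (Nat.modEq_zero_iff_dvd.2 dvd_rfl)))
    obtain ⟨u, hu⟩ := hd
    refine ⟨u, hu, fun hdu => ?_⟩
    have h1 : r ≡ 0 [MOD r ^ 2] := this.symm.trans (Nat.modEq_zero_iff_dvd.2
      (by rw [hu, pow_two]; exact Nat.mul_dvd_mul_left r hdu))
    have := Nat.le_of_dvd hr.pos (Nat.modEq_zero_iff_dvd.1 h1)
    have := hr.two_le
    nlinarith
  rcases eq_or_ne r 2 with rfl | hr2
  · have : geo q 2 = q + 1 := by simp [geo, sum_range_succ, add_comm]
    rw [this]
    exact ((h4 rfl).add_right 1).trans rfl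
  · obtain ⟨t, ht⟩ : (r : ℤ) ∣ (q : ℤ) - 1 := (Nat.modEq_iff_dvd.1 h.symm)
    have hq : (q : ℤ) = 1 + r * t := by linarith
    have key : ∀ i : ℕ, ∃ k : ℤ, 2 * (geo q i : ℤ) = 2 * i + (i * (i - 1)) * r * t + 2 * r ^ 2 * k := by
      intro i
      induction i with
      | zero => exact ⟨0, by simp [geo]⟩
      | succ i ih =>
        obtain ⟨k, hk⟩ := ih
        have h2 : ∃ m : ℤ, (i : ℤ) * (i - 1) = 2 * m :=
          (Int.even_mul_pred_self (i : ℤ)).two_dvd
        obtain ⟨m, hm⟩ := h2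
        refine ⟨k * q + m * t * t, ?_⟩
        rw [geo_succ]
        push_cast
        linear_combination (q : ℤ) * hk + (i : ℤ) * 2 * hq + (i * (i - 1) * r * t) * hq +
          (r : ℤ) ^ 2 * t * t * hm
    obtain ⟨k, hk⟩ := key r
    obtain ⟨s, hs⟩ := hr.odd_of_ne_two hr2
    rw [Nat.modEq_iff_dvd]
    refine ⟨-(k + s * t), ?_⟩
    have hs' : (r : ℤ) = 2 * s + 1 := by exact_mod_cast hs
    push_cast
    have h2 : (r : ℤ) * (r - 1) * r * t = 2 * (s * r * r * t) := by rw [hs']; ring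
    have hgeo : (geo q r : ℤ) = r + s * r * r * t + r ^ 2 * k := by linarith
    rw [hgeo]
    ring

/-- Divisibility of the geometric sum by a prime power. -/
theorem pow_dvd_geo {r : ℕ} (hr : r.Prime) : ∀ a q : ℕ, q ≡ 1 [MOD r] →
    (r = 2 → 2 ≤ a → q ≡ 1 [MOD 4]) → ∀ i, (r ^ a ∣ geo q i ↔ r ^ a ∣ i) := by
  intro a
  induction a with
  | zero => intro q _ _ i; simp
  | succ a ih =>
    intro q h h4 i
    rcases Nat.eq_zero_or_pos a with rfl | ha
    · rw [zero_add, pow_one]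
      exact (geo_modEq h i).dvd_iff dvd_rfl
    have h4' : r = 2 → q ≡ 1 [MOD 4] := fun e => h4 e (by omega)
    by_cases hri : r ∣ i
    · obtain ⟨k, rfl⟩ := hri
      obtain ⟨u, hu, hud⟩ := geo_prime_eq hr h h4'
      rw [geo_mul, hu, pow_succ', mul_assoc, Nat.mul_dvd_mul_iff_left hr.pos,
        Nat.mul_dvd_mul_iff_left hr.pos,
        (Nat.Coprime.pow_left a (hr.coprime_iff_not_dvd.2 hud)).dvd_mul_left]
      exact ih _ (by simpa using h.pow r) (fun e _ => by simpa using (h4' e).pow r) k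
    · constructor
      · intro hd
        exact absurd (((geo_modEq h i).dvd_iff dvd_rfl).1 ((dvd_pow_self r (by omega)).trans hd)) hri
      · intro hd
        exact absurd ((dvd_pow_self r (by omega)).trans hd) hri

theorem modEq_iff {q n i : ℕ} (hq : 2 ≤ q) :
    q ^ i ≡ 1 [MOD n * (q - 1)] ↔ n ∣ geo q i := by
  rw [Nat.ModEq.comm, Nat.modEq_iff_dvd, Nat.cast_mul, Nat.cast_sub (show 1 ≤ q by omega),
    Nat.cast_pow, Nat.cast_one, ← sub_one_mul_geo, mul_comm (n : ℤ),
    mul_dvd_mul_iff_left (by omega), Int.natCast_dvd_natCast]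

end CfsgLib.Perm.DicksonPair
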