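import Mathlib

/-!
Subgroups of index two.
-/

namespace CfsgLib.Perm.IndexTwo

variable {G : Type*} [Group G] [Finite G]

theorem exists_of_two_group_quotient (N : Subgroup G) [N.Normal] {k : ℕ}
    (hk : N.index = 2 ^ (k + 1)) : ∃ M : Subgroup G, M.index = 2 := by
  haveI : Fact (Nat.Prime 2) := ⟨Nat.prime_two⟩
  obtain ⟨K, hK⟩ := Sylow.exists_subgroup_card_pow_prime 2 (n := k) (G := G ⧸ N)
    ((pow_dvd_pow 2 (Nat.le_succ k)).trans (dvd_of_eq hk.symm))
  refine ⟨K.comap (QuotientGroup.mk' N), ?_⟩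
  rw [Subgroup.index_comap_of_surjective _ (QuotientGroup.mk'_surjective N)]
  have h1 := Subgroup.card_mul_index K
  rw [hK, ← Subgroup.index_eq_card, hk, pow_succ] at h1
  exact Nat.eq_of_mul_eq_mul_left (by positivity) h1

theorem exists_of_comm_quotient (N : Subgroup G) [N.Normal]
    (hc : ∀ a b : G, a * b * a⁻¹ * b⁻¹ ∈ N) (h2 : 2 ∣ N.index) :
    ∃ M : Subgroup G, M.index = 2 := by
  haveI : Fact (Nat.Prime 2) := ⟨Nat.prime_two⟩
  let π := QuotientGroup.mk' N
  have hcom : ∀ a b : G, Commute (π a) (π b) := by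
    intro a b
    have e : π (a * b * a⁻¹ * b⁻¹) = 1 := (QuotientGroup.eq_one_iff _).2 (hc a b)
    rw [map_mul, map_mul, map_mul, map_inv, map_inv, mul_inv_eq_one, mul_inv_eq_iff_eq_mul] at e
    exact e
  let f : (G ⧸ N) →* G ⧸ N :=
    { toFun := fun g => g * g
      map_one' := one_mul 1
      map_mul' := fun a b => by
        obtain ⟨a, rfl⟩ := QuotientGroup.mk'_surjective N a
        obtain ⟨b, rfl⟩ := QuotientGroup.mk'_surjective N b
        exact (hcom b a).mul_mul_mul_comm _ _ }
  haveI hRn : f.range.Normal := by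
    refine ⟨fun g hg c => ?_⟩
    obtain ⟨g, rfl⟩ := QuotientGroup.mk'_surjective N g
    obtain ⟨c, rfl⟩ := QuotientGroup.mk'_surjective N c
    rwa [(hcom c g).eq, mul_inv_cancel_right]
  have hne : f.range ≠ ⊤ := by
    intro h
    rw [MonoidHom.range_eq_top] at h
    obtain ⟨t, ht⟩ := exists_prime_orderOf_dvd_card' (G := G ⧸ N) 2
      (Subgroup.index_eq_card N ▸ h2)
    have ht2 : t * t = 1 := by rw [← pow_two, ← ht, pow_orderOf_eq_one]
    have : t = 1 := (Finite.injective_iff_surjective.2 h) (ht2.trans (one_mul 1).symm)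
    rw [this, orderOf_one] at ht
    norm_num at ht
  have hP : IsPGroup 2 ((G ⧸ N) ⧸ f.range) := fun g => by
    obtain ⟨g, rfl⟩ := QuotientGroup.mk'_surjective f.range g
    exact ⟨1, by
      rw [pow_one, ← map_pow]
      exact (QuotientGroup.eq_one_iff _).2 ⟨g, (pow_two g).symm⟩⟩
  obtain ⟨k, hk⟩ := IsPGroup.iff_card.1 hP
  rw [← Subgroup.index_eq_card] at hk
  rcases k with _ | k
  · exact absurd (Subgroup.index_eq_one.1 hk) hne
  · haveI : (f.range.comap π).Normal := hRn.comap π
    exact exists_of_two_group_quotient (f.range.comap π)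
      ((Subgroup.index_comap_of_surjective _ (QuotientGroup.mk'_surjective N)).trans hk)

theorem exists_of_cyclic_sylow (P : Sylow 2 G) [IsCyclic P] (h2 : 2 ∣ Nat.card G) :
    ∃ M : Subgroup G, M.index = 2 := by
  haveI : Fact (Nat.Prime 2) := ⟨Nat.prime_two⟩
  have hmin : (Nat.card G).minFac = 2 := by
    rw [Nat.minFac_eq_two_iff]; exact h2
  have hc := IsCyclic.isComplement' (P := P) hmin inferInstance
  set K := (MonoidHom.transferSylow P ((inferInstance : IsCyclic P).normalizer_le_centralizer hmin)).ker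
  have hidx : K.index = Nat.card (P : Subgroup G) := hc.symm.index_eq_card
  obtain ⟨k, hk⟩ := IsPGroup.iff_card.1 P.isPGroup'
  rcases k with _ | k
  · exfalso
    have := P.ne_bot_of_dvd_card h2
    exact this (Subgroup.card_eq_one.1 (by simpa using hk))
  · exact exists_of_two_group_quotient K (hidx.trans hk)

/-- A subgroup of index two invariant under an involutory automorphism. -/
theorem exists_invariant (φ : G ≃* G) (hφ : ∀ g, φ (φ g) = g) {M : Subgroup G} (hM : M.index = 2) :
    ∃ M' : Subgroup G, M'.index = 2 ∧ ∀ g ∈ M', φ g ∈ M' := by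
  classical
  have hiff := fun a b => Subgroup.mul_mem_iff_of_index_two hM (a := a) (b := b)
  let D : Subgroup G :=
    { carrier := {g | g ∈ M ↔ φ g ∈ M}
      one_mem' := by simp
      mul_mem' := by
        intro a b ha hb
        simp only [Set.mem_setOf_eq] at ha hb ⊢
        rw [map_mul, hiff, hiff, ha, hb]
      inv_mem' := by
        intro a ha
        simp only [Set.mem_setOf_eq] at ha ⊢
        rw [map_inv, M.inv_mem_iff, M.inv_mem_iff, ha] }
  by_cases hD : D = ⊤
  · exact ⟨M, hM, fun g hg => (show g ∈ M ↔ φ g ∈ M from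
      (hD ▸ Subgroup.mem_top g : g ∈ D)).1 hg⟩
  · refine ⟨D, ?_, fun g hg => ?_⟩
    · obtain ⟨a, ha⟩ : ∃ a, a ∉ D := by
        by_contra h
        push Not at h
        exact hD (Subgroup.eq_top_iff' D |>.2 h)
      rw [Subgroup.index_eq_two_iff]
      refine ⟨a, fun b => ?_⟩
      have ha' : ¬ (a ∈ M ↔ φ a ∈ M) := ha
      show Xor' (b * a ∈ M ↔ φ (b * a) ∈ M) (b ∈ M ↔ φ b ∈ M)
      rw [map_mul, hiff, hiff, Xor']
      tauto
    · show φ g ∈ M ↔ φ (φ g) ∈ M
      rw [hφ]
      exact (show g ∈ M ↔ φ g ∈ M from hg).symm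

end CfsgLib.Perm.IndexTwo
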