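import Mathlib
import Cfsg.Agent.Perm.RegularNormal
import Cfsg.Agent.Perm.SharplyTwo

/-!
Normal subgroups of multiply primitive and multiply transitive groups.
-/

namespace CfsgLib.Perm.NormalMultiply

open MulAction

/-- A non-trivial normal subgroup of a faithful primitive group is transitive. -/
theorem isPretransitive_of_ne_bot {G : Type*} [Group G] {α : Type*} [MulAction G α]
    [FaithfulSMul G α] [IsPreprimitive G α] (N : Subgroup G) [N.Normal] (hN : N ≠ ⊥) :
    IsPretransitive N α := by
  apply IsQuasiPreprimitive.isPretransitive_of_normal (G := G)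
  intro h
  apply hN
  rw [eq_bot_iff]
  intro n hn
  rw [Subgroup.mem_bot]
  apply eq_of_smul_eq_smul (α := α)
  intro x
  rw [one_smul]
  have : x ∈ fixedPoints N α := by rw [h]; trivial
  exact this ⟨n, hn⟩

/-- The action of a point stabiliser on the other points is faithful. -/
theorem faithful_ofStabilizer {G : Type*} [Group G] {α : Type*} [MulAction G α] [FaithfulSMul G α]
    (a : α) : FaithfulSMul (stabilizer G a) (SubMulAction.ofStabilizer G a) := by
  refine ⟨fun {g h} he => Subtype.ext (eq_of_smul_eq_smul (α := α) fun x => ?_)⟩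
  by_cases hx : x = a
  · rw [hx]; exact g.2.trans h.2.symm
  · exact congrArg Subtype.val (he ⟨x, hx⟩)

/-- The order of a `k`-transitive faithful group of degree `k + 1` or `k` is the maximum. -/
theorem card_eq_factorial {G : Type*} [Group G] {α : Type*} [MulAction G α] [FaithfulSMul G α]
    [Finite α] {k : ℕ} (hk : IsMultiplyPretransitive G α k) (hkn : k ≤ Nat.card α)
    (hnk : Nat.card α ≤ k + 1) : Nat.card G = (Nat.card α).factorial := by
  classical
  haveI : Finite G := Finite.of_injective _ (MulAction.toPerm_injective (α := G) (β := α))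
  have hle : Nat.card G ≤ (Nat.card α).factorial := by
    rw [← Nat.card_perm]
    exact Nat.card_le_card_of_injective _ (MulAction.toPerm_injective (α := G) (β := α))
  obtain ⟨s, -, hs⟩ := Set.exists_subset_card_eq (s := (Set.univ : Set α)) (n := k)
    (by rwa [Set.ncard_univ])
  have h := IsMultiplyPretransitive.index_of_fixingSubgroup_mul hk hs
  have h1 : (Nat.card α - k).factorial = 1 :=
    Nat.factorial_eq_one.2 (by omega)
  rw [h1, mul_one] at h
  refine le_antisymm hle ?_
  rw [← h, ← Subgroup.index_mul_card (fixingSubgroup G s)]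
  exact Nat.le_mul_of_pos_right _ Nat.card_pos

/-- Lifting multiple transitivity from a stabiliser. -/
theorem isMultiplyPretransitive_succ {G : Type*} [Group G] {α : Type*} [MulAction G α]
    (H : Subgroup G) [IsPretransitive H α] (a : α) {k : ℕ}
    (hk : IsMultiplyPretransitive (H.subgroupOf (stabilizer G a))
      (SubMulAction.ofStabilizer G a) k) :
    IsMultiplyPretransitive H α (k + 1) := by
  rw [isMultiplyPretransitive_iff]
  intro x y
  have main : ∀ x : Fin (k + 1) ↪ α, ∃ g : H, g • x 0 = a ∧
      ∀ i : Fin k, g • x i.succ ∈ ({a}ᶜ : Set α) := by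
    intro x
    obtain ⟨g, hg⟩ := exists_smul_eq H (x 0) a
    refine ⟨g, hg, fun i h => ?_⟩
    have h' : g • x i.succ = g • x 0 := h.trans hg.symm
    exact Fin.succ_ne_zero i (x.injective (MulAction.injective g h'))
  obtain ⟨g, hgx, hgx'⟩ := main x
  obtain ⟨g', hgy, hgy'⟩ := main y
  let xr : Fin k ↪ SubMulAction.ofStabilizer G a :=
    ⟨fun i => ⟨g • x i.succ, hgx' i⟩, fun i j h => by
      simpa using x.injective (MulAction.injective g (congrArg Subtype.val h))⟩
  let yr : Fin k ↪ SubMulAction.ofStabilizer G a :=
    ⟨fun i => ⟨g' • y i.succ, hgy' i⟩, fun i j h => by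
      simpa using y.injective (MulAction.injective g' (congrArg Subtype.val h))⟩
  obtain ⟨f, hf⟩ := hk.exists_smul_eq xr yr
  let f' : H := ⟨((f : stabilizer G a) : G), f.2⟩
  refine ⟨g'⁻¹ * f' * g, DFunLike.ext _ _ fun i => ?_⟩
  show (g'⁻¹ * f' * g) • x i = y i
  rw [mul_smul, mul_smul, inv_smul_eq_iff]
  refine Fin.cases ?_ (fun j => ?_) i
  · rw [hgx, hgy]
    exact ((f : stabilizer G a)).2
  · exact congrArg Subtype.val (DFunLike.congr_fun hf j)

/-- A non-regular normal subgroup of a `k`-primitive group is `k`-transitive, unless the group is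
the full symmetric group. -/
theorem isMultiplyPretransitive_of_nonregular (k : ℕ) :
    ∀ {G : Type*} [Group G] {α : Type*} [MulAction G α] [FaithfulSMul G α] [Finite α],
      1 ≤ k → k ≤ Nat.card α → IsMultiplyPreprimitive G α k →
      (k ≤ 2 ∨ Nat.card G ≠ (Nat.card α).factorial) →
      ∀ (H : Subgroup G) [H.Normal], H ≠ ⊥ → (∃ a : α, stabilizer H a ≠ ⊥) →
        IsMultiplyPretransitive H α k := by
  induction k with
  | zero => intro _ _ _ _ _ _ h; omega
  | succ k ih =>
    intro G _ α _ _ _ _ hkn hG hfull H _ hH hnr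
    have hcardE : ((k + 1 : ℕ) : ENat) ≤ ENat.card α := by
      rw [ENat.card_eq_coe_natCard]; exact_mod_cast hkn
    haveI hprim : IsPreprimitive G α :=
      (is_one_preprimitive_iff G α).1 (isMultiplyPreprimitive_of_le G α hG (by omega) hcardE)
    haveI : IsPretransitive G α := hprim.toIsPretransitive
    haveI hHt : IsPretransitive H α := isPretransitive_of_ne_bot H hH
    rcases Nat.eq_zero_or_pos k with rfl | hk
    · exact is_one_pretransitive_iff.2 hHt
    obtain ⟨b, hb⟩ := hnr
    haveI : Nonempty α := ⟨b⟩
    haveI : Nontrivial α := Finite.one_lt_card_iff_nontrivial.1 (by omega)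
    haveI : IsMultiplyPreprimitive G α k.succ := hG
    have hGa : IsMultiplyPreprimitive (stabilizer G b) (SubMulAction.ofStabilizer G b) k :=
      isMultiplyPreprimitive_ofStabilizer G α
    haveI := faithful_ofStabilizer (G := G) b
    have hcardS : Nat.card (SubMulAction.ofStabilizer G b) + 1 = Nat.card α := by
      rw [SubMulAction.nat_card_ofStabilizer_eq]
      have : 0 < Nat.card α := Nat.card_pos
      omega
    haveI : IsPreprimitive (stabilizer G b) (SubMulAction.ofStabilizer G b) :=
      (is_one_preprimitive_iff _ _).1 (isMultiplyPreprimitive_of_le _ _ hGa (by omega) (by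
        rw [ENat.card_eq_coe_natCard]; exact_mod_cast (show k ≤ _ by omega)))
    have hHa : H.subgroupOf (stabilizer G b) ≠ ⊥ := by
      intro h
      apply hb
      rw [eq_bot_iff]
      intro x hx
      have : (⟨(x : G), hx⟩ : stabilizer G b) ∈ H.subgroupOf (stabilizer G b) := x.2
      rw [h, Subgroup.mem_bot] at this
      rw [Subgroup.mem_bot]
      exact Subtype.ext (congrArg (fun y : stabilizer G b => (y : G)) this)
    haveI := isPretransitive_of_ne_bot (α := SubMulAction.ofStabilizer G b)
      (H.subgroupOf (stabilizer G b)) hHa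
    apply isMultiplyPretransitive_succ H b
    rcases eq_or_lt_of_le (show 1 ≤ k from hk) with hk1 | hk2
    · subst hk1
      exact is_one_pretransitive_iff.2 inferInstance
    have hfull' : Nat.card G ≠ (Nat.card α).factorial := hfull.resolve_left (by omega)
    by_cases hnr' : ∃ z, stabilizer (H.subgroupOf (stabilizer G b)) (z : SubMulAction.ofStabilizer G b) ≠ ⊥
    · refine ih (by omega) (by omega) hGa (Or.inr ?_) _ hHa hnr'
      intro h
      apply hfull'
      rw [← Subgroup.index_mul_card (stabilizer G b), index_stabilizer_of_transitive, h, ← hcardS,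
        Nat.factorial_succ]
    -- otherwise `H` is sharply 2-transitive
    exfalso
    simp only [not_exists, not_not] at hnr'
    have hH2 : IsMultiplyPretransitive H α 2 :=
      isMultiplyPretransitive_succ H b (is_one_pretransitive_iff.2 inferInstance)
    have hsharp : ∀ (g : H) (u v : α), u ≠ v → g • u = u → g • v = v → g = 1 := by
      intro g u v huv hu hv
      obtain ⟨h, hh⟩ := exists_smul_eq H u b
      have h1 : (h * g * h⁻¹) • b = b := by
        rw [mul_smul, mul_smul, inv_smul_eq_iff.2 hh.symm, hu, hh]
      have hvb : h • v ∈ ({b}ᶜ : Set α) := fun h' => huv (MulAction.injective h (hh.trans (Eq.symm h')))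
      let g' : H.subgroupOf (stabilizer G b) :=
        ⟨⟨((h * g * h⁻¹ : H) : G), h1⟩, (h * g * h⁻¹ : H).2⟩
      have h2 : g' ∈ stabilizer (H.subgroupOf (stabilizer G b))
          (⟨h • v, hvb⟩ : SubMulAction.ofStabilizer G b) := by
        apply Subtype.ext
        show (h * g * h⁻¹) • h • v = h • v
        rw [mul_smul, mul_smul, inv_smul_smul, hv]
      rw [hnr', Subgroup.mem_bot] at h2
      have h3 : h * g * h⁻¹ = 1 := Subtype.ext
        (congrArg (fun y : H.subgroupOf (stabilizer G b) => ((y : stabilizer G b) : G)) h2)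
      exact conj_eq_one_iff.1 h3
    let K : Subgroup G := (SharplyTwo.kernel hH2 hsharp).map H.subtype
    have hKn : K.Normal := by
      refine ⟨fun x hx g => ?_⟩
      obtain ⟨y, hy, rfl⟩ := hx
      refine ⟨⟨g * y * g⁻¹, Subgroup.Normal.conj_mem inferInstance _ y.2 g⟩, ?_, rfl⟩
      rcases (SharplyTwo.mem_kernel hH2 hsharp).1 hy with rfl | hy
      · exact Or.inl (Subtype.ext (by simp))
      · refine Or.inr fun u hu => hy (g⁻¹ • u) ?_
        have hu' : (g * (y : G) * g⁻¹) • u = u := hu
        rw [mul_smul, mul_smul] at hu'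
        exact eq_inv_smul_iff.2 hu'
    have hKt : IsPretransitive K α := by
      constructor
      intro u v
      obtain ⟨k', hk'⟩ := (SharplyTwo.kernel_transitive hH2 hsharp).exists_smul_eq u v
      exact ⟨⟨_, Subgroup.mem_map_of_mem H.subtype k'.2⟩, hk'⟩
    have hKr : ∀ u : α, stabilizer K u = ⊥ := by
      intro u
      rw [eq_bot_iff]
      rintro ⟨x, hx⟩ hxu
      obtain ⟨y, hy, rfl⟩ := hx
      rw [Subgroup.mem_bot]
      have := SharplyTwo.kernel_free hH2 hsharp hy (a := u) hxu
      exact Subtype.ext (congrArg (fun z : H => (z : G)) this)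
    have h3 : IsMultiplyPreprimitive G α 3 := isMultiplyPreprimitive_of_le G α hG (by omega) hcardE
    haveI := hKn
    haveI := hKt
    rcases RegularNormal.of_three_preprimitive K h3 (by omega) hKr with h | h
    · exact hfull' (card_eq_factorial h3.isMultiplyPretransitive (by omega) (by omega))
    · exact hfull' (card_eq_factorial h3.isMultiplyPretransitive (by omega) (by omega))

end CfsgLib.Perm.NormalMultiply
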