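import Mathlib
import Cfsg.Agent.Perm.NormalMultiply
import Cfsg.Agent.Perm.Basic

/-!
Jordan's theorem on normal subgroups of multiply transitive groups.
-/

namespace CfsgLib.Perm.NormalMultiply

open MulAction

/-- Normal subgroups of a `k`-transitive group are `(k-1)`-transitive, or `k = 3` and the subgroup
is an elementary abelian 2-group. -/
theorem jordan_normal {α : Type*} [Fintype α] [DecidableEq α] (G : Subgroup (Equiv.Perm α)) {k : ℕ}
    (hk : 1 < k) (hdeg : k < Fintype.card α) (hG : IsMultiplyPretransitive G α k) (N : Subgroup G)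
    [N.Normal] (hN : N ≠ ⊥) :
    IsMultiplyPretransitive N α (k - 1) ∨
      (k = 3 ∧ IsMulCommutative N ∧ ∀ n ∈ N, n ^ 2 = 1) := by
  obtain ⟨j, rfl⟩ : ∃ j, k = j + 1 := ⟨k - 1, by omega⟩
  simp only [Nat.add_sub_cancel]
  haveI := hG
  haveI : Nontrivial α := Fintype.one_lt_card_iff_nontrivial.1 (by omega)
  have hE : ((j + 1 : ℕ) : ENat) ≤ ENat.card α := by
    rw [ENat.card_eq_coe_fintype_card]; exact_mod_cast hdeg.le
  have hpre : IsMultiplyPreprimitive G α j :=
    isMultiplyPreprimitive_of_isMultiplyPretransitive_succ G α hE
  have hEj : ((j : ℕ) : ENat) ≤ ENat.card α := by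
    rw [ENat.card_eq_coe_fintype_card]; exact_mod_cast (show j ≤ Fintype.card α by omega)
  haveI : IsPreprimitive G α :=
    (is_one_preprimitive_iff G α).1 (isMultiplyPreprimitive_of_le G α hpre (by omega) hEj)
  haveI hNt : IsPretransitive N α := isPretransitive_of_ne_bot N hN
  rcases Nat.lt_or_ge j 2 with hj | hj
  · left
    obtain rfl : j = 1 := by omega
    exact is_one_pretransitive_iff.2 hNt
  by_cases hnr : ∃ a : α, stabilizer N a ≠ ⊥
  · by_cases hfull : j ≤ 2 ∨ Nat.card G ≠ (Nat.card α).factorial
    · exact Or.inl (isMultiplyPretransitive_of_nonregular j (by omega)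
        (by rw [Nat.card_eq_fintype_card]; omega) hpre hfull N hN hnr)
    · -- the full symmetric group
      left
      simp only [not_or, not_le, ne_eq, not_not] at hfull
      have h5 : 5 ≤ Nat.card α := by rw [Nat.card_eq_fintype_card]; omega
      have hGtop : G = ⊤ := Subgroup.eq_top_of_card_eq _ (by rw [hfull.2, Nat.card_perm])
      let N' : Subgroup (Equiv.Perm α) := N.map G.subtype
      have hN'n : N'.Normal := by
        refine ⟨fun x hx g => ?_⟩
        obtain ⟨y, hy, rfl⟩ := hx
        exact ⟨⟨g, hGtop ▸ Subgroup.mem_top g⟩ * y * ⟨g, hGtop ▸ Subgroup.mem_top g⟩⁻¹,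
          Subgroup.Normal.conj_mem inferInstance _ hy _, rfl⟩
      haveI := hN'n
      haveI : IsSimpleGroup (alternatingGroup α) := alternatingGroup.isSimpleGroup h5
      have hA : alternatingGroup α ≤ N' := by
        rcases (inferInstance : (N'.subgroupOf (alternatingGroup α)).Normal).eq_bot_or_eq_top with h | h
        · exfalso
          -- then `N` would have order at most two
          have hle : Nat.card N' ≤ 2 := by
            have hinj : Function.Injective
                ((Equiv.Perm.sign : Equiv.Perm α →* ℤˣ).comp N'.subtype) := by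
              rw [injective_iff_map_eq_one]
              intro x hx
              have hm : (⟨(x : Equiv.Perm α), Equiv.Perm.mem_alternatingGroup.2 hx⟩ : alternatingGroup α)
                  ∈ N'.subgroupOf (alternatingGroup α) := x.2
              rw [h, Subgroup.mem_bot] at hm
              exact Subtype.ext (congrArg (fun z : alternatingGroup α => (z : Equiv.Perm α)) hm)
            refine (Nat.card_le_card_of_injective _ hinj).trans ?_
            simp [Nat.card_eq_fintype_card]
          haveI : IsPretransitive N' α := CfsgLib.Perm.isPretransitive_map_subtype N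
          let a : α := Classical.arbitrary α
          have hdvd : Nat.card α ∣ Nat.card N' := by
            rw [← index_stabilizer_of_transitive N' a]
            exact Subgroup.index_dvd_card _
          have := Nat.le_of_dvd Nat.card_pos hdvd
          omega
        · exact Subgroup.subgroupOf_eq_top.1 h
      have hAt := alternatingGroup.isMultiplyPretransitive α
      have hAj : IsMultiplyPretransitive (alternatingGroup α) α j :=
        isMultiplyPretransitive_of_le' (n := Nat.card α - 2)
          (by rw [Nat.card_eq_fintype_card]; omega)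
          (by rw [ENat.card_eq_coe_fintype_card, Nat.card_eq_fintype_card]; exact_mod_cast Nat.sub_le _ _)
      rw [isMultiplyPretransitive_iff]
      intro x y
      obtain ⟨g, hg⟩ := hAj.exists_smul_eq x y
      obtain ⟨n, hn, hne⟩ := hA g.2
      refine ⟨⟨n, hn⟩, DFunLike.ext _ _ fun i => ?_⟩
      show (n : Equiv.Perm α) (x i) = y i
      rw [show (n : Equiv.Perm α) = (g : Equiv.Perm α) from hne]
      exact DFunLike.congr_fun hg i
  · simp only [not_exists, not_not] at hnr
    right
    have h2p : IsMultiplyPreprimitive G α 2 :=
      isMultiplyPreprimitive_of_le G α hpre hj hEj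
    rcases RegularNormal.of_two_preprimitive N h2p hnr with h | h
    · rw [Nat.card_eq_fintype_card] at h; omega
    have hc := (RegularNormal.elementary N h2p.isMultiplyPretransitive hnr).choose_spec.choose_spec.2.2.2.1
    refine ⟨?_, ⟨⟨hc⟩⟩, fun n hn => congrArg Subtype.val (h ⟨n, hn⟩)⟩
    by_contra hj3
    have h3 : IsMultiplyPreprimitive G α 3 :=
      isMultiplyPreprimitive_of_le G α hpre (by omega) hEj
    rcases RegularNormal.of_three_preprimitive N h3 (by rw [Nat.card_eq_fintype_card]; omega) hnr
      with h' | h' <;> rw [Nat.card_eq_fintype_card] at h' <;> omega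

end CfsgLib.Perm.NormalMultiply
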