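import Mathlib

/-!
A minimal normal subgroup of a finite group is a direct product of copies of a simple group.
-/

namespace CfsgLib.Perm.MinimalNormal

variable {N : Type*} [Group N] [Finite N]

/-- In a finite group `N`, if the subgroups `c i` are minimal normal, pairwise isomorphic to `M`
and generate `N`, then `N` is a power of `M`. -/
theorem exists_mulEquiv_pi {ι : Type*} (M : Subgroup N) (hM : M ≠ ⊥) (c : ι → Subgroup N)
    (hcn : ∀ i, (c i).Normal)
    (hmin : ∀ i, ∀ L : Subgroup N, L.Normal → L ≤ c i → L = ⊥ ∨ L = c i)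
    (hiso : ∀ i, Nonempty (M ≃* c i)) (hgen : ⨆ i, c i = ⊤) :
    ∃ (m : ℕ) (e : (Fin m → M) ≃* N), 0 < m ∧
      ∀ j : Fin m, ∃ i, (MonoidHom.mulSingle (fun _ => M) j).range.map e.toMonoidHom = c i := by
  classical
  -- a largest direct product inside `N`
  let Good : ℕ → Prop := fun m => ∃ f : (Fin m → M) →* N, Function.Injective f ∧ f.range.Normal ∧
    ∀ j : Fin m, ∃ i, (MonoidHom.mulSingle (fun _ => M) j).range.map f = c i
  have h0 : Good 0 := ⟨1, fun x y _ => funext fun i => i.elim0, by
    rw [MonoidHom.range_one]; infer_instance, fun j => j.elim0⟩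
  haveI : Nontrivial M := (Subgroup.nontrivial_iff_ne_bot M).2 hM
  haveI := Fintype.ofFinite N
  have hbound : ∀ m, Good m → m ≤ Nat.card N := by
    rintro m ⟨f, hf, -⟩
    refine le_trans ?_ (Nat.card_le_card_of_injective f hf)
    rw [Nat.card_fun, Nat.card_fin]
    exact (Nat.lt_pow_self Finite.one_lt_card).le
  obtain ⟨m, hm, hmax⟩ : ∃ m, Good m ∧ ∀ k, Good k → k ≤ m :=
    ⟨Nat.findGreatest Good (Nat.card N), Nat.findGreatest_spec (Nat.zero_le _) h0,
      fun k hk => Nat.le_findGreatest (hbound k hk) hk⟩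
  obtain ⟨f, hf, hfn, hfs⟩ := hm
  have htop : f.range = ⊤ := by
    by_contra hne
    obtain ⟨i, hi⟩ : ∃ i, ¬ c i ≤ f.range := by
      by_contra h
      simp only [not_exists, not_not] at h
      exact hne (eq_top_iff.2 (hgen ▸ iSup_le h))
    haveI := hcn i
    haveI := hfn
    have hdisj : c i ⊓ f.range = ⊥ := by
      rcases hmin i (c i ⊓ f.range) inferInstance inf_le_left with h | h
      · exact h
      · exact absurd (h ▸ inf_le_right) hi
    obtain ⟨φ⟩ := hiso i
    let g : M →* N := (c i).subtype.comp φ.toMonoidHom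
    have hgr : g.range = c i := by
      rw [MonoidHom.range_comp, MonoidHom.range_eq_top.2 φ.surjective, ← MonoidHom.range_eq_map,
        Subgroup.range_subtype]
    have hcomm : ∀ (x : M) (y : Fin m → M), Commute (g x) (f y) := fun x y =>
      Subgroup.commute_of_normal_of_disjoint _ _ (hcn i) hfn (disjoint_iff.2 hdisj) _ _
        (φ x).2 ⟨y, rfl⟩
    let pr : (Fin (m + 1) → M) →* M × (Fin m → M) :=
      MonoidHom.mk' (fun u => (u 0, Fin.tail u)) (fun u v => rfl)
    let f' : (Fin (m + 1) → M) →* N := (g.noncommCoprod f hcomm).comp pr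
    have hpr : Function.Surjective pr := fun ⟨x, y⟩ => ⟨Fin.cons x y, rfl⟩
    have hinj : Function.Injective f' := by
      rw [injective_iff_map_eq_one]
      intro u hu
      have hu' : g (u 0) * f (Fin.tail u) = 1 := hu
      have hmem : g (u 0) ∈ c i ⊓ f.range :=
        ⟨(φ (u 0)).2, by
          rw [mul_eq_one_iff_eq_inv] at hu'
          rw [hu']
          exact f.range.inv_mem ⟨_, rfl⟩⟩
      rw [hdisj, Subgroup.mem_bot] at hmem
      rw [hmem, one_mul] at hu'
      have h1 : u 0 = 1 := φ.injective (Subtype.ext (by rw [map_one]; exact hmem))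
      have h2 : Fin.tail u = 1 := hf (by rw [hu', map_one])
      funext j
      refine Fin.cases h1 (fun k => ?_) j
      exact congrFun h2 k
    have hrange : f'.range = c i ⊔ f.range := by
      rw [MonoidHom.range_comp, MonoidHom.range_eq_top.2 hpr, ← MonoidHom.range_eq_map,
        MonoidHom.noncommCoprod_range, hgr]
    have : Good (m + 1) := by
      refine ⟨f', hinj, by rw [hrange]; infer_instance, fun j => ?_⟩
      refine Fin.cases ?_ (fun k => ?_) j
      · refine ⟨i, ?_⟩
        rw [MonoidHom.map_range, ← hgr]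
        congr 1
        ext x
        show g ((Pi.mulSingle (0 : Fin (m + 1)) x : Fin (m + 1) → M) 0) *
          f (Fin.tail (Pi.mulSingle (0 : Fin (m + 1)) x : Fin (m + 1) → M)) = g x
        have : Fin.tail (Pi.mulSingle (0 : Fin (m + 1)) x : Fin (m + 1) → M) = 1 := funext fun l => by
          simp [Fin.tail, Fin.succ_ne_zero]
        simp [this]
      · obtain ⟨i', hi'⟩ := hfs k
        refine ⟨i', ?_⟩
        rw [← hi', MonoidHom.map_range, MonoidHom.map_range]
        congr 1
        ext x
        show g ((Pi.mulSingle k.succ x : Fin (m + 1) → M) 0) *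
          f (Fin.tail (Pi.mulSingle k.succ x : Fin (m + 1) → M)) = f (Pi.mulSingle k x)
        have : Fin.tail (Pi.mulSingle k.succ x : Fin (m + 1) → M) = Pi.mulSingle k x :=
          funext fun l => by simp [Fin.tail, Pi.mulSingle_apply, Fin.succ_inj]
        simp [this, (Fin.succ_ne_zero k).symm]
    have := hmax _ this
    omega
  refine ⟨m, MulEquiv.ofBijective f ⟨hf, MonoidHom.range_eq_top.1 htop⟩, ?_, hfs⟩
  rcases Nat.eq_zero_or_pos m with rfl | h
  · exfalso
    apply hM
    rw [eq_bot_iff]
    intro x _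
    have hx : x ∈ f.range := htop ▸ Subgroup.mem_top x
    obtain ⟨u, rfl⟩ := hx
    rw [show u = 1 from funext fun j => j.elim0, map_one]
    exact one_mem _
  · exact h

/-- If the factors of a power are minimal normal subgroups then they are simple. -/
theorem isSimpleGroup_factor {m : ℕ} {M : Subgroup N} (hM : M ≠ ⊥) (j : Fin m)
    (e : (Fin m → M) ≃* N)
    (hmin : ∀ L : Subgroup N, L.Normal →
      L ≤ (MonoidHom.mulSingle (fun _ => M) j).range.map e.toMonoidHom →
      L = ⊥ ∨ L = (MonoidHom.mulSingle (fun _ => M) j).range.map e.toMonoidHom) :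
    IsSimpleGroup M := by
  haveI : Nontrivial M := (Subgroup.nontrivial_iff_ne_bot M).2 hM
  refine ⟨fun L hL => ?_⟩
  let ψ : M →* N := e.toMonoidHom.comp (MonoidHom.mulSingle (fun _ => M) j)
  have hψ : Function.Injective ψ := fun x y h => by
    have := congrFun (e.injective h) j
    simpa using this
  have hn : ((L.map (MonoidHom.mulSingle (fun _ : Fin m => M) j)).map e.toMonoidHom).Normal := by
    refine Subgroup.Normal.map ?_ _ e.surjective
    refine ⟨fun u hu v => ?_⟩
    obtain ⟨x, hx, rfl⟩ := hu
    refine ⟨v j * x * (v j)⁻¹, hL.conj_mem x hx _, ?_⟩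
    funext l
    rcases eq_or_ne l j with rfl | h
    · simp
    · simp [h]
  rcases hmin _ hn (Subgroup.map_mono (Subgroup.map_le_range _ _)) with h | h
  · left
    rw [Subgroup.map_map] at h
    exact (Subgroup.map_eq_bot_iff_of_injective _ hψ).1 h
  · right
    rw [Subgroup.map_map, MonoidHom.range_eq_map, Subgroup.map_map] at h
    exact Subgroup.map_injective hψ h

end CfsgLib.Perm.MinimalNormal
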