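import Mathlib
import Cfsg.Prelude.Def_Perm
import Cfsg.Agent.Perm.SharplyTwo

/-!
The sharply 2-transitive affine group of a near-field.
-/

namespace CfsgLib.Perm.NearField

open MulAction

variable {F : Type*} [Cfsg.NearField F]

theorem zero_mul' (c : F) : (0 : F) * c = 0 := by
  have := Cfsg.NearField.right_distrib (0 : F) 0 c
  rw [add_zero] at this
  exact add_left_cancel (a := (0 : F) * c) (by rw [add_zero]; exact this.symm)

theorem neg_mul' (x c : F) : -x * c = -(x * c) := by
  apply eq_neg_of_add_eq_zero_left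
  rw [← Cfsg.NearField.right_distrib, neg_add_cancel, zero_mul']

theorem mul_ne_zero' {a b : F} (ha : a ≠ 0) (hb : b ≠ 0) : a * b ≠ 0 := by
  intro h
  obtain ⟨c, hc, _⟩ := Cfsg.NearField.exists_inv b hb
  apply ha
  have := congrArg (· * c) h
  simp only [mul_assoc, hc, mul_one, zero_mul'] at this
  exact this

/-- The affine map `x ↦ x * a + b`. -/
noncomputable def affinePerm (a b : F) (ha : a ≠ 0) : Equiv.Perm F where
  toFun x := x * a + b
  invFun y := (y + -b) * (Cfsg.NearField.exists_inv a ha).choose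
  left_inv x := by
    show (x * a + b + -b) * _ = x
    rw [add_neg_cancel_right, mul_assoc, (Cfsg.NearField.exists_inv a ha).choose_spec.1, mul_one]
  right_inv y := by
    show (y + -b) * _ * a + b = y
    rw [mul_assoc, (Cfsg.NearField.exists_inv a ha).choose_spec.2, mul_one, neg_add_cancel_right]

@[simp] theorem affinePerm_apply (a b : F) (ha : a ≠ 0) (x : F) : affinePerm a b ha x = x * a + b :=
  rfl

variable (F) in
/-- The group of all maps `x ↦ x * a + b` with `a ≠ 0`. -/
def affineSubgroup : Subgroup (Equiv.Perm F) where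
  carrier := {σ | ∃ a b : F, a ≠ 0 ∧ ∀ x : F, σ x = x * a + b}
  one_mem' := ⟨1, 0, fun h => Cfsg.NearField.zero_ne_one h.symm, fun x => by simp⟩
  mul_mem' := by
    rintro σ τ ⟨a, b, ha, hσ⟩ ⟨c, d, hc, hτ⟩
    refine ⟨c * a, d * a + b, mul_ne_zero' hc ha, fun x => ?_⟩
    rw [Equiv.Perm.mul_apply, hσ, hτ, Cfsg.NearField.right_distrib, mul_assoc, add_assoc]
  inv_mem' := by
    rintro σ ⟨a, b, ha, hσ⟩
    obtain ⟨c, hc1, hc2⟩ := Cfsg.NearField.exists_inv a ha
    refine ⟨c, -b * c, ?_, fun x => ?_⟩
    · intro h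
      rw [h, Cfsg.NearField.mul_zero] at hc1
      exact Cfsg.NearField.zero_ne_one hc1
    · apply σ.injective
      rw [Equiv.Perm.inv_def, Equiv.apply_symm_apply, hσ, Cfsg.NearField.right_distrib,
        mul_assoc, mul_assoc, hc2, mul_one, mul_one, neg_add_cancel_right]

theorem mem_affineSubgroup {σ : Equiv.Perm F} :
    σ ∈ affineSubgroup F ↔ ∃ a b : F, a ≠ 0 ∧ ∀ x : F, σ x = x * a + b := Iff.rfl

theorem isTwoPretransitive : IsMultiplyPretransitive (affineSubgroup F) F 2 := by
  have base : ∀ u v : F, u ≠ v → ∃ g : affineSubgroup F, g • (0 : F) = u ∧ g • (1 : F) = v := by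
    intro u v huv
    have hne : v + -u ≠ 0 := fun h => huv (by
      rw [add_neg_eq_zero] at h; exact h.symm)
    refine ⟨⟨affinePerm _ u hne, _, u, hne, fun x => rfl⟩, ?_, ?_⟩
    · show (0 : F) * _ + u = u
      rw [zero_mul', zero_add]
    · show (1 : F) * _ + u = v
      rw [one_mul, neg_add_cancel_right]
  rw [is_two_pretransitive_iff]
  intro a b c d hab hcd
  obtain ⟨g, hg0, hg1⟩ := base a b hab
  obtain ⟨k, hk0, hk1⟩ := base c d hcd
  exact ⟨k * g⁻¹, by rw [mul_smul, ← hg0, inv_smul_smul, hk0],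
    by rw [mul_smul, ← hg1, inv_smul_smul, hk1]⟩

theorem sharp (g : affineSubgroup F) (x y : F) (hxy : x ≠ y) (hx : g • x = x) (hy : g • y = y) :
    g = 1 := by
  obtain ⟨a, b, ha, hσ⟩ := g.2
  have hx' : x * a + b = x := (hσ x).symm.trans hx
  have hy' : y * a + b = y := (hσ y).symm.trans hy
  have hxa : x * a = x + -b := eq_add_neg_of_add_eq hx'
  have hya : y * a = y + -b := eq_add_neg_of_add_eq hy'
  have hd : (x + -y) * a = x + -y := by
    rw [Cfsg.NearField.right_distrib, neg_mul', hxa, hya, neg_add_rev, neg_neg, add_assoc,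
      neg_add_cancel_left]
  have hne : x + -y ≠ 0 := fun h => hxy (add_neg_eq_zero.1 h)
  obtain ⟨c, _, hc⟩ := Cfsg.NearField.exists_inv _ hne
  have ha1 : a = 1 := by
    rw [← one_mul a, ← hc, mul_assoc, hd]
  subst ha1
  have hb : b = 0 := by
    rw [mul_one] at hx'
    exact add_eq_left.1 hx'
  subst hb
  apply Subtype.ext
  apply Equiv.ext
  intro z
  rw [hσ]
  simp

theorem translation_mem (b : F) :
    affinePerm 1 b (fun h => Cfsg.NearField.zero_ne_one h.symm) ∈ affineSubgroup F :=
  ⟨1, b, fun h => Cfsg.NearField.zero_ne_one h.symm, fun _ => rfl⟩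

instance instNontrivialNearField : Nontrivial F := ⟨0, 1, Cfsg.NearField.zero_ne_one⟩

/-- Translations lie in the regular kernel. -/
theorem translation_mem_kernel [Finite F] (b : F) :
    (⟨_, translation_mem b⟩ : affineSubgroup F) ∈
      SharplyTwo.kernel (G := affineSubgroup F) isTwoPretransitive sharp := by
  by_cases hb : b = 0
  · left
    apply Subtype.ext
    apply Equiv.ext
    intro z
    simp [hb]
  · right
    intro z hz
    have : z * 1 + b = z := hz
    rw [mul_one] at this
    exact hb (add_eq_left.1 this)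

end CfsgLib.Perm.NearField
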