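import Mathlib
import Cfsg.Agent.FrobComp.SylowStructure

/-!
Linear groups regular on the non-zero vectors: maximal normal abelian subgroups.
-/

namespace CfsgLib.Perm.RegularLinear

open Polynomial Module

variable {p : ℕ} [Fact p.Prime] {V : Type*} [AddCommGroup V] [Module (ZMod p) V] [Finite V]
  (H : Subgroup (V ≃ₗ[ZMod p] V))

/-- The underlying linear map. -/
def lin : H →* Module.End (ZMod p) V where
  toFun h := ((h : V ≃ₗ[ZMod p] V) : V →ₗ[ZMod p] V)
  map_one' := rfl
  map_mul' _ _ := rfl

theorem lin_apply (h : H) (v : V) : lin H h v = (h : V ≃ₗ[ZMod p] V) v := rfl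

theorem lin_injective : Function.Injective (lin H) := fun g h e =>
  Subtype.ext (LinearEquiv.toLinearMap_injective e)

variable (hreg : ∀ v w : V, v ≠ 0 → w ≠ 0 → ∃! h : H, (h : V ≃ₗ[ZMod p] V) v = w)

include hreg

theorem eq_one_of_fixed {h : H} {v : V} (hv : v ≠ 0) (e : (h : V ≃ₗ[ZMod p] V) v = v) : h = 1 :=
  (hreg v v hv hv).unique e rfl

theorem ne_zero_apply (h : H) {v : V} (hv : v ≠ 0) : (h : V ≃ₗ[ZMod p] V) v ≠ 0 :=
  (map_ne_zero_iff _ (h : V ≃ₗ[ZMod p] V).injective).2 hv

theorem card_add_one [Nontrivial V] : Nat.card H + 1 = Nat.card V := by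
  classical
  haveI := Fintype.ofFinite V
  obtain ⟨v, hv⟩ := exists_ne (0 : V)
  have e : H ≃ {w : V // w ≠ 0} := Equiv.ofBijective
    (fun h => ⟨(h : V ≃ₗ[ZMod p] V) v, ne_zero_apply H hreg h hv⟩)
    ⟨fun g h e => (hreg v _ hv (ne_zero_apply H hreg g hv)).unique rfl
      (congrArg Subtype.val e).symm,
     fun w => ⟨(hreg v w hv w.2).exists.choose, Subtype.ext (hreg v w hv w.2).exists.choose_spec⟩⟩
  rw [Nat.card_congr e, Nat.card_eq_fintype_card, Nat.card_eq_fintype_card,
    Fintype.card_subtype_compl, Fintype.card_subtype_eq]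
  have : 0 < Fintype.card V := Fintype.card_pos
  omega

theorem finite_group : Finite H := by
  haveI : Finite (V ≃ₗ[ZMod p] V) :=
    Finite.of_injective (fun e => (e : V → V)) DFunLike.coe_injective
  infer_instance

/-- The action as additive endomorphisms. -/
def addAct : H →* AddMonoid.End V where
  toFun h := ((lin H h : Module.End (ZMod p) V) : V →ₗ[ZMod p] V).toAddMonoidHom
  map_one' := rfl
  map_mul' _ _ := rfl

theorem addAct_free : CfsgLib.FrobComp.IsFree (addAct H) := by
  intro h h1 x hx
  by_contra hx0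
  exact h1 (eq_one_of_fixed H hreg hx0 hx)

/-- Abelian subgroups are cyclic. -/
theorem isCyclic_of_comm [Nontrivial V] (A : Subgroup H) [IsMulCommutative A] : IsCyclic A := by
  haveI := finite_group H hreg
  have hf : CfsgLib.FrobComp.IsFree ((addAct H).comp A.subtype) := fun h h1 x hx =>
    addAct_free H hreg h (fun e => h1 (Subtype.ext e)) x hx
  letI : CommGroup A := { (inferInstance : Group A) with mul_comm := fun a b => mul_comm' a b }
  haveI : IsZGroup A := ⟨fun q hq P => by
    haveI := Fact.mk hq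
    exact CfsgLib.FrobComp.isCyclic_of_uniqueOrderP P.isPGroup'
      (CfsgLib.FrobComp.uniqueOrderP_of_free hf P.isPGroup')
      (Or.inl fun x y => Subtype.ext (mul_comm (x : A) y))⟩
  infer_instance

/-- An involution acts as `-1`. -/
theorem neg_of_sq_eq_one {h : H} (h2 : h * h = 1) (h1 : h ≠ 1) (v : V) :
    (h : V ≃ₗ[ZMod p] V) v = -v := by
  refine eq_neg_of_add_eq_zero_left ?_
  by_contra hne
  refine h1 (eq_one_of_fixed H hreg hne ?_)
  rw [map_add]
  have : (h : V ≃ₗ[ZMod p] V) ((h : V ≃ₗ[ZMod p] V) v) = v := by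
    show ((h * h : H) : V ≃ₗ[ZMod p] V) v = v
    rw [h2]; rfl
  rw [this, add_comm]

theorem involution_eq {g h : H} (g2 : g * g = 1) (g1 : g ≠ 1) (h2 : h * h = 1) (h1 : h ≠ 1) :
    g = h :=
  Subtype.ext (LinearEquiv.ext fun v => by
    rw [neg_of_sq_eq_one H hreg g2 g1, neg_of_sq_eq_one H hreg h2 h1])

theorem involution_central {g : H} (g2 : g * g = 1) (g1 : g ≠ 1) (h : H) : h * g = g * h :=
  Subtype.ext (LinearEquiv.ext fun v => by
    show (h : V ≃ₗ[ZMod p] V) ((g : V ≃ₗ[ZMod p] V) v) = (g : V ≃ₗ[ZMod p] V) ((h : V ≃ₗ[ZMod p] V) v)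
    rw [neg_of_sq_eq_one H hreg g2 g1, neg_of_sq_eq_one H hreg g2 g1, map_neg])

theorem char_ne_two_of_involution [Nontrivial V] {g : H} (g2 : g * g = 1) (g1 : g ≠ 1) : p ≠ 2 := by
  intro hp
  obtain ⟨v, hv⟩ := exists_ne (0 : V)
  refine g1 (eq_one_of_fixed H hreg hv ?_)
  rw [neg_of_sq_eq_one H hreg g2 g1]
  have hz : (-1 : ZMod p) = 1 := by subst hp; rfl
  calc -v = (-1 : ZMod p) • v := (neg_one_smul _ _).symm
    _ = v := by rw [hz, one_smul]

omit hreg in
/-- The subspaces invariant under a subgroup. -/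
def IsInv (A : Subgroup H) (W : Submodule (ZMod p) V) : Prop :=
  ∀ a ∈ A, ∀ v ∈ W, ((a : H) : V ≃ₗ[ZMod p] V) v ∈ W

omit hreg in
/-- Irreducible invariant subspaces. -/
def IsIrr (A : Subgroup H) (W : Submodule (ZMod p) V) : Prop :=
  W ≠ ⊥ ∧ IsInv H A W ∧ ∀ W' : Submodule (ZMod p) V, W' ≤ W → IsInv H A W' → W' = ⊥ ∨ W' = W

omit hreg in
theorem exists_irr_le (A : Subgroup H) (W₀ : Submodule (ZMod p) V) (h0 : W₀ ≠ ⊥)
    (hW₀ : IsInv H A W₀) : ∃ W, W ≤ W₀ ∧ IsIrr H A W := by
  classical
  have hex : ∃ n, ∃ W : Submodule (ZMod p) V, W ≤ W₀ ∧ W ≠ ⊥ ∧ IsInv H A W ∧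
      finrank (ZMod p) W = n := ⟨_, W₀, le_rfl, h0, hW₀, rfl⟩
  obtain ⟨W, hle, hne, hinv, hW⟩ := Nat.find_spec hex
  refine ⟨W, hle, hne, hinv, fun W' hW'le hW'inv => ?_⟩
  by_cases h : W' = ⊥
  · exact Or.inl h
  · exact Or.inr (Submodule.eq_of_le_of_finrank_le hW'le
      (hW ▸ Nat.find_min' hex ⟨W', hW'le.trans hle, h, hW'inv, rfl⟩))

omit hreg in
theorem conj_irr (A : Subgroup H) [A.Normal] {W : Submodule (ZMod p) V} (hW : IsIrr H A W) (h : H) :
    IsIrr H A (W.map (lin H h)) := by
  have hinv : ∀ (g : H) (U : Submodule (ZMod p) V), IsInv H A U → IsInv H A (U.map (lin H g)) := by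
    rintro g U hU a ha _ ⟨v, hv, rfl⟩
    refine ⟨lin H (g⁻¹ * a * g) v, hU _ (by simpa using ‹A.Normal›.conj_mem a ha g⁻¹) v hv, ?_⟩
    rw [← Module.End.mul_apply, ← map_mul, lin_apply, ← mul_assoc, ← mul_assoc, mul_inv_cancel,
      one_mul]
    rfl
  have hcancel : ∀ (g : H) (U : Submodule (ZMod p) V), (U.map (lin H g)).map (lin H g⁻¹) = U := by
    intro g U
    rw [← Submodule.map_comp, ← Module.End.mul_eq_comp, ← map_mul, inv_mul_cancel, map_one,
      Module.End.one_eq_id, Submodule.map_id]
  refine ⟨fun h0 => hW.1 ?_, hinv h W hW.2.1, fun W' hle hW' => ?_⟩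
  · rw [← hcancel h W, h0, Submodule.map_bot]
  · rcases hW.2.2 (W'.map (lin H h⁻¹)) ((Submodule.map_mono hle).trans (hcancel h W).le)
      (hinv _ _ hW') with e | e
    · left
      have := congrArg (fun U : Submodule (ZMod p) V => U.map (lin H h)) e
      simp only [Submodule.map_bot] at this
      have h' := hcancel h⁻¹ W'
      rw [inv_inv] at h'
      rwa [h'] at this
    · right
      have := congrArg (fun U : Submodule (ZMod p) V => U.map (lin H h)) e
      have h' := hcancel h⁻¹ W'
      rw [inv_inv] at h'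
      rwa [h'] at this

omit hreg in
theorem exists_irreducible_poly {A : Subgroup H} {a : H} (ha : ∀ x ∈ A, x ∈ Subgroup.zpowers a)
    (haA : a ∈ A) {W : Submodule (ZMod p) V} (hW : IsIrr H A W) :
    ∃ f : (ZMod p)[X], f.Monic ∧ Irreducible f ∧ f.natDegree ≤ finrank (ZMod p) W ∧
      ∀ v ∈ W, aeval (lin H a) f v = 0 := by
  haveI : Nontrivial W := Submodule.nontrivial_iff_ne_bot.2 hW.1
  have hmap : ∀ v ∈ W, lin H a v ∈ W := fun v hv => hW.2.1 a haA v hv
  set T : Module.End (ZMod p) W := (lin H a).restrict hmap with hT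
  have hpow : ∀ (g : (ZMod p)[X]) (v : W), (aeval T g v : V) = aeval (lin H a) g (v : V) := by
    intro g v
    induction g using Polynomial.induction_on' with
    | add g₁ g₂ h₁ h₂ => simp [map_add, h₁, h₂]
    | monomial n c =>
      rw [aeval_monomial, aeval_monomial, Module.End.mul_apply, Module.End.mul_apply,
        Module.algebraMap_end_apply, Module.algebraMap_end_apply, Submodule.coe_smul]
      congr 1
      induction n with
      | zero => rfl
      | succ n ih => rw [pow_succ', pow_succ', Module.End.mul_apply, Module.End.mul_apply, ← ih]; rfl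
  refine ⟨minpoly (ZMod p) T, minpoly.monic (Algebra.IsIntegral.isIntegral T), ?_, ?_, ?_⟩
  · refine (minpoly.monic (Algebra.IsIntegral.isIntegral T)).irreducible_iff_natDegree'.2
      ⟨minpoly.ne_one (ZMod p) T, ?_⟩
    intro g₁ g₂ hm₁ hm₂ he hdeg
    rw [Finset.mem_Ioc] at hdeg
    -- the kernel of one factor is invariant
    let U : Submodule (ZMod p) V := (LinearMap.ker (aeval T g₁)).map W.subtype
    have hUinv : IsInv H A U := by
      intro x hx v hv
      obtain ⟨w, hw, rfl⟩ := hv
      haveI : Finite H := finite_of_inj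
      obtain ⟨k, -, hk⟩ := (mem_powers_iff_mem_zpowers.2 (ha x hx) |>
        fun h => (⟨h.choose, trivial, h.choose_spec⟩ : ∃ k : ℕ, True ∧ a ^ k = x))
      refine ⟨(T ^ k) w, ?_, ?_⟩
      · have hc := ((Polynomial.commute_X_pow g₁ k).symm.map (aeval T)).eq
        rw [map_pow, aeval_X] at hc
        rw [SetLike.mem_coe, LinearMap.mem_ker, ← Module.End.mul_apply, hc, Module.End.mul_apply]
        rw [SetLike.mem_coe, LinearMap.mem_ker] at hw
        rw [hw, map_zero]
      · have := hpow (X ^ k) w
        simp only [map_pow, aeval_X] at this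
        rw [← hk]
        show ((T ^ k) w : V) = lin H (a ^ k) (w : V)
        rw [this, map_pow]
    have hfact : aeval T g₁ * aeval T g₂ = 0 := by rw [← map_mul, he, minpoly.aeval]
    rcases hW.2.2 U (Submodule.map_subtype_le _ _) hUinv with hU | hU
    · have hinj : LinearMap.ker (aeval T g₁) = ⊥ := by
        have := congrArg (Submodule.comap W.subtype) hU
        rwa [Submodule.comap_map_eq_of_injective W.injective_subtype, Submodule.comap_bot,
          Submodule.ker_subtype] at this
      have h0 : aeval T g₂ = 0 := LinearMap.ext fun w => by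
        refine LinearMap.ker_eq_bot.1 hinj ?_
        rw [← Module.End.mul_apply, hfact, LinearMap.zero_apply]
        exact (map_zero _).symm
      have := natDegree_le_of_dvd (minpoly.dvd _ _ h0) hm₂.ne_zero
      have e := congrArg natDegree he
      rw [hm₁.natDegree_mul hm₂] at e
      omega
    · have htop : LinearMap.ker (aeval T g₁) = ⊤ := by
        have := congrArg (Submodule.comap W.subtype) hU
        rwa [Submodule.comap_map_eq_of_injective W.injective_subtype,
          Submodule.comap_subtype_self] at this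
      have h0 : aeval T g₁ = 0 := LinearMap.ker_eq_top.1 htop
      have := natDegree_le_of_dvd (minpoly.dvd _ _ h0) hm₁.ne_zero
      have e := congrArg natDegree he
      rw [hm₁.natDegree_mul hm₂] at e
      omega
  · exact (natDegree_le_of_dvd (minpoly.dvd _ _ T.aeval_self_charpoly)
      T.charpoly_monic.ne_zero).trans T.charpoly_natDegree.le
  · intro v hv
    rw [← hpow _ ⟨v, hv⟩, minpoly.aeval]
    rfl
where
  finite_of_inj : Finite H := by
    haveI : Finite (V ≃ₗ[ZMod p] V) :=
      Finite.of_injective (fun e => (e : V → V)) DFunLike.coe_injective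
    infer_instance

/-- The data attached to a maximal normal abelian subgroup. -/
theorem setup [Nontrivial V]
    (hI : ∀ A : Subgroup H, A.Normal → IsCyclic A → ∃ W : Submodule (ZMod p) V,
      W ≠ ⊥ ∧ W ≠ ⊤ ∧ ∀ a ∈ A, ∀ v ∈ W, ((a : H) : V ≃ₗ[ZMod p] V) v ∈ W)
    (A : Subgroup H) (hAn : A.Normal) [IsMulCommutative A] :
    IsCyclic A ∧ ∃ W : Submodule (ZMod p) V, W ≠ ⊤ ∧ IsIrr H A W ∧
      Nat.card A ∣ p ^ finrank (ZMod p) W - 1 ∧
      2 * finrank (ZMod p) W ≤ finrank (ZMod p) V ∧
      (Subgroup.centralizer (A : Set H)).index ≤ finrank (ZMod p) W := by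
  classical
  haveI := finite_group H hreg
  have hcyc := isCyclic_of_comm H hreg A
  obtain ⟨W₀, h0, htop, hW₀⟩ := hI A hAn hcyc
  obtain ⟨W, hle, hW⟩ := exists_irr_le H A W₀ h0 hW₀
  have hWtop : W ≠ ⊤ := fun h => htop (top_le_iff.1 (h ▸ hle))
  obtain ⟨w₀, hw₀, hw₀0⟩ := Submodule.exists_mem_ne_zero_of_ne_bot hW.1
  refine ⟨hcyc, W, hWtop, hW, ?_, ?_, ?_⟩
  · -- free action of `A` on `W`
    let φ : A →* Equiv.Perm W :=
      { toFun := fun a =>
          { toFun := fun w => ⟨((a : H) : V ≃ₗ[ZMod p] V) w, hW.2.1 a a.2 w w.2⟩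
            invFun := fun w => ⟨(((a⁻¹ : A) : H) : V ≃ₗ[ZMod p] V) w, hW.2.1 _ (a⁻¹).2 w w.2⟩
            left_inv := fun w => Subtype.ext (((a : H) : V ≃ₗ[ZMod p] V).symm_apply_apply (w : V))
            right_inv := fun w => Subtype.ext (((a : H) : V ≃ₗ[ZMod p] V).apply_symm_apply (w : V)) }
        map_one' := rfl
        map_mul' := fun a b => rfl }
    letI : MulAction A W := MulAction.compHom W φ
    haveI := Fintype.ofFinite W
    haveI := Fintype.ofFinite A
    haveI := Fintype.ofFinite (MulAction.orbitRel.Quotient A W)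
    have hb := MulAction.sum_card_fixedBy_eq_card_orbits_mul_card_group A W
    rw [← Finset.add_sum_erase _ _ (Finset.mem_univ (1 : A))] at hb
    have h1 : Fintype.card (MulAction.fixedBy W (1 : A)) = Fintype.card W :=
      Fintype.card_congr ((Equiv.setCongr (by ext w; simp)).trans (Equiv.Set.univ W))
    have h2 : ∀ a ∈ Finset.univ.erase (1 : A),
        Fintype.card (MulAction.fixedBy W a) = 1 := by
      intro a ha
      rw [Fintype.card_eq_one_iff]
      refine ⟨⟨0, Subtype.ext (map_zero ((a : H) : V ≃ₗ[ZMod p] V))⟩, ?_⟩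
      rintro ⟨⟨w, hw⟩, hfix⟩
      refine Subtype.ext (Subtype.ext ?_)
      by_contra hw0
      refine Finset.ne_of_mem_erase ha (Subtype.ext (eq_one_of_fixed H hreg hw0 ?_))
      exact congrArg Subtype.val hfix
    rw [h1, Finset.sum_congr rfl h2, Finset.sum_const, smul_eq_mul, mul_one,
      Finset.card_erase_of_mem (Finset.mem_univ _), Finset.card_univ] at hb
    have hcW : Fintype.card W = p ^ finrank (ZMod p) W := by
      rw [← Nat.card_eq_fintype_card, Module.natCard_eq_pow_finrank (K := ZMod p), Nat.card_zmod]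
    rw [Nat.card_eq_fintype_card, ← hcW]
    have hpos : 0 < Fintype.card A := Fintype.card_pos
    have hWpos : 0 < Fintype.card W := Fintype.card_pos
    have hq : Fintype.card W - 1 =
        (Fintype.card (MulAction.orbitRel.Quotient A W) - 1) * Fintype.card A := by
      change _ = Fintype.card (MulAction.orbitRel.Quotient A W) * _ at hb
      rw [Nat.sub_mul, one_mul]
      omega
    exact ⟨_, hq.trans (mul_comm _ _)⟩
  · -- a conjugate of `W` meets it trivially
    obtain ⟨v, hv⟩ : ∃ v, v ∉ W := by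
      by_contra h
      simp only [not_exists, not_not] at h
      exact hWtop (eq_top_iff.2 fun x _ => h x)
    obtain ⟨h, hh⟩ := (hreg w₀ v hw₀0 (fun h0 => hv (h0 ▸ W.zero_mem))).exists
    have hW' := conj_irr H A hW h
    set W' := W.map (lin H h)
    have hfr : finrank (ZMod p) W' = finrank (ZMod p) W :=
      (Submodule.equivMapOfInjective _ (h : V ≃ₗ[ZMod p] V).injective W).finrank_eq.symm
    have hinf : W ⊓ W' = ⊥ := by
      rcases hW.2.2 (W ⊓ W') inf_le_left
          (fun a ha u hu => ⟨hW.2.1 a ha u hu.1, hW'.2.1 a ha u hu.2⟩) with e | e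
      · exact e
      · exfalso
        have : W = W' := Submodule.eq_of_le_of_finrank_le (inf_eq_left.1 e) hfr.le
        exact hv (this.symm ▸ ⟨w₀, hw₀, hh⟩)
    have := Submodule.finrank_sup_add_finrank_inf_eq W W'
    rw [hinf, finrank_bot, add_zero, hfr] at this
    have := Submodule.finrank_le (W ⊔ W')
    omega
  · -- at most `dim W` conjugates of a generator
    obtain ⟨⟨a, haA⟩, hgen⟩ := hcyc.exists_generator
    have ha : ∀ x ∈ A, x ∈ Subgroup.zpowers a := by
      intro x hx
      obtain ⟨k, hk⟩ := hgen ⟨x, hx⟩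
      exact ⟨k, congrArg Subtype.val hk⟩
    obtain ⟨f, hfm, hfi, hfd, hf⟩ := exists_irreducible_poly H ha haA hW
    have hall : ∀ v : V, aeval (lin H a) f v = 0 := by
      intro u
      by_cases hu : u = 0
      · rw [hu, map_zero]
      have hkill : ∀ x : V, x ≠ 0 → ∃ g : (ZMod p)[X], g.Monic ∧ Irreducible g ∧
          aeval (lin H a) g x = 0 := by
        intro x hx
        obtain ⟨h, hh⟩ := (hreg w₀ x hw₀0 hx).exists
        obtain ⟨g, hgm, hgi, -, hg⟩ := exists_irreducible_poly H ha haA (conj_irr H A hW h)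
        exact ⟨g, hgm, hgi, hg x ⟨w₀, hw₀, hh⟩⟩
      have hcop : ∀ {g₁ g₂ : (ZMod p)[X]} {x : V}, IsCoprime g₁ g₂ →
          aeval (lin H a) g₁ x = 0 → aeval (lin H a) g₂ x = 0 → x = 0 := by
        rintro g₁ g₂ x ⟨r, s, hrs⟩ e1 e2
        have := congrArg (fun t => aeval (lin H a) t x) hrs
        simpa [e1, e2] using this.symm
      have hirr : ∀ {g₁ g₂ : (ZMod p)[X]}, g₁.Monic → g₂.Monic → Irreducible g₁ → Irreducible g₂ →
          g₁ ≠ g₂ → IsCoprime g₁ g₂ := fun hm1 hm2 hi1 hi2 hne =>
        hi1.coprime_iff_not_dvd.2 fun hd =>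
          hne (eq_of_monic_of_associated hm1 hm2 (hi1.associated_of_dvd hi2 hd))
      obtain ⟨g, hgm, hgi, hg⟩ := hkill u hu
      by_cases hfg : g = f
      · rwa [← hfg]
      have hsum : w₀ + u ≠ 0 := by
        intro h
        rw [add_eq_zero_iff_neg_eq] at h
        refine hu (hcop (hirr hgm hfm hgi hfi hfg) hg ?_)
        rw [← h, map_neg, hf w₀ hw₀, neg_zero]
      obtain ⟨r, hrm, hri, hr⟩ := hkill _ hsum
      exfalso
      by_cases hrf : r = f
      · subst hrf
        rw [map_add, hf w₀ hw₀, zero_add] at hr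
        exact hu (hcop (hirr hgm hfm hgi hfi hfg) hg hr)
      · by_cases hrg : r = g
        · subst hrg
          rw [map_add, hg, add_zero] at hr
          exact hw₀0 (hcop (hirr hgm hfm hgi hfi hfg) hr (hf w₀ hw₀))
        · refine hsum (hcop ((hirr hrm hfm hri hfi hrf).mul_right (hirr hrm hgm hri hgi hrg)) hr ?_)
          have e1 : aeval (lin H a) (f * g) u = 0 := by
            rw [map_mul, Module.End.mul_apply, hg, map_zero]
          have e2 : aeval (lin H a) (f * g) w₀ = 0 := by
            rw [mul_comm, map_mul, Module.End.mul_apply, hf w₀ hw₀, map_zero]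
          rw [map_add, e2, e1, add_zero]
    have hfa : aeval (lin H a) f = 0 := LinearMap.ext fun v => hall v
    have hmin : f = minpoly (ZMod p) (lin H a) :=
      minpoly.eq_of_irreducible_of_monic hfi hfa hfm
    -- conjugates of `a`
    let S : Set H := MulAction.orbit (ConjAct H) a
    have hidx : (Subgroup.centralizer (A : Set H)).index = S.ncard := by
      have e1 : Subgroup.centralizer (A : Set H) = Subgroup.centralizer ({a} : Set H) := by
        refine le_antisymm (Subgroup.centralizer_le (Set.singleton_subset_iff.2 haA)) fun g hg => ?_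
        rw [Subgroup.mem_centralizer_singleton_iff] at hg
        rw [Subgroup.mem_centralizer_iff]
        intro x hx
        obtain ⟨k, rfl⟩ := ha x hx
        exact ((show Commute g a from hg).zpow_right k).eq.symm
      have e2 : Subgroup.centralizer ({a} : Set H) =
          (MulAction.stabilizer (ConjAct H) a).comap ConjAct.toConjAct.toMonoidHom :=
        Subgroup.centralizer_eq_comap_stabilizer a
      rw [e1, e2]
      exact ((Subgroup.index_comap_of_surjective (G' := H) (MulAction.stabilizer (ConjAct H) a)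
        (f := ConjAct.toConjAct.toMonoidHom) ConjAct.toConjAct.surjective)).trans
        (MulAction.index_stabilizer (ConjAct H) a)
    have hconj : ∀ c ∈ S, ∃ i : ℕ, a ^ i = c ∧ aeval (lin H a) (f.comp (X ^ i)) = 0 := by
      rintro c ⟨g, rfl⟩
      have hg : g • a ∈ A := by
        rw [ConjAct.smul_def]
        exact hAn.conj_mem a haA _
      obtain ⟨i, hi⟩ := mem_powers_iff_mem_zpowers.2 (ha _ hg)
      refine ⟨i, hi, ?_⟩
      rw [aeval_comp, map_pow, aeval_X, ← map_pow, show a ^ i = g • a from hi, ConjAct.smul_def]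
      set h := ConjAct.ofConjAct g
      have key : ∀ q : (ZMod p)[X], aeval (lin H (h * a * h⁻¹)) q * lin H h =
          lin H h * aeval (lin H a) q := by
        intro q
        induction q using Polynomial.induction_on' with
        | add q₁ q₂ h₁ h₂ => rw [map_add, map_add, add_mul, mul_add, h₁, h₂]
        | monomial n c =>
          rw [aeval_monomial, aeval_monomial, mul_assoc, ← map_pow, ← map_pow, ← map_mul,
            conj_pow, inv_mul_cancel_right, map_mul, ← mul_assoc, ← mul_assoc, Algebra.commutes]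
      have := congrArg (fun t => t * lin H h⁻¹) (key f)
      simp only [hfa, mul_zero, zero_mul] at this
      rwa [mul_assoc, ← map_mul, mul_inv_cancel, map_one, mul_one] at this
    choose! idx hidx1 hidx2 using hconj
    haveI : Fact (Irreducible f) := ⟨hfi⟩
    rw [hidx]
    refine le_trans ?_ hfd
    have hroots : ∀ c ∈ S, AdjoinRoot.root f ^ idx c ∈
        (f.map (AdjoinRoot.of f)).roots.toFinset := by
      intro c hc
      rw [Multiset.mem_toFinset, mem_roots', IsRoot.def, eval_map]
      refine ⟨Polynomial.map_ne_zero hfm.ne_zero, ?_⟩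
      have hd : f ∣ f.comp (X ^ idx c) := by
        conv_lhs => rw [hmin]
        exact minpoly.dvd _ _ (hidx2 c hc)
      obtain ⟨q, hq⟩ := hd
      have := congrArg (aeval (AdjoinRoot.root f)) hq
      rw [map_mul, show aeval (AdjoinRoot.root f) f = 0 from by
          rw [AdjoinRoot.aeval_eq, AdjoinRoot.mk_self], zero_mul, aeval_comp, map_pow, aeval_X]
        at this
      rw [← AdjoinRoot.algebraMap_eq, ← aeval_def]
      exact this
    calc S.ncard ≤ ((f.map (AdjoinRoot.of f)).roots.toFinset : Set (AdjoinRoot f)).ncard :=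
          Set.ncard_le_ncard_of_injOn (fun c => AdjoinRoot.root f ^ idx c) hroots (by
            intro c hc c' hc' he
            simp only at he
            rw [← sub_eq_zero] at he
            have hd : f ∣ (X ^ idx c - X ^ idx c') := by
              rw [← AdjoinRoot.mk_eq_zero]
              simpa using he
            obtain ⟨q, hq⟩ := hd
            have h0 := congrArg (aeval (lin H a)) hq
            rw [map_mul, hfa, zero_mul, map_sub, map_pow, map_pow, aeval_X, sub_eq_zero,
              ← map_pow, ← map_pow] at h0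
            rw [← hidx1 c hc, ← hidx1 c' hc', lin_injective H h0]) (Finset.finite_toSet _)
      _ ≤ Multiset.card (f.map (AdjoinRoot.of f)).roots := by
          rw [Set.ncard_coe_finset]
          exact Multiset.toFinset_card_le _
      _ ≤ f.natDegree := (card_roots' _).trans Polynomial.natDegree_map_le

end CfsgLib.Perm.RegularLinear
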