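import Mathlib
import Cfsg.Agent.Perm.RegularLinear

/-!
Linear groups regular on the non-zero vectors: the quaternion group above a maximal normal
abelian subgroup.
-/

namespace CfsgLib.Perm.RegularLinear

section Quat

variable {G : Type*} [Group G]

/-- Commutation with a power. -/
theorem pow_mul_eq_of_inv {x u : G} (h : u * x = x⁻¹ * u) (n : ℕ) : x ^ n * u = u * (x ^ n)⁻¹ := by
  have h' : SemiconjBy u x x⁻¹ := h
  have := (h'.inv_right).pow_right n
  rw [inv_inv] at this
  rw [← inv_pow]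
  exact this.eq.symm

/-- The homomorphism from the quaternion group. -/
noncomputable def quatHom {x u : G} (hx : x ^ 4 = 1) (hu : u * u = x ^ 2)
    (h : u * x = x⁻¹ * u) : QuaternionGroup 2 →* G where
  toFun g := match g with
    | .a i => x ^ i.val
    | .xa i => u * x ^ i.val
  map_one' := by
    show x ^ (0 : ZMod (2 * 2)).val = 1
    simp
  map_mul' := by
    have hx' : x ^ (2 * 2) = 1 := hx
    have hadd : ∀ i j : ZMod (2 * 2), x ^ (i + j).val = x ^ i.val * x ^ j.val := by
      intro i j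
      rw [ZMod.val_add, ← pow_eq_pow_mod _ hx', pow_add]
    have hsub : ∀ i j : ZMod (2 * 2), x ^ (j - i).val = (x ^ i.val)⁻¹ * x ^ j.val := by
      intro i j
      rw [eq_inv_mul_iff_mul_eq, ← hadd, add_sub_cancel]
    rintro (i | i) (j | j)
    · exact hadd i j
    · show u * x ^ (j - i).val = x ^ i.val * (u * x ^ j.val)
      rw [hsub, ← mul_assoc, ← mul_assoc, pow_mul_eq_of_inv h]
    · show u * x ^ (i + j).val = u * x ^ i.val * x ^ j.val
      rw [hadd, mul_assoc]
    · show x ^ ((2 : ℕ) + j - i : ZMod (2 * 2)).val = u * x ^ i.val * (u * x ^ j.val)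
      rw [add_sub_assoc, hadd, hsub, mul_assoc u, ← mul_assoc (x ^ i.val) u, pow_mul_eq_of_inv h,
        show ((2 : ℕ) : ZMod (2 * 2)).val = 2 from rfl, ← hu]
      simp only [mul_assoc]

theorem quatHom_injective {x u : G} (hx : x ^ 4 = 1) (hu : u * u = x ^ 2) (h : u * x = x⁻¹ * u)
    (hord : orderOf x = 4) (hne : ¬ Commute u x) : Function.Injective (quatHom hx hu h) := by
  rw [injective_iff_map_eq_one]
  rintro (i | i) hi
  · have hd : orderOf x ∣ i.val := orderOf_dvd_of_pow_eq_one hi
    rw [hord] at hd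
    have := Nat.eq_zero_of_dvd_of_lt hd (ZMod.val_lt i)
    rw [QuaternionGroup.one_def, (ZMod.val_eq_zero i).1 this]
  · exfalso
    apply hne
    have : u = (x ^ i.val)⁻¹ := eq_inv_of_mul_eq_one_left hi
    rw [this]
    exact ((Commute.refl x).pow_left _).inv_left

end Quat

variable {p : ℕ} [Fact p.Prime] {V : Type*} [AddCommGroup V] [Module (ZMod p) V] [Finite V]
  {H : Subgroup (V ≃ₗ[ZMod p] V)}
  (hreg : ∀ v w : V, v ≠ 0 → w ≠ 0 → ∃! h : H, (h : V ≃ₗ[ZMod p] V) v = w)

include hreg

theorem eq_one_or_eq {g z : H} (hz : z * z = 1) (hz1 : z ≠ 1) (hg : g * g = 1) : g = 1 ∨ g = z := by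
  by_cases h : g = 1
  · exact Or.inl h
  · exact Or.inr (involution_eq H hreg hg h hz hz1)

/-- Above a maximal central subgroup with elementary abelian quotient lies a quaternion group. -/
theorem quaternion_of_class_two [Nontrivial V] {A M : Subgroup H} [IsMulCommutative A] {q : ℕ}
    (hq : q.Prime)
    (hAM : A ≤ M) (hMA : M ≤ Subgroup.centralizer (A : Set H))
    (hcomm : ∀ x ∈ M, ∀ y ∈ M, x * y * x⁻¹ * y⁻¹ ∈ A) (hpow : ∀ x ∈ M, x ^ q ∈ A)
    (hne : ∃ x ∈ M, ∃ y ∈ M, x * y ≠ y * x) :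
    q = 2 ∧ ∃ (z x u : H), z * z = 1 ∧ z ≠ 1 ∧ x ∈ M ∧ u ∈ M ∧ x * x = z ∧ u * u = z ∧
      ¬ Commute u x ∧ z ∈ A ∧ (∀ a ∈ A, a ^ 4 = 1 → a = 1 ∨ a = z) ∧
      ∃ Q : Subgroup H, Nat.card Q = 8 ∧ x ∈ Q ∧ u ∈ Q ∧ Nonempty (Q ≃* QuaternionGroup 2) ∧
        ∀ g : H, g ∈ Q ↔ g ∈ M ∧ g ^ 4 = 1 := by
  classical
  haveI := finite_group H hreg
  haveI := Fact.mk hq
  haveI hcycA := isCyclic_of_comm H hreg A
  -- central elements of `M`
  have hcen : ∀ a ∈ A, ∀ m ∈ M, Commute a m := fun a ha m hm =>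
    (Subgroup.mem_centralizer_iff.1 (hMA hm) a ha)
  have hconjpow : ∀ x ∈ M, ∀ y ∈ M, ∀ k : ℕ,
      x ^ k * y = (x * y * x⁻¹ * y⁻¹) ^ k * y * x ^ k := by
    intro x hx y hy k
    set c := x * y * x⁻¹ * y⁻¹ with hc
    have hcx : Commute c x := hcen c (hcomm x hx y hy) x hx
    have hxy : x * y = c * y * x := by rw [hc]; group
    induction k with
    | zero => simp
    | succ k ih =>
      calc x ^ (k + 1) * y = x ^ k * (x * y) := by rw [pow_succ, mul_assoc]
        _ = x ^ k * c * y * x := by rw [hxy]; group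
        _ = c * (x ^ k * y) * x := by rw [← (hcx.pow_right k).eq]; group
        _ = c * (c ^ k * y * x ^ k) * x := by rw [ih]
        _ = c ^ (k + 1) * y * x ^ (k + 1) := by rw [pow_succ' c, pow_succ x]; simp only [mul_assoc]
  have hcq : ∀ x ∈ M, ∀ y ∈ M, (x * y * x⁻¹ * y⁻¹) ^ q = 1 := by
    intro x hx y hy
    have h := hconjpow x hx y hy q
    rw [(hcen _ (hpow x hx) y hy).eq, mul_assoc] at h
    exact mul_eq_right.1 h.symm
  obtain ⟨x₀, hx₀, y₀, hy₀, hne₀⟩ := hne
  -- pass to `q`-elements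
  obtain ⟨e, r, hr, hAcard⟩ := Nat.exists_eq_pow_mul_and_not_dvd (Nat.card_pos (α := A)).ne' q
    hq.ne_one
  have hqe : ∀ x ∈ M, (x ^ q) ^ (Nat.card A) = 1 := fun x hx => by
    have := pow_card_eq_one' (x := (⟨x ^ q, hpow x hx⟩ : A))
    exact congrArg Subtype.val this
  have hrel : ∀ x ∈ M, ((x ^ r) ^ q) ^ (q ^ e) = 1 := fun x hx => by
    rw [← pow_mul, ← pow_mul, show r * (q * q ^ e) = q * (q ^ e * r) by ring, ← hAcard, pow_mul]
    exact hqe x hx
  have hne1 : x₀ ^ r * y₀ ^ r ≠ y₀ ^ r * x₀ ^ r := by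
    intro h
    set c := x₀ * y₀ * x₀⁻¹ * y₀⁻¹ with hc
    have hc1 : c ≠ 1 := fun h1 => hne₀ (by
      calc x₀ * y₀ = c * (y₀ * x₀) := by rw [hc]; group
        _ = y₀ * x₀ := by rw [h1, one_mul])
    have hcr : ∀ {x y : H}, x ∈ M → y ∈ M → Commute (x ^ r) y → (x * y * x⁻¹ * y⁻¹) ^ r = 1 := by
      intro x y hx hy hh
      have e := hconjpow x hx y hy r
      rw [hh.eq] at e
      calc (x * y * x⁻¹ * y⁻¹) ^ r
          = ((x * y * x⁻¹ * y⁻¹) ^ r * y * x ^ r) * (y * x ^ r)⁻¹ := by group
        _ = 1 := by rw [← e, mul_inv_cancel]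
    -- first move the exponent off the second variable
    set c₁ := x₀ ^ r * y₀ * (x₀ ^ r)⁻¹ * y₀⁻¹ with hc₁
    have e1 : c₁ = c ^ r := by
      rw [hc₁, hconjpow x₀ hx₀ y₀ hy₀ r]
      simp only [mul_assoc, mul_inv_cancel, mul_inv_cancel_left, mul_one]
      rfl
    have e2 : (y₀ * x₀ ^ r * y₀⁻¹ * (x₀ ^ r)⁻¹) ^ r = 1 :=
      hcr hy₀ (M.pow_mem hx₀ r) h.symm
    have e3 : y₀ * x₀ ^ r * y₀⁻¹ * (x₀ ^ r)⁻¹ = c₁⁻¹ := by rw [hc₁]; group
    rw [e3, e1, inv_pow, inv_eq_one, ← pow_mul] at e2
    have ho : orderOf c = q := orderOf_eq_prime (hcq x₀ hx₀ y₀ hy₀) hc1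
    have := orderOf_dvd_of_pow_eq_one e2
    rw [ho, hq.dvd_mul] at this
    exact hr (this.elim id id)
  have hAq : ∀ a b : H, a ∈ A → b ∈ A → a ^ q ^ e = 1 → b ^ q ^ e = 1 →
      (∃ k : ℕ, a = b ^ k) ∨ ∃ k : ℕ, b = a ^ k := by
    intro a b ha hb ea eb
    obtain ⟨i, -, hi⟩ := (Nat.dvd_prime_pow hq).1 (orderOf_dvd_of_pow_eq_one ea)
    obtain ⟨j, -, hj⟩ := (Nat.dvd_prime_pow hq).1 (orderOf_dvd_of_pow_eq_one eb)
    have key : ∀ a b : H, a ∈ A → b ∈ A → orderOf a ∣ orderOf b → ∃ k : ℕ, a = b ^ k := by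
      intro a b ha hb hd
      letI : CommGroup A := hcycA.commGroup
      have hset : ∀ g : A, g ^ orderOf b = 1 → g ∈ Subgroup.zpowers (⟨b, hb⟩ : A) := by
        intro g hg
        by_contra hgn
        haveI := Fintype.ofFinite A
        have hle := IsCyclic.card_pow_eq_one_le (α := A) (orderOf_pos b)
        have hsub : insert g (Finset.univ.filter fun x : A => x ∈ Subgroup.zpowers (⟨b, hb⟩ : A)) ⊆
            Finset.univ.filter fun x : A => x ^ orderOf b = 1 := by
          intro x hx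
          simp only [Finset.mem_insert, Finset.mem_filter, Finset.mem_univ, true_and] at hx ⊢
          rcases hx with rfl | hx
          · exact hg
          · have hd' := orderOf_dvd_of_mem_zpowers hx
            exact orderOf_dvd_iff_pow_eq_one.1
              (hd'.trans (Subgroup.orderOf_coe (⟨b, hb⟩ : A)).symm.dvd)
        have := (Finset.card_le_card hsub).trans hle
        rw [Finset.card_insert_of_notMem (by simpa using hgn), ← Fintype.card_subtype,
          ← Nat.card_eq_fintype_card] at this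
        rw [show Nat.card {x : A // x ∈ Subgroup.zpowers (⟨b, hb⟩ : A)} = orderOf b from by
          rw [show Nat.card {x : A // x ∈ Subgroup.zpowers (⟨b, hb⟩ : A)} =
            Nat.card ↥(Subgroup.zpowers (⟨b, hb⟩ : A)) from rfl, Nat.card_zpowers,
            Subgroup.orderOf_mk]] at this
        omega
      obtain ⟨k, hk⟩ := mem_powers_iff_mem_zpowers.2 (hset ⟨a, ha⟩ (Subtype.ext
        (orderOf_dvd_iff_pow_eq_one.1 hd)))
      exact ⟨k, (congrArg Subtype.val hk).symm⟩
    rcases le_total i j with h | h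
    · exact Or.inl (key a b ha hb (by rw [hi, hj]; exact pow_dvd_pow q h))
    · exact Or.inr (key b a hb ha (by rw [hi, hj]; exact pow_dvd_pow q h))
  obtain ⟨x, hx, y, hy, hxy, hxe, s, hs⟩ : ∃ x ∈ M, ∃ y ∈ M, x * y ≠ y * x ∧
      (x ^ q) ^ (q ^ e) = 1 ∧ ∃ s : ℕ, y ^ q = (x ^ q) ^ s := by
    rcases hAq _ _ (hpow _ (M.pow_mem hx₀ r)) (hpow _ (M.pow_mem hy₀ r)) (hrel x₀ hx₀)
      (hrel y₀ hy₀) with ⟨k, hk⟩ | ⟨k, hk⟩
    · exact ⟨_, M.pow_mem hy₀ r, _, M.pow_mem hx₀ r, Ne.symm hne1, hrel y₀ hy₀, k, hk⟩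
    · exact ⟨_, M.pow_mem hx₀ r, _, M.pow_mem hy₀ r, hne1, hrel x₀ hx₀, k, hk⟩
  set b := (x ^ s)⁻¹ with hb
  have hbM : b ∈ M := M.inv_mem (M.pow_mem hx s)
  set C := b * y * b⁻¹ * y⁻¹ with hC
  have hCA : C ∈ A := hcomm b hbM y hy
  obtain ⟨u, hu⟩ : ∃ u, u = y * b := ⟨_, rfl⟩
  have huM : u ∈ M := hu ▸ M.mul_mem hy hbM
  have hux : ¬ Commute u x := by
    intro h
    apply hxy
    have hb' : Commute b x := ((Commute.refl x).pow_left s).inv_left
    have : Commute y x := by
      have := h.mul_left (hb'.inv_left)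
      rwa [hu, mul_inv_cancel_right] at this
    exact this.eq.symm
  have hupow : ∀ n : ℕ, u ^ n = C ^ (n.choose 2) * y ^ n * b ^ n := by
    intro n
    induction n with
    | zero => simp
    | succ n ih =>
      have hcy : ∀ k : ℕ, Commute (C ^ k) (y ^ n) := fun k =>
        ((hcen C hCA y hy).pow_left k).pow_right n
      have hbn : b ^ n * y = C ^ n * y * b ^ n := hconjpow b hbM y hy n
      calc u ^ (n + 1) = C ^ (n.choose 2) * y ^ n * (b ^ n * y) * b := by
            rw [pow_succ, ih, hu]; simp only [mul_assoc]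
        _ = C ^ (n.choose 2) * (y ^ n * C ^ n) * (y * (b ^ n * b)) := by
            rw [hbn]; simp only [mul_assoc]
        _ = C ^ ((n + 1).choose 2) * y ^ (n + 1) * b ^ (n + 1) := by
            rw [← (hcy n).eq, Nat.choose_succ_succ, Nat.choose_one_right, pow_succ y, pow_succ b,
              add_comm n, pow_add]
            simp only [mul_assoc]
  have hbq : y ^ q * b ^ q = 1 := by
    rw [hs, hb, inv_pow, ← pow_mul, ← pow_mul, mul_comm q s, mul_inv_cancel]
  have huq : u ^ q = C ^ (q.choose 2) := by rw [hupow, mul_assoc, hbq, mul_one]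
  have hu1 : u ≠ 1 := fun h => hux (h ▸ Commute.one_left x)
  -- `q` is two
  have hq2 : q = 2 := by
    by_contra hne2
    have hd : q ∣ q.choose 2 := hq.dvd_choose_self two_ne_zero
      (lt_of_le_of_ne hq.two_le (Ne.symm hne2))
    obtain ⟨t, ht⟩ := hd
    rw [ht, pow_mul, hcq b hbM y hy, one_pow] at huq
    set c := x * y * x⁻¹ * y⁻¹ with hc
    have hc1 : c ≠ 1 := fun h1 => hxy (by
      calc x * y = c * (y * x) := by rw [hc]; group
        _ = y * x := by rw [h1, one_mul])
    have hfree : CfsgLib.FrobComp.IsFree (addAct H) := addAct_free H hreg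
    have hu' := CfsgLib.FrobComp.mem_zpowers_of_free hfree
      (orderOf_eq_prime (hcq x hx y hy) hc1) huq (hcen c (hcomm x hx y hy) u huM)
    obtain ⟨k, hk⟩ := hu'
    exact hux (hk ▸ ((hcen c (hcomm x hx y hy) x hx).zpow_left k))
  subst hq2
  rw [Nat.choose_self, pow_one] at huq
  have hC2 : C * C = 1 := by rw [← pow_two]; exact hcq b hbM y hy
  obtain ⟨z, hzdef⟩ : ∃ z, z = u * u := ⟨_, rfl⟩
  have hzC : z = C := by rw [hzdef, ← pow_two, huq]
  have hz2 : z * z = 1 := by rw [hzC, hC2]
  have hz1 : z ≠ 1 := by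
    intro h
    have hh : u * u = 1 := hzdef ▸ h
    exact hux (involution_central H hreg hh hu1 x).symm
  have hzA : z ∈ A := hzC ▸ hCA
  have hcent : ∀ g : H, Commute z g := fun g => (involution_central H hreg hz2 hz1 g).symm
  -- a square root of `z` commuting with `u` lies in `⟨u⟩`
  have hroot : ∀ w : H, w * w = z → Commute w u → u = w ∨ u = z * w := by
    intro w hw hwu
    have h2 : (w⁻¹ * u) * (w⁻¹ * u) = 1 := by
      calc (w⁻¹ * u) * (w⁻¹ * u) = w⁻¹ * (u * w⁻¹) * u := by simp only [mul_assoc]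
        _ = (w * w)⁻¹ * (u * u) := by rw [← (hwu.inv_left).eq]; group
        _ = 1 := by rw [hw, ← hzdef, inv_mul_cancel]
    rcases eq_one_or_eq hreg hz2 hz1 h2 with h | h
    · exact Or.inl (inv_mul_eq_one.1 h).symm
    · right
      rw [inv_mul_eq_iff_eq_mul] at h
      rw [h, (hcent w).eq]
  have hxo : x ^ (2 ^ (e + 1)) = 1 := by rw [pow_succ', pow_mul]; exact hxe
  obtain ⟨i, -, hi⟩ := (Nat.dvd_prime_pow Nat.prime_two).1 (orderOf_dvd_of_pow_eq_one hxo)
  have hx2 : x * x = z := by
    have hi2 : 2 ≤ i := by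
      by_contra hlt
      have h' : x * x = 1 := by
        rw [← pow_two]
        refine orderOf_dvd_iff_pow_eq_one.1 ?_
        rw [hi]
        exact (pow_dvd_pow 2 (show i ≤ 1 by omega)).trans (by norm_num)
      rcases eq_one_or_eq hreg hz2 hz1 h' with h | h
      · exact hux (h ▸ Commute.one_right u)
      · exact hux (h ▸ (hcent u).symm)
    have hzero : ∀ j, 2 ≤ j → j = i → j = 2 := by
      intro j hj hji
      by_contra hj3
      set w := x ^ (2 ^ (i - 2)) with hwdef
      have hwA : w ∈ A := by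
        rw [hwdef, show i - 2 = (i - 3) + 1 by omega, pow_succ', pow_mul]
        exact A.pow_mem (hpow x hx) _
      have hw4 : w * w * (w * w) = 1 := by
        rw [hwdef, ← pow_add, ← pow_add, ← orderOf_dvd_iff_pow_eq_one, hi]
        refine dvd_of_eq ?_
        calc 2 ^ i = 2 ^ (i - 2 + 2) := by rw [show i - 2 + 2 = i by omega]
          _ = _ := by ring
      have hw2 : w * w ≠ 1 := by
        intro h
        rw [hwdef, ← pow_add, ← orderOf_dvd_iff_pow_eq_one, hi, ← two_mul, ← pow_succ',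
          Nat.pow_dvd_pow_iff_le_right (by norm_num)] at h
        omega
      have hwz : w * w = z := (eq_one_or_eq hreg hz2 hz1 hw4).resolve_left hw2
      rcases hroot w hwz (hcen w hwA u huM) with h | h
      · exact hux (h ▸ hcen w hwA x hx)
      · exact hux (h ▸ hcen _ (A.mul_mem hzA hwA) x hx)
    have hi' := hzero i hi2 rfl
    subst hi'
    have h4 : x * x * (x * x) = 1 := by
      rw [← pow_two, ← pow_two, ← pow_mul, ← orderOf_dvd_iff_pow_eq_one, hi]
      norm_num
    refine (eq_one_or_eq hreg hz2 hz1 h4).resolve_left fun h => ?_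
    rw [← pow_two, ← orderOf_dvd_iff_pow_eq_one, hi] at h
    norm_num at h
  have hx4 : x ^ 4 = 1 := by
    rw [show (4 : ℕ) = 2 * 2 from rfl, pow_mul, pow_two x, hx2, pow_two, hz2]
  have hxord : orderOf x = 4 := by
    have : ¬ x ^ (2 ^ 1) = 1 := fun h => hz1 (by rw [pow_one, pow_two, hx2] at h; exact h)
    simpa using orderOf_eq_prime_pow this (by simpa using hx4)
  -- commutators with elements of `M` are in `⟨z⟩`
  have hcz : ∀ g ∈ M, ∀ h ∈ M, g * h = h * g ∨ g * h = z * (h * g) := by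
    intro g hg h hh
    have hC' : (g * h * g⁻¹ * h⁻¹) * (g * h * g⁻¹ * h⁻¹) = 1 := by
      rw [← pow_two]; exact hcq g hg h hh
    rcases eq_one_or_eq hreg hz2 hz1 hC' with h1 | h1
    · left
      calc g * h = g * h * g⁻¹ * h⁻¹ * (h * g) := by group
        _ = h * g := by rw [h1, one_mul]
    · right
      calc g * h = g * h * g⁻¹ * h⁻¹ * (h * g) := by group
        _ = z * (h * g) := by rw [h1]
  have huxz : u * x = z * (x * u) := (hcz u huM x hx).resolve_left hux
  have hinv : u * x = x⁻¹ * u := by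
    have : x⁻¹ = z * x := inv_eq_of_mul_eq_one_left (by rw [mul_assoc, hx2, hz2])
    rw [huxz, this, mul_assoc]
  have hu2 : u * u = x ^ 2 := by rw [pow_two, hx2, hzdef]
  have hinj := quatHom_injective hx4 hu2 hinv hxord hux
  set φ := quatHom hx4 hu2 hinv
  have hA4 : ∀ a ∈ A, a ^ 4 = 1 → a = 1 ∨ a = z := by
    intro a ha h4
    have hsq : (a * a) * (a * a) = 1 := by
      rw [← pow_two, ← pow_two, ← pow_mul]; exact h4
    rcases eq_one_or_eq hreg hz2 hz1 hsq with h | h
    · exact eq_one_or_eq hreg hz2 hz1 h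
    · exfalso
      rcases hroot a h (hcen a ha u huM) with e | e
      · exact hux (e ▸ hcen a ha x hx)
      · exact hux (e ▸ hcen _ (A.mul_mem hzA ha) x hx)
  refine ⟨rfl, z, x, u, hz2, hz1, hx, huM, hx2, hzdef.symm, hux, hzA, hA4, φ.range, ?_, ?_, ?_, ?_, ?_⟩
  · rw [← Nat.card_congr (MonoidHom.ofInjective hinj).toEquiv, Nat.card_eq_fintype_card,
      QuaternionGroup.card]
  · exact ⟨.a 1, pow_one x⟩
  · exact ⟨.xa 0, show u * x ^ (0 : ZMod (2 * 2)).val = u by simp⟩
  · exact ⟨(MonoidHom.ofInjective hinj).symm⟩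
  · intro g
    constructor
    · rintro ⟨t, rfl⟩
      refine ⟨?_, ?_⟩
      · rcases t with i | i
        · exact M.pow_mem hx _
        · exact M.mul_mem huM (M.pow_mem hx _)
      · rw [← map_pow, show t ^ 4 = 1 from by revert t; decide, map_one]
    · rintro ⟨hgM, hg4⟩
      -- correct `g` by an element of `φ.range`
      have hz' : z ∈ φ.range := ⟨.a 2, show x ^ (2 : ZMod (2 * 2)).val = z by
        rw [show (2 : ZMod (2 * 2)).val = 2 from rfl, pow_two, hx2]⟩
      have hxR : x ∈ φ.range := ⟨.a 1, pow_one x⟩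
      have huR : u ∈ φ.range := ⟨.xa 0, show u * x ^ (0 : ZMod (2 * 2)).val = u by simp⟩
      -- elements commuting with `x` and `u`
      have hboth : ∀ g ∈ M, g ^ 4 = 1 → Commute g x → Commute g u → g = 1 ∨ g = z := by
        intro g hg h4 hgx hgu
        have hsq : (g * g) * (g * g) = 1 := by
          rw [← pow_two, ← pow_two, ← pow_mul]; exact h4
        rcases eq_one_or_eq hreg hz2 hz1 hsq with h | h
        · exact eq_one_or_eq hreg hz2 hz1 h
        · exfalso
          rcases hroot g h hgu with e | e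
          · exact hux (e ▸ hgx)
          · exact hux (e ▸ ((hcent x).mul_left hgx))
      have hg4' : ∀ h ∈ φ.range, h ∈ M → (g * h) ^ 4 = 1 := by
        intro h hh hhM
        obtain ⟨t, rfl⟩ := hh
        have hh4 : φ t ^ 4 = 1 := by
          rw [← map_pow, show t ^ 4 = 1 from by clear hhM; revert t; decide, map_one]
        rcases hcz (φ t) hhM g hgM with e | e
        · rw [(show Commute g (φ t) from e.symm).mul_pow, hg4, hh4, one_mul]
        · have hzp : Commute z (g * g * (φ t * φ t)) := hcent _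
          have e2 : (g * φ t) * (g * φ t) = z * (g * g * (φ t * φ t)) := by
            calc (g * φ t) * (g * φ t) = g * (φ t * g) * φ t := by group
              _ = g * z * (g * φ t) * φ t := by rw [e]; group
              _ = z * g * (g * φ t) * φ t := by rw [(hcent g).eq]
              _ = z * (g * g * (φ t * φ t)) := by group
          have hgg : (g * g) * (g * g) = 1 := by rw [← pow_two, ← pow_two, ← pow_mul]; exact hg4
          have htt : (φ t * φ t) * (φ t * φ t) = 1 := by
            rw [← pow_two, ← pow_two, ← pow_mul]; exact hh4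
          have hc' : Commute (g * g) (φ t * φ t) := by
            rcases eq_one_or_eq hreg hz2 hz1 hgg with h | h <;> rw [h]
            · exact Commute.one_left _
            · exact hcent _
          calc (g * φ t) ^ 4 = ((g * φ t) * (g * φ t)) * ((g * φ t) * (g * φ t)) := by
                rw [show (4 : ℕ) = 2 * 2 from rfl, pow_mul, pow_two, pow_two]
            _ = (z * z) * ((g * g * (φ t * φ t)) * (g * g * (φ t * φ t))) := by
                rw [e2]; exact hzp.symm.mul_mul_mul_comm _ _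
            _ = 1 := by rw [hz2, one_mul, hc'.symm.mul_mul_mul_comm, hgg, htt, one_mul]
      have hfix : ∀ h ∈ φ.range, h ∈ M → Commute (g * h) x → Commute (g * h) u → g ∈ φ.range := by
        intro h hh hhM c1 c2
        rcases hboth _ (M.mul_mem hgM hhM) (hg4' h hh hhM) c1 c2 with e | e
        · rw [eq_inv_of_mul_eq_one_left e]; exact φ.range.inv_mem hh
        · rw [show g = z * h⁻¹ by rw [← e]; group]
          exact φ.range.mul_mem hz' (φ.range.inv_mem hh)
      -- `x` anticommutes with `u`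
      have hxu : x * u = z * (u * x) := by
        rw [huxz, ← mul_assoc z z, hz2, one_mul]
      have twist : ∀ {a b c : H}, a * c = z * (c * a) → b * c = z * (c * b) →
          Commute (a * b) c := by
        intro a b c ha hb
        show a * b * c = c * (a * b)
        calc a * b * c = a * (b * c) := mul_assoc _ _ _
          _ = a * z * (c * b) := by rw [hb, mul_assoc]
          _ = z * (a * c) * b := by rw [← (hcent a).eq]; group
          _ = (z * z) * (c * a) * b := by rw [ha]; group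
          _ = c * (a * b) := by rw [hz2, one_mul, mul_assoc]
      rcases hcz g hgM x hx with hgx | hgx <;> rcases hcz g hgM u huM with hgu | hgu
      · exact hfix 1 φ.range.one_mem M.one_mem (by rw [mul_one]; exact hgx) (by rw [mul_one]; exact hgu)
      · exact hfix x hxR hx ((show Commute g x from hgx).mul_left (Commute.refl x))
          (twist hgu hxu)
      · exact hfix u huR huM (twist hgx huxz) ((show Commute g u from hgu).mul_left (Commute.refl u))
      · refine hfix (u * x) (φ.range.mul_mem huR hxR) (M.mul_mem huM hx) ?_ ?_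
        · rw [← mul_assoc]
          exact (twist hgx huxz).mul_left (Commute.refl x)
        · rw [show g * (u * x) = g * x * (x⁻¹ * (u * x)) by group, hinv]
          refine (twist hgu hxu).mul_left ?_
          rw [show x⁻¹ * (x⁻¹ * u) = (x * x)⁻¹ * u by group, hx2]
          exact ((hcent u).inv_left).mul_left (Commute.refl u)

end CfsgLib.Perm.RegularLinear
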