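import Mathlib
import Cfsg.Agent.Perm.RegularLinear
import Cfsg.Agent.Perm.SLTwoFive

/-!
Non-solvable linear groups regular on the non-zero vectors: consequences of a normal `SL(2,5)`.
-/

namespace CfsgLib.Perm.RegularLinear


variable {p : ℕ} [Fact p.Prime] {V : Type*} [AddCommGroup V] [Module (ZMod p) V] [Finite V]
  {H : Subgroup (V ≃ₗ[ZMod p] V)}
  (hreg : ∀ v w : V, v ≠ 0 → w ≠ 0 → ∃! h : H, (h : V ≃ₗ[ZMod p] V) v = w)

include hreg

/-- The common centraliser of a maximal normal abelian subgroup and of a quaternion pair. -/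
theorem centralizer_inf_eq [Nontrivial V] {A : Subgroup H} [A.Normal] [IsMulCommutative A]
    (hAmax : ∀ B : Subgroup H, B.Normal → IsMulCommutative B → A ≤ B → B = A)
    {N : Subgroup H} [N.Normal] (hNA : N ≤ Subgroup.centralizer (A : Set H))
    {x u : H} (hx : x ∈ N) (hu : u ∈ N) (hxu : x * x = u * u) (hz1 : x * x ≠ 1)
    (hz2 : (x * x) * (x * x) = 1) (hne : ¬ Commute u x) :
    Subgroup.centralizer (A : Set H) ⊓ Subgroup.centralizer (N : Set H) = A := by
  classical
  haveI := finite_group H hreg
  set K := Subgroup.centralizer (A : Set H) ⊓ Subgroup.centralizer (N : Set H) with hK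
  haveI : K.Normal := by rw [hK]; infer_instance
  have hAK : A ≤ K := fun a ha => ⟨Subgroup.mem_centralizer_iff.2 fun b hb =>
      congrArg Subtype.val (mul_comm' (⟨b, hb⟩ : A) ⟨a, ha⟩),
    Subgroup.mem_centralizer_iff.2 fun g hg =>
      (Subgroup.mem_centralizer_iff.1 (hNA hg) a ha).symm⟩
  have hfree := addAct_free H hreg
  have hsq : ∀ w ∈ K, (w * w) * (w * w) = 1 → w * w = 1 := by
    intro w hw h4
    by_contra h2
    have hwz : w * w = x * x := involution_eq H hreg h4 h2 hz2 hz1
    have hcw : ∀ v ∈ N, Commute w v := fun v hv =>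
      (Subgroup.mem_centralizer_iff.1 hw.2 v hv).symm
    have hroot : ∀ v ∈ N, v * v = x * x → v = w ∨ v = (x * x) * w := by
      intro v hv hvz
      have e : (w⁻¹ * v) * (w⁻¹ * v) = 1 := by
        calc (w⁻¹ * v) * (w⁻¹ * v) = w⁻¹ * (v * w⁻¹) * v := by simp only [mul_assoc]
          _ = (w * w)⁻¹ * (v * v) := by rw [← ((hcw v hv).inv_left).eq]; group
          _ = 1 := by rw [hwz, hvz, inv_mul_cancel]
      by_cases h : w⁻¹ * v = 1
      · exact Or.inl (inv_mul_eq_one.1 h).symm
      · right
        have := involution_eq H hreg e h hz2 hz1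
        rw [inv_mul_eq_iff_eq_mul] at this
        rw [this, involution_central H hreg hz2 hz1 w]
    have hc : Commute (x * x) w := (involution_central H hreg hz2 hz1 w).symm
    apply hne
    rcases hroot x hx rfl with e1 | e1 <;> rcases hroot u hu hxu.symm with e2 | e2
    · rw [e1, e2]
    · rw [e2, e1]; exact (hwz ▸ hc).mul_left (Commute.refl w)
    · rw [e2]
      nth_rewrite 1 [e1]
      exact (hc.symm.mul_right (Commute.refl w))
    · rw [e2, ← e1]
  haveI : IsZGroup K := by
    refine ⟨fun q hq P => ?_⟩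
    haveI := Fact.mk hq
    have hP : IsPGroup q ((P : Subgroup K).map K.subtype) := P.isPGroup'.map _
    have e := (P : Subgroup K).equivMapOfInjective K.subtype K.subtype_injective
    suffices IsCyclic ((P : Subgroup K).map K.subtype) from
      isCyclic_of_surjective _ e.symm.surjective
    by_cases hq2 : q = 2
    · subst hq2
      refine CfsgLib.FrobComp.isCyclic_of_uniqueOrderP hP
        (CfsgLib.FrobComp.uniqueOrderP_of_free hfree hP) (Or.inl ?_)
      have h2 : ∀ g : (P : Subgroup K).map K.subtype, g * g = 1 := by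
        intro g
        by_contra hg
        obtain ⟨i, hi⟩ := IsPGroup.iff_orderOf.1 hP g
        rcases i with _ | _ | i
        · rw [pow_zero, orderOf_eq_one_iff] at hi
          exact hg (by rw [hi, one_mul])
        · have hgo := pow_orderOf_eq_one g
          rw [hi] at hgo
          exact hg (by rw [← pow_two]; simpa using hgo)
        · set w := g ^ (2 ^ i) with hw
          have hw2 : w * w ≠ 1 := by
            rw [hw, ← pow_add, Ne, ← orderOf_dvd_iff_pow_eq_one, hi, ← two_mul, ← pow_succ',
              Nat.pow_dvd_pow_iff_le_right (by norm_num)]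
            omega
          have hw4 : (w * w) * (w * w) = 1 := by
            rw [hw, ← pow_add, ← pow_add, ← orderOf_dvd_iff_pow_eq_one, hi]
            exact dvd_of_eq (by ring)
          have hwK : ((w : (P : Subgroup K).map K.subtype) : H) ∈ K := by
            obtain ⟨k, -, hk⟩ := w.2
            rw [← hk]
            exact k.2
          exact hw2 (Subtype.ext (hsq (w : H) hwK (congrArg Subtype.val hw4)))
      intro a b
      have hinv : ∀ g : (P : Subgroup K).map K.subtype, g⁻¹ = g := fun g =>
        inv_eq_of_mul_eq_one_left (h2 g)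
      calc a * b = (a * b)⁻¹ := (hinv _).symm
        _ = b⁻¹ * a⁻¹ := mul_inv_rev a b
        _ = b * a := by rw [hinv, hinv]
    · exact CfsgLib.FrobComp.isCyclic_of_free_of_odd hfree hq2 hP
  -- `K` is nilpotent, hence cyclic
  let D := (commutator K).map K.subtype
  haveI hDn : D.Normal := ConjAct.normal_of_characteristic_of_normal
  have hDK : D ≤ K := Subgroup.map_subtype_le _
  haveI : IsCyclic (commutator K) := IsZGroup.isCyclic_commutator K
  haveI : IsCyclic D := isCyclic_of_surjective
    ((commutator K).equivMapOfInjective K.subtype K.subtype_injective)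
    (MulEquiv.surjective _)
  have hDA : D ≤ A := by
    have hAD : IsMulCommutative (A ⊔ D : Subgroup H) := by
      constructor
      constructor
      rintro ⟨g, hg⟩ ⟨g', hg'⟩
      apply Subtype.ext
      obtain ⟨a, ha, c, hc, rfl⟩ := Subgroup.mem_sup_of_normal_right.1 hg
      obtain ⟨a', ha', c', hc', rfl⟩ := Subgroup.mem_sup_of_normal_right.1 hg'
      have haa : Commute a a' := congrArg Subtype.val (mul_comm' (⟨a, ha⟩ : A) ⟨a', ha'⟩)
      have hcc : Commute c c' := congrArg Subtype.val (mul_comm' (⟨c, hc⟩ : D) ⟨c', hc'⟩)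
      have hac : Commute a c' := Subgroup.mem_centralizer_iff.1 (hDK hc').1 a ha
      have hca : Commute c a' := (Subgroup.mem_centralizer_iff.1 (hDK hc).1 a' ha').symm
      exact ((haa.mul_right hac).mul_left (hca.mul_right hcc))
    exact le_sup_right.trans (hAmax _ inferInstance hAD le_sup_left).le
  haveI : Group.IsNilpotent K := by
    rw [Subgroup.nilpotent_iff_lowerCentralSeries]
    refine ⟨2, ?_⟩
    rw [eq_bot_iff]
    refine (Subgroup.commutator_le).2 fun g hg k _ => ?_
    have hgA : (g : H) ∈ A := hDA ⟨g, by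
      rw [Subgroup.top_lowerCentralSeries_one] at hg
      exact hg, rfl⟩
    rw [Subgroup.mem_bot, commutatorElement_eq_one_iff_mul_comm]
    exact Subtype.ext (Subgroup.mem_centralizer_iff.1 k.2.1 g hgA)
  haveI : IsCyclic K := inferInstance
  exact hAmax K inferInstance inferInstance hAK

/-- The index of the centraliser of a normal `SL(2,5)`. -/
theorem relIndex_centralizer_dvd {N : Subgroup H} [N.Normal] (e : N ≃* SLFive)
    (hperf : commutator N = ⊤) (C : Subgroup H) :
    (Subgroup.centralizer (N : Set H)).relIndex C ∣ 120 := by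
  haveI := finite_group H hreg
  have hperf' : commutator SLFive = ⊤ := by
    rw [commutator_def, ← Subgroup.map_top_of_surjective (e : N →* SLFive) e.surjective,
      ← Subgroup.map_commutator, ← commutator_def, hperf]
  obtain ⟨e'⟩ := slFive_quot
  let f : C →* MulAut (alternatingGroup (Fin 5)) :=
    (MulAut.congr e').toMonoidHom.comp ((autQuot SLFive).comp
      ((MulAut.congr e).toMonoidHom.comp ((MulAut.conjNormal (H := N)).comp C.subtype)))
  have hker : f.ker = (Subgroup.centralizer (N : Set H)).subgroupOf C := by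
    ext g
    rw [MonoidHom.mem_ker, Subgroup.mem_subgroupOf, Subgroup.mem_centralizer_iff]
    constructor
    · intro hg n hn
      have h1 : autQuot SLFive (MulAut.congr e (MulAut.conjNormal (g : H))) = 1 :=
        (MulAut.congr e').injective (hg.trans (map_one (MulAut.congr e')).symm)
      have h2 : MulAut.conjNormal (H := N) (g : H) = 1 :=
        (MulAut.congr e).injective ((eq_one_of_autQuot hperf' h1).trans
          (map_one (MulAut.congr e)).symm)
      have h3 := congrArg (fun φ : MulAut N => ((φ ⟨n, hn⟩ : N) : H)) h2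
      simp only [MulAut.conjNormal_apply, MulAut.one_apply] at h3
      exact (mul_inv_eq_iff_eq_mul.1 h3).symm
    · intro hg
      have h2 : MulAut.conjNormal (H := N) (g : H) = 1 := MulEquiv.ext fun n => Subtype.ext (by
        rw [MulAut.conjNormal_apply, MulAut.one_apply, ← hg n n.2, mul_inv_cancel_right])
      show MulAut.congr e' (autQuot SLFive (MulAut.congr e (MulAut.conjNormal (g : H)))) = 1
      rw [h2, map_one, map_one, map_one]
  rw [Subgroup.relIndex, ← hker, Subgroup.index_ker, ← card_aut_altFive]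
  exact Subgroup.card_subgroup_dvd_card _

/-- The insoluble case. -/
theorem slFive_structure [Nontrivial V]
    (hI : ∀ A : Subgroup H, A.Normal → IsCyclic A → ∃ W : Submodule (ZMod p) V,
      W ≠ ⊥ ∧ W ≠ ⊤ ∧ ∀ a ∈ A, ∀ v ∈ W, ((a : H) : V ≃ₗ[ZMod p] V) v ∈ W)
    {A : Subgroup H} [A.Normal] [IsMulCommutative A]
    (hAmax : ∀ B : Subgroup H, B.Normal → IsMulCommutative B → A ≤ B → B = A)
    {N : Subgroup H} [N.Normal] (hNA : N ≤ Subgroup.centralizer (A : Set H))
    (e : N ≃* SLFive) (hperf : commutator N = ⊤) :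
    (Nat.card V = 121 ∧ Nonempty (H ≃* SLFive)) ∨
      (Nat.card V = 841 ∧ Nonempty (H ≃* SLFive × Multiplicative (ZMod 7))) ∨
      (Nat.card V = 3481 ∧ Nonempty (H ≃* SLFive × Multiplicative (ZMod 29))) := by
  classical
  haveI := finite_group H hreg
  have hfree := addAct_free H hreg
  obtain ⟨x', u', hxu', hz1', hz2', hne', g', hg3', hg1'⟩ := slFive_quat
  set x : H := ((e.symm x' : N) : H)
  set u : H := ((e.symm u' : N) : H)
  set g : H := ((e.symm g' : N) : H)
  have hinj : Function.Injective (fun t : SLFive => ((e.symm t : N) : H)) :=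
    Subtype.val_injective.comp e.symm.injective
  have hmul : ∀ s t : SLFive, ((e.symm (s * t) : N) : H) = (e.symm s : N) * (e.symm t : N) :=
    fun s t => by rw [map_mul]; rfl
  have hone : ((e.symm 1 : N) : H) = 1 := by rw [map_one]; rfl
  have hxu : x * x = u * u := by rw [← hmul, ← hmul, hxu']
  have hz1 : x * x ≠ 1 := fun h => hz1' (hinj (((hmul _ _).trans h).trans hone.symm))
  have hz2 : (x * x) * (x * x) = 1 := by rw [← hmul, ← hmul, hz2', hone]
  have hne : ¬ Commute u x := fun h => hne' (hinj ((hmul _ _).trans (h.eq.trans (hmul _ _).symm)))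
  have hg3 : g ^ 3 = 1 := by
    rw [show g = (((e.symm g' : N)) : H) from rfl, ← Subgroup.coe_pow, ← map_pow, hg3', hone]
  have hg1 : g ≠ 1 := fun h => hg1' (hinj (h.trans hone.symm))
  have hgN : g ∈ N := (e.symm g').2
  have hK := centralizer_inf_eq hreg hAmax hNA (e.symm x').2 (e.symm u').2 hxu hz1 hz2 hne
  have hp2 := char_ne_two_of_involution H hreg hz2 hz1
  have hleA : A ≤ Subgroup.centralizer (A : Set H) := fun a ha =>
    Subgroup.mem_centralizer_iff.2 fun b hb =>
      congrArg Subtype.val (mul_comm' (⟨b, hb⟩ : A) ⟨a, ha⟩)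
  have hzA : x * x ∈ A := by
    rw [← hK]
    exact ⟨Subgroup.mem_centralizer_iff.2 fun b _ => involution_central H hreg hz2 hz1 b,
      Subgroup.mem_centralizer_iff.2 fun b _ => involution_central H hreg hz2 hz1 b⟩
  -- the intersection of `A` and `N`
  have hAN : Nat.card (A ⊓ N : Subgroup H) = 2 := by
    apply le_antisymm
    · let f : (A ⊓ N : Subgroup H) → Subgroup.center SLFive := fun a =>
        ⟨e ⟨a, a.2.2⟩, Subgroup.mem_center_iff.2 fun t => by
          apply e.symm.injective
          apply Subtype.ext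
          rw [map_mul, map_mul, e.symm_apply_apply]
          exact (Subgroup.mem_centralizer_iff.1 (hNA (e.symm t).2) a a.2.1).symm⟩
      have hf : Function.Injective f := fun a b h => Subtype.ext (congrArg
        (fun t : N => (t : H)) (e.injective (congrArg Subtype.val h)))
      exact (Nat.card_le_card_of_injective f hf).trans card_center_slFive.le
    · have h2 : orderOf (x * x) = 2 := orderOf_eq_prime (by rw [pow_two, hz2]) hz1
      rw [← h2, ← Nat.card_zpowers]
      exact Subgroup.card_le_of_le (Subgroup.zpowers_le.2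
        ⟨hzA, N.mul_mem (e.symm x').2 (e.symm x').2⟩)
  have hN : Nat.card N = 120 := (Nat.card_congr e.toEquiv).trans card_slFive
  obtain ⟨-, W, -, ⟨hW, -, -⟩, hdvd, hdim, hidx⟩ := setup H hreg hI A inferInstance
  have hCH := Subgroup.card_mul_index (Subgroup.centralizer (A : Set H))
  set C := Subgroup.centralizer (A : Set H) with hC
  -- the quotient
  have hk120 : A.relIndex C ∣ 120 := by
    have h := relIndex_centralizer_dvd hreg e hperf C
    rw [← Subgroup.inf_relIndex_left, hC, hK] at h
    exact h
  have hk60 : 60 ∣ A.relIndex C := by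
    have h1 : A.relIndex N = 60 := by
      have := Subgroup.card_mul_index (A.subgroupOf N)
      rw [show A.subgroupOf N = (A ⊓ N).subgroupOf N from
        (Subgroup.inf_subgroupOf_right A N).symm,
        Nat.card_congr (Subgroup.subgroupOfEquivOfLe (inf_le_right : A ⊓ N ≤ N)).toEquiv, hAN,
        hN, Subgroup.inf_subgroupOf_right] at this
      rw [Subgroup.relIndex]
      omega
    rw [← h1, ← Subgroup.relIndex_sup_right,
      ← Subgroup.relIndex_mul_relIndex A (N ⊔ A) C le_sup_right (sup_le hNA hleA)]
    exact dvd_mul_right _ _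
  have hk := Subgroup.card_mul_index (A.subgroupOf C)
  rw [Nat.card_congr (Subgroup.subgroupOfEquivOfLe hleA).toEquiv] at hk
  change Nat.card A * A.relIndex C = Nat.card C at hk
  rw [← hk] at hCH
  -- arithmetic of `|A|`
  have h2A : 2 ∣ Nat.card A := hAN ▸ Subgroup.card_dvd_of_le inf_le_left
  have h3A : ¬ 3 ∣ Nat.card A := by
    intro h
    haveI := Fact.mk Nat.prime_three
    obtain ⟨⟨a, ha⟩, hao⟩ := exists_prime_orderOf_dvd_card' 3 h
    rw [Subgroup.orderOf_mk] at hao
    have hmem : a ∈ Subgroup.zpowers g := CfsgLib.FrobComp.mem_zpowers_of_free hfree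
      (orderOf_eq_prime hg3 hg1) (by rw [← hao, pow_orderOf_eq_one])
      (Subgroup.mem_centralizer_iff.1 (hNA hgN) a ha).symm
    have h' : orderOf (⟨a, Subgroup.mem_inf.2 ⟨ha, Subgroup.zpowers_le.2 hgN hmem⟩⟩ : (A ⊓ N : Subgroup H)) ∣
        Nat.card (A ⊓ N : Subgroup H) := orderOf_dvd_natCard _
    rw [Subgroup.orderOf_mk, hao, hAN] at h'
    norm_num at h'
  have h5A : ¬ 5 ∣ Nat.card A := by
    intro h
    haveI := Fact.mk (show Nat.Prime 5 by norm_num)
    obtain ⟨⟨a, ha⟩, hao⟩ := exists_prime_orderOf_dvd_card' 5 h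
    rw [Subgroup.orderOf_mk] at hao
    obtain ⟨⟨b, hb⟩, hbo⟩ := exists_prime_orderOf_dvd_card' (G := N) 5 (by rw [hN]; norm_num)
    rw [Subgroup.orderOf_mk] at hbo
    have hmem : a ∈ Subgroup.zpowers b := CfsgLib.FrobComp.mem_zpowers_of_free hfree hbo
      (by rw [← hao, pow_orderOf_eq_one]) (Subgroup.mem_centralizer_iff.1 (hNA hb) a ha).symm
    have h' : orderOf (⟨a, Subgroup.mem_inf.2 ⟨ha, Subgroup.zpowers_le.2 hb hmem⟩⟩ : (A ⊓ N : Subgroup H)) ∣
        Nat.card (A ⊓ N : Subgroup H) := orderOf_dvd_natCard _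
    rw [Subgroup.orderOf_mk, hao, hAN] at h'
    norm_num at h'
  have hH := card_add_one H hreg
  rw [Module.natCard_eq_pow_finrank (K := ZMod p) (V := V), Nat.card_zmod] at hH ⊢
  set d := Module.finrank (ZMod p) W with hd
  set n := Module.finrank (ZMod p) V with hn
  have hd1 : 1 ≤ d := Submodule.one_le_finrank_iff.2 hW
  set j := C.index with hj
  have hj0 : 0 < j := Nat.pos_of_ne_zero Subgroup.index_ne_zero_of_finite
  have hA0 : 0 < Nat.card A := Nat.card_pos
  set a := Nat.card A with ha
  set k := A.relIndex C with hkdef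
  have hpP : p.Prime := Fact.out
  have h120 : 120 ∣ a * k * j := by
    rw [hCH, ← hN]; exact Subgroup.card_subgroup_dvd_card N
  clear_value d n j a k
  have hk_cases : k = 60 ∨ k = 120 := by
    obtain ⟨c, hc⟩ := hk60
    have := Nat.le_of_dvd (by norm_num) hk120
    have : k ≠ 0 := fun h => by rw [h] at hk120; norm_num at hk120
    omega
  have hp7 : 7 ≤ p := by
    have hcop : ¬ p ∣ Nat.card H := fun h => by
      have h' : p ∣ p ^ n := dvd_pow_self p (by omega)
      rw [← hH] at h'
      exact hpP.one_lt.ne' (Nat.dvd_one.1 ((Nat.dvd_add_right h).1 h'))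
    rw [← hCH] at hcop
    have h2 := hpP.two_le
    by_contra hlt
    apply hcop
    interval_cases p
    · exact absurd rfl hp2
    · exact (show 3 ∣ 120 by norm_num).trans h120
    · exact absurd hpP (by norm_num)
    · exact (show 5 ∣ 120 by norm_num).trans h120
    · exact absurd hpP (by norm_num)
  have hpd1 : 1 < p ^ d := Nat.one_lt_pow (by omega) (by omega)
  have hbound : p ^ n ≤ (p ^ d - 1) * (120 * d) + 1 := by
    rw [← hH, ← hCH, mul_assoc]
    exact Nat.add_le_add_right (Nat.mul_le_mul (Nat.le_of_dvd (by omega) hdvd)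
      (Nat.mul_le_mul (Nat.le_of_dvd (by norm_num) hk120) hidx)) 1
  have hnlt : ∀ B, (p ^ d - 1) * (120 * d) + 1 < p ^ B → n < B := by
    intro B hB
    by_contra h
    have : p ^ B ≤ p ^ n := Nat.pow_le_pow_right (by omega) (by omega)
    omega
  have hpd : p ^ d + 1 ≤ 120 * d := by
    have h2 : p ^ d * p ^ d ≤ p ^ n := by
      rw [← pow_add]; exact Nat.pow_le_pow_right (by omega) (by omega)
    obtain ⟨m, hm⟩ : ∃ m, p ^ d = m + 2 := ⟨p ^ d - 2, by omega⟩
    rw [hm] at h2 hbound ⊢
    rw [show m + 2 - 1 = m + 1 from rfl] at hbound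
    nlinarith
  have h7d : ∀ m, 120 * (m + 4) < 7 ^ (m + 4) := by
    intro m
    induction m with
    | zero => norm_num
    | succ m ih => rw [show m + 1 + 4 = (m + 4) + 1 from rfl, pow_succ]; omega
  have hd3 : d ≤ 3 := by
    by_contra h
    have h1 := h7d (d - 4)
    rw [show d - 4 + 4 = d by omega] at h1
    have h2 : 7 ^ d ≤ p ^ d := Nat.pow_le_pow_left hp7 d
    omega
  -- a prime at least seven and larger than `d` dividing the order divides `|A|`
  have hbad : ∀ q : ℕ, q.Prime → 7 ≤ q → d < q → q ∣ p ^ n - 1 → q ∣ p ^ d - 1 := by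
    intro q hq h7 hqd hqn
    rw [show p ^ n - 1 = Nat.card H by omega, ← hCH] at hqn
    rcases (Nat.Prime.dvd_mul hq).1 hqn with h | h
    · rcases (Nat.Prime.dvd_mul hq).1 h with h | h
      · exact h.trans hdvd
      · exfalso
        have h' := h.trans hk120
        rw [show (120 : ℕ) = 2 ^ 3 * 3 * 5 from rfl, hq.dvd_mul, hq.dvd_mul] at h'
        rcases h' with (h' | h') | h'
        · have := Nat.le_of_dvd (by norm_num) (hq.dvd_of_dvd_pow h'); omega
        · have := Nat.le_of_dvd (by norm_num) h'; omega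
        · have := Nat.le_of_dvd (by norm_num) h'; omega
    · exact absurd (Nat.le_of_dvd hj0 h) (by omega)
  interval_cases d
  · -- `d = 1`
    rw [pow_one] at hdvd hpd hbound hnlt hbad
    have hj1 : j = 1 := by omega
    rw [hj1, mul_one] at hCH
    have hn2 : n = 2 := by
      by_contra hne2
      have h3 : p ^ 3 ≤ p ^ n := Nat.pow_le_pow_right (by omega) (by omega)
      have hp11 : p < 11 := by
        by_contra h
        have : (p - 1) * (120 * 1) + 1 < p ^ 3 := by
          have : 11 * 11 * p ≤ p ^ 3 := by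
            rw [pow_succ, pow_two]
            exact Nat.mul_le_mul (Nat.mul_le_mul (by omega) (by omega)) le_rfl
          omega
        omega
      obtain rfl : p = 7 := by
        interval_cases p <;> first | rfl | (norm_num at hpP; done)
      have := hnlt 4 (by norm_num)
      obtain rfl : n = 3 := by omega
      have h5 : 5 ∣ Nat.card H := ((show 5 ∣ 120 by norm_num).trans (dvd_of_eq hN.symm)).trans
        (Subgroup.card_subgroup_dvd_card N)
      norm_num at hH
      omega
    subst hn2
    obtain ⟨m, hm⟩ := hdvd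
    have hm1 : k = m * (p + 1) := by
      have hsq : a * k + 1 = p ^ 2 := by rw [hCH]; exact hH
      obtain ⟨q, rfl⟩ : ∃ q, p = q + 1 := ⟨p - 1, by omega⟩
      rw [Nat.add_sub_cancel] at hm
      subst hm
      apply Nat.eq_of_mul_eq_mul_left hA0
      nlinarith
    have hm0 : 0 < m := Nat.pos_of_ne_zero fun h => by rw [h, mul_zero] at hm; omega
    have hpm : p + 1 ∣ 120 := (Dvd.intro_left m hm1.symm).trans hk120
    have key : k = 60 ∧ ((p = 11 ∧ a = 2) ∨ (p = 29 ∧ a = 14) ∨ (p = 59 ∧ a = 58)) := by
      have hp119 : p ≤ 119 := by omega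
      have hdiv : p + 1 ∈ Nat.divisors 120 := Nat.mem_divisors.2 ⟨hpm, by norm_num⟩
      rw [show Nat.divisors 120 = {1, 2, 3, 4, 5, 6, 8, 10, 12, 15, 20, 24, 30, 40, 60, 120} by
        decide] at hdiv
      simp only [Finset.mem_insert, Finset.mem_singleton] at hdiv
      rcases hdiv with h | h | h | h | h | h | h | h | h | h | h | h | h | h | h | h <;>
        obtain rfl : p = _ := Nat.eq_sub_of_add_eq h <;>
        simp only [Nat.reduceSub, Nat.reduceAdd] at * <;>
        first
          | omega
          | (norm_num at hpP; done)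
          | skip
      all_goals
        rcases hk_cases with rfl | rfl <;>
          (obtain ⟨c, rfl⟩ := h2A; rcases (show m = 1 ∨ m = 2 ∨ m = 3 ∨ m = 4 ∨ m = 5 ∨ m = 6 ∨
            m = 7 ∨ m = 8 ∨ m = 9 ∨ m = 10 ∨ m = 11 ∨ m = 12 ∨ m = 13 ∨ m = 14 ∨ m = 15 by omega)
            with rfl | rfl | rfl | rfl | rfl | rfl | rfl | rfl | rfl | rfl | rfl | rfl | rfl | rfl | rfl <;>
            first | omega | (simp only [true_and]; omega))
    obtain ⟨hk60', hpa⟩ := key
    obtain ⟨b, hb⟩ := h2A
    have hbodd : Nat.Coprime 120 b := by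
      rcases hpa with ⟨-, h⟩ | ⟨-, h⟩ | ⟨-, h⟩ <;> rw [h] at hb
      · obtain rfl : b = 1 := by omega
        norm_num
      · obtain rfl : b = 7 := by omega
        norm_num
      · obtain rfl : b = 29 := by omega
        norm_num
    haveI : IsCyclic A := isCyclic_of_comm H hreg A
    obtain ⟨t, ht⟩ := IsCyclic.exists_generator (α := A)
    have hto : orderOf t = a := by rw [ha, orderOf_eq_card_of_forall_mem_zpowers ht]
    set B := Subgroup.zpowers ((t : H) ^ 2) with hBdef
    have hb0 : 0 < b := by omega
    have hBcard : Nat.card B = b := by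
      rw [hBdef, Nat.card_zpowers, orderOf_pow' _ two_ne_zero, Subgroup.orderOf_coe, hto, hb,
        Nat.gcd_eq_right (Dvd.intro b rfl), Nat.mul_div_cancel_left b two_pos]
    have hBA : B ≤ A := Subgroup.zpowers_le.2 (A.pow_mem t.2 2)
    have hcom : ∀ s ∈ N, ∀ c ∈ B, Commute s c := fun s hs c hc =>
      (Subgroup.mem_centralizer_iff.1 (hNA hs) c (hBA hc)).symm
    have hdisj : Disjoint N B := by
      rw [disjoint_iff, ← Subgroup.card_eq_one]
      have h1 := Subgroup.card_dvd_of_le (inf_le_left : N ⊓ B ≤ N)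
      have h2 := Subgroup.card_dvd_of_le (inf_le_right : N ⊓ B ≤ B)
      rw [hN] at h1; rw [hBcard] at h2
      exact Nat.eq_one_of_dvd_one (hbodd ▸ Nat.dvd_gcd h1 h2)
    let f : N × B →* H :=
      { toFun := fun w => (w.1 : H) * w.2
        map_one' := by simp
        map_mul' := fun w w' => by
          simp only [Prod.fst_mul, Prod.snd_mul, Subgroup.coe_mul]
          exact ((hcom _ w'.1.2 _ w.2.2).symm.mul_mul_mul_comm _ _).symm }
    have hf : Function.Bijective f := by
      rw [Nat.bijective_iff_injective_and_card]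
      refine ⟨Subgroup.mul_injective_of_disjoint hdisj, ?_⟩
      rw [Nat.card_prod, hN, hBcard, ← hCH, hk60', hb]
      ring
    have eH : H ≃* SLFive × B :=
      (MulEquiv.ofBijective f hf).symm.trans (MulEquiv.prodCongr e (MulEquiv.refl B))
    rcases hpa with ⟨rfl, h⟩ | ⟨rfl, h⟩ | ⟨rfl, h⟩
    · refine Or.inl ⟨by norm_num, ?_⟩
      haveI : Unique B := by
        haveI : Subsingleton B := (Nat.card_eq_one_iff_unique.1 (by omega)).1
        exact uniqueOfSubsingleton 1
      exact ⟨eH.trans MulEquiv.prodUnique⟩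
    · exact Or.inr (Or.inl ⟨by norm_num, ⟨eH.trans (MulEquiv.prodCongr (MulEquiv.refl _)
        (mulEquivOfCyclicCardEq ((hBcard.trans (by omega)).trans
          ((Nat.card_congr Multiplicative.toAdd).trans (Nat.card_zmod _)).symm)))⟩⟩)
    · exact Or.inr (Or.inr ⟨by norm_num, ⟨eH.trans (MulEquiv.prodCongr (MulEquiv.refl _)
        (mulEquivOfCyclicCardEq ((hBcard.trans (by omega)).trans
          ((Nat.card_congr Multiplicative.toAdd).trans (Nat.card_zmod _)).symm)))⟩⟩)
  · -- `d = 2`
    exfalso
    have hp13 : p ≤ 15 := by nlinarith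
    interval_cases p <;> first | (norm_num at hpP; done) | skip
    · have := hnlt 5 (by norm_num)
      obtain rfl : n = 4 := by omega
      norm_num at hH hdvd
      rw [show Nat.card H = 2400 by omega] at hCH
      have ha48 : a ≤ 48 := Nat.le_of_dvd (by norm_num) hdvd
      rcases hk_cases with rfl | rfl <;> interval_cases j <;> omega
    · have := hnlt 5 (by norm_num)
      obtain rfl : n = 4 := by omega
      exact absurd (hbad 61 (by norm_num) (by norm_num) (by norm_num) (by norm_num)) (by norm_num)
    · have := hnlt 5 (by norm_num)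
      obtain rfl : n = 4 := by omega
      exact absurd (hbad 17 (by norm_num) (by norm_num) (by norm_num) (by norm_num)) (by norm_num)
  · -- `d = 3`
    exfalso
    have hp' : p ≤ 7 := by
      by_contra h
      have : 8 ^ 3 ≤ p ^ 3 := Nat.pow_le_pow_left (by omega) 3
      omega
    obtain rfl : p = 7 := by omega
    have := hnlt 7 (by norm_num)
    obtain rfl : n = 6 := by omega
    exact absurd (hbad 43 (by norm_num) (by norm_num) (by norm_num) (by norm_num)) (by norm_num)

end CfsgLib.Perm.RegularLinear
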