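import Mathlib
import Cfsg.Agent.Perm.RegularLinearQuat
import Cfsg.Agent.Perm.RegularLinearSL25
import Cfsg.Agent.FrobComp.Perfect

/-!
Minimal non-abelian normal subgroups above a maximal normal abelian subgroup of a linear group
regular on the non-zero vectors.
-/

open scoped commutatorElement

namespace CfsgLib.Perm.RegularLinear

theorem quat_facts : ∃ x u : QuaternionGroup 2, x * x = u * u ∧ x * x ≠ 1 ∧
    (x * x) * (x * x) = 1 ∧ u * x ≠ x * u :=
  ⟨.a 1, .xa 0, by decide, by decide, by decide, by decide⟩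

/-- Transport of a quaternion pair. -/
theorem exists_pair_of_equiv {G Q : Type*} [Group G] [Group Q] {N : Subgroup G} (e : N ≃* Q)
    (h : ∃ x u : Q, x * x = u * u ∧ x * x ≠ 1 ∧ (x * x) * (x * x) = 1 ∧ u * x ≠ x * u) :
    ∃ x ∈ N, ∃ u ∈ N, x * x = u * u ∧ x * x ≠ 1 ∧ (x * x) * (x * x) = 1 ∧ ¬ Commute u x := by
  obtain ⟨x', u', h1, h2, h3, h4⟩ := h
  have hmul : ∀ s t : Q, ((e.symm (s * t) : N) : G) = (e.symm s : N) * (e.symm t : N) :=
    fun s t => by rw [map_mul]; rfl
  have hone : ((e.symm 1 : N) : G) = 1 := by rw [map_one]; rfl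
  have hinj : Function.Injective (fun t : Q => ((e.symm t : N) : G)) :=
    Subtype.val_injective.comp e.symm.injective
  refine ⟨_, (e.symm x').2, _, (e.symm u').2, ?_, ?_, ?_, ?_⟩
  · rw [← hmul, ← hmul, h1]
  · exact fun h => h2 (hinj (((hmul _ _).trans h).trans hone.symm))
  · rw [← hmul, ← hmul, h3, hone]
  · exact fun h => h4 (hinj ((hmul _ _).trans (h.eq.trans (hmul _ _).symm)))

variable {p : ℕ} [Fact p.Prime] {V : Type*} [AddCommGroup V] [Module (ZMod p) V] [Finite V]
  {H : Subgroup (V ≃ₗ[ZMod p] V)}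
  (hreg : ∀ v w : V, v ≠ 0 → w ≠ 0 → ∃! h : H, (h : V ≃ₗ[ZMod p] V) v = w)
  [Nontrivial V]

include hreg

/-- A perfect normal subgroup is `SL(2,5)`. -/
theorem equiv_slFive_of_perfect (N : Subgroup H) (hne : N ≠ ⊥) (hperf : commutator N = ⊤) :
    Nonempty (N ≃* SLFive) := by
  haveI := finite_group H hreg
  haveI : Nontrivial N := (Subgroup.nontrivial_iff_ne_bot N).2 hne
  refine CfsgLib.FrobComp.equiv_sl25_of_perfect_free (ρ := (addAct H).comp N.subtype)
    (fun g hg v hv => addAct_free H hreg (g : H) (fun h => hg (Subtype.ext h)) v hv)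
    (p := p) (fun v => ?_) hperf
  exact ZModModule.char_nsmul_eq_zero p v

variable {A : Subgroup H} [A.Normal] [IsMulCommutative A]
  (hAmax : ∀ B : Subgroup H, B.Normal → IsMulCommutative B → A ≤ B → B = A)

include hAmax

omit [Finite V] [Nontrivial V] hreg in
/-- Abelian normal subgroups centralising `A` lie in `A`. -/
theorem le_of_abelian {B : Subgroup H} [B.Normal] [IsMulCommutative B]
    (hB : B ≤ Subgroup.centralizer (A : Set H)) : B ≤ A := by
  have hAB : IsMulCommutative (A ⊔ B : Subgroup H) := by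
    constructor
    constructor
    rintro ⟨g, hg⟩ ⟨g', hg'⟩
    apply Subtype.ext
    obtain ⟨a, ha, c, hc, rfl⟩ := Subgroup.mem_sup_of_normal_right.1 hg
    obtain ⟨a', ha', c', hc', rfl⟩ := Subgroup.mem_sup_of_normal_right.1 hg'
    have haa : Commute a a' := congrArg Subtype.val (mul_comm' (⟨a, ha⟩ : A) ⟨a', ha'⟩)
    have hcc : Commute c c' := congrArg Subtype.val (mul_comm' (⟨c, hc⟩ : B) ⟨c', hc'⟩)
    exact ((haa.mul_right (Subgroup.mem_centralizer_iff.1 (hB hc') a ha)).mul_left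
      ((show Commute c a' from (Subgroup.mem_centralizer_iff.1 (hB hc) a' ha').symm).mul_right hcc))
  exact le_sup_right.trans (hAmax _ inferInstance hAB le_sup_left).le

variable {N : Subgroup H} [N.Normal] (hNA : N ≤ Subgroup.centralizer (A : Set H))
  (hNna : ¬ IsMulCommutative N)
  (hNmin : ∀ M : Subgroup H, M.Normal → M ≤ N → ¬ IsMulCommutative M → M = N)

include hNA hNna hNmin

/-- The minimal non-abelian normal subgroup is perfect or a quaternion group. -/
theorem minimal_cases : commutator N = ⊤ ∨ Nonempty (N ≃* QuaternionGroup 2) := by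
  classical
  haveI := finite_group H hreg
  let D := (commutator N).map N.subtype
  haveI hDn : D.Normal := ConjAct.normal_of_characteristic_of_normal
  have hDN : D ≤ N := Subgroup.map_subtype_le _
  by_cases hDc : IsMulCommutative D
  swap
  · left
    apply Subgroup.map_injective N.subtype_injective
    rw [← MonoidHom.range_eq_map, Subgroup.range_subtype]
    exact hNmin D hDn hDN hDc
  right
  have hDA : D ≤ A := le_of_abelian hAmax (hDN.trans hNA)
  have hcomm : ∀ x ∈ N, ∀ y ∈ N, x * y * x⁻¹ * y⁻¹ ∈ A := fun x hx y hy =>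
    hDA ⟨⁅(⟨x, hx⟩ : N), ⟨y, hy⟩⁆, Subgroup.commutator_mem_commutator (Subgroup.mem_top _)
      (Subgroup.mem_top _), by simp [commutatorElement_def]⟩
  -- a prime
  let π := QuotientGroup.mk' A
  have hne : N.map π ≠ ⊥ := by
    intro h
    have hle : N ≤ A := fun x hx => by
      have : π x ∈ N.map π := ⟨x, hx, rfl⟩
      rw [h, Subgroup.mem_bot] at this
      exact (QuotientGroup.eq_one_iff x).1 this
    exact hNna ⟨⟨fun a b => Subtype.ext (congrArg (fun t : A => (t : H))
      (mul_comm' (⟨a, hle a.2⟩ : A) ⟨b, hle b.2⟩))⟩⟩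
  obtain ⟨q, hq, hqd⟩ := Nat.exists_prime_and_dvd (n := Nat.card (N.map π))
    (fun h => hne (Subgroup.card_eq_one.1 h))
  haveI := Fact.mk hq
  obtain ⟨⟨y, hy⟩, hgo⟩ := exists_prime_orderOf_dvd_card' q hqd
  rw [Subgroup.orderOf_mk] at hgo
  obtain ⟨g, hg, rfl⟩ := hy
  have hgA : g ∉ A := fun h => by
    rw [show π g = 1 from (QuotientGroup.eq_one_iff g).2 h, orderOf_one] at hgo
    exact hq.one_lt.ne hgo
  have hgq : g ^ q ∈ A := by
    rw [← QuotientGroup.eq_one_iff]
    show π (g ^ q) = 1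
    rw [map_pow, ← hgo, pow_orderOf_eq_one]
  have hcom : ∀ x ∈ N, ∀ y ∈ N, Commute (π x) (π y) := by
    intro x hx y hy
    have e : π (x * y * x⁻¹ * y⁻¹) = 1 := (QuotientGroup.eq_one_iff _).2 (hcomm x hx y hy)
    rw [map_mul, map_mul, map_mul, map_inv, map_inv, mul_inv_eq_one, mul_inv_eq_iff_eq_mul] at e
    exact e
  let Mq : Subgroup H :=
    { carrier := {x | x ∈ N ∧ x ^ q ∈ A}
      one_mem' := ⟨N.one_mem, by rw [one_pow]; exact A.one_mem⟩
      mul_mem' := by
        rintro x y ⟨hx, hx'⟩ ⟨hy, hy'⟩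
        refine ⟨N.mul_mem hx hy, ?_⟩
        rw [← QuotientGroup.eq_one_iff] at hx' hy' ⊢
        have : π ((x * y) ^ q) = π (x ^ q) * π (y ^ q) := by
          rw [map_pow, map_mul, (hcom x hx y hy).mul_pow, map_pow, map_pow]
        exact this.trans (by rw [show π (x ^ q) = 1 from hx', show π (y ^ q) = 1 from hy', one_mul])
      inv_mem' := by
        rintro x ⟨hx, hx'⟩
        exact ⟨N.inv_mem hx, by rw [inv_pow]; exact A.inv_mem hx'⟩ }
  haveI hMn : Mq.Normal := by
    refine ⟨fun x hx c => ⟨(inferInstance : N.Normal).conj_mem x hx.1 c, ?_⟩⟩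
    rw [conj_pow]
    exact (inferInstance : A.Normal).conj_mem _ hx.2 c
  have hMN : Mq ≤ N := fun x hx => hx.1
  have hMq : Mq = N := hNmin Mq hMn hMN fun hc => by
    haveI := hc
    exact hgA (le_of_abelian hAmax (hMN.trans hNA) (⟨hg, hgq⟩ : g ∈ Mq))
  have hNq : ∀ x ∈ N, x ^ q ∈ A := fun x hx => (hMq.symm ▸ hx : x ∈ Mq).2
  set A' := A ⊓ N with hA'
  haveI : IsMulCommutative A' := ⟨⟨fun a b => Subtype.ext (congrArg (fun t : A => (t : H))
    (mul_comm' (⟨a, a.2.1⟩ : A) ⟨b, b.2.1⟩))⟩⟩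
  have hNA' : N ≤ Subgroup.centralizer (A' : Set H) := fun n hn =>
    Subgroup.mem_centralizer_iff.2 fun a ha => Subgroup.mem_centralizer_iff.1 (hNA hn) a ha.1
  have hneN : ∃ x ∈ N, ∃ y ∈ N, x * y ≠ y * x := by
    by_contra h
    simp only [not_exists, not_and, not_not] at h
    exact hNna ⟨⟨fun a b => Subtype.ext (h a a.2 b b.2)⟩⟩
  obtain ⟨-, z, x, u, -, -, -, -, -, -, hux, -, -, Q, -, hxQ, huQ, ⟨eQ⟩, hQ⟩ :=
    quaternion_of_class_two hreg (A := A') (M := N) hq inf_le_right hNA'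
      (fun x hx y hy => Subgroup.mem_inf.2 ⟨hcomm x hx y hy,
        N.mul_mem (N.mul_mem (N.mul_mem hx hy) (N.inv_mem hx)) (N.inv_mem hy)⟩)
      (fun x hx => Subgroup.mem_inf.2 ⟨hNq x hx, N.pow_mem hx q⟩) hneN
  haveI : Q.Normal := ⟨fun g hg c => by
    rw [hQ] at hg ⊢
    exact ⟨(inferInstance : N.Normal).conj_mem g hg.1 c,
      by rw [conj_pow, hg.2, mul_one, mul_inv_cancel]⟩⟩
  have hQN : Q = N := hNmin Q inferInstance (fun g hg => ((hQ g).1 hg).1) fun hc =>
    hux (congrArg Subtype.val (mul_comm' (⟨u, huQ⟩ : Q) ⟨x, hxQ⟩))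
  exact ⟨(MulEquiv.subgroupCongr hQN).symm.trans eQ⟩

end CfsgLib.Perm.RegularLinear

namespace CfsgLib.Perm.RegularLinear

variable {p : ℕ} [Fact p.Prime] {V : Type*} [AddCommGroup V] [Module (ZMod p) V] [Finite V]
  {H : Subgroup (V ≃ₗ[ZMod p] V)}
  (hreg : ∀ v w : V, v ≠ 0 → w ≠ 0 → ∃! h : H, (h : V ≃ₗ[ZMod p] V) v = w)
  [Nontrivial V]

include hreg

/-- The centraliser of an irreducible cyclic normal subgroup is abelian. -/
theorem centralizer_comm_of_irreducible (A : Subgroup H) [A.Normal] [IsCyclic A]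
    (hirr : ∀ W : Submodule (ZMod p) V, (∀ a ∈ A, ∀ v ∈ W, ((a : H) : V ≃ₗ[ZMod p] V) v ∈ W) →
      W = ⊥ ∨ W = ⊤) : IsMulCommutative (Subgroup.centralizer (A : Set H)) := by
  classical
  haveI := finite_group H hreg
  obtain ⟨t, ht⟩ := IsCyclic.exists_generator (α := A)
  set R := Algebra.adjoin (ZMod p) {lin H (t : H)} with hR
  obtain ⟨v, hv⟩ := exists_ne (0 : V)
  let W : Submodule (ZMod p) V :=
    (Subalgebra.toSubmodule R).map (LinearMap.applyₗ (R := ZMod p) (M₂ := V) v)
  have hW : W = ⊤ := by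
    refine (hirr W ?_).resolve_left fun h => hv ?_
    · rintro a ha w ⟨f, hf, rfl⟩
      obtain ⟨i, hi⟩ := (Submonoid.mem_powers_iff _ _).1
        (mem_powers_iff_mem_zpowers.2 (ht ⟨a, ha⟩))
      have hi' : (t : H) ^ i = a := congrArg Subtype.val hi
      have hla : lin H a ∈ R := by
        rw [← hi', map_pow]
        exact pow_mem (Algebra.self_mem_adjoin_singleton _ _) i
      exact ⟨lin H a * f, R.mul_mem hla hf, rfl⟩
    · have : v ∈ W := ⟨1, R.one_mem, rfl⟩
      rw [h, Submodule.mem_bot] at this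
      exact this
  set C := Subgroup.centralizer (A : Set H) with hC
  have hcomR : ∀ g ∈ C, ∀ f ∈ R, Commute (lin H g) f := by
    intro g hg f hf
    induction hf using Algebra.adjoin_induction with
    | mem x hx =>
      rw [Set.mem_singleton_iff.1 hx]
      exact (show Commute g (t : H) from
        (Subgroup.mem_centralizer_iff.1 hg t t.2).symm).map (lin H)
    | algebraMap r => exact (Algebra.commutes r (lin H g)).symm
    | add x y _ _ hx hy => exact hx.add_right hy
    | mul x y _ _ hx hy => exact hx.mul_right hy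
  have hrep : ∀ g ∈ C, lin H g ∈ R := by
    intro g hg
    obtain ⟨f, hf, hfv⟩ : lin H g v ∈ W := hW ▸ Submodule.mem_top
    have : lin H g = f := by
      refine LinearMap.ext fun w => ?_
      obtain ⟨f', hf', rfl⟩ : w ∈ W := hW ▸ Submodule.mem_top
      change lin H g (f' v) = f (f' v)
      have h1 : lin H g (f' v) = f' (lin H g v) :=
        DFunLike.congr_fun (hcomR g hg f' hf').eq v
      have h2 : f (f' v) = f' (f v) := by
        have hc : Commute f f' := (Algebra.adjoin_le_centralizer_centralizer (ZMod p) _ hf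
          f' (by
            intro x hx
            rw [Set.mem_singleton_iff.1 hx]
            exact (hcomR (t : H) (Subgroup.mem_centralizer_iff.2 fun a ha =>
              congrArg Subtype.val (mul_comm' (⟨a, ha⟩ : A) t)) f' hf').eq)).symm
        exact DFunLike.congr_fun hc.eq v
      rw [h1, h2]
      exact congrArg f' hfv.symm
    exact this ▸ hf
  exact ⟨⟨fun a b => Subtype.ext (lin_injective H (by
    rw [Subgroup.coe_mul, Subgroup.coe_mul, map_mul, map_mul]
    exact (hcomR a a.2 _ (hrep b b.2)).eq))⟩⟩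

/-- A group with an irreducible cyclic normal subgroup is solvable. -/
theorem solvable_of_irreducible_cyclic (A : Subgroup H) [A.Normal] [IsCyclic A]
    (hirr : ∀ W : Submodule (ZMod p) V, (∀ a ∈ A, ∀ v ∈ W, ((a : H) : V ≃ₗ[ZMod p] V) v ∈ W) →
      W = ⊥ ∨ W = ⊤) : Group.IsSolvable H := by
  haveI := finite_group H hreg
  haveI := centralizer_comm_of_irreducible hreg A hirr
  set C := Subgroup.centralizer (A : Set H) with hC
  haveI : IsMulCommutative (MulAut A) := ⟨⟨fun a b => by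
    apply (IsCyclic.mulAutMulEquiv A).injective
    rw [map_mul, map_mul, mul_comm]⟩⟩
  haveI : Group.IsSolvable C := isSolvable_of_comm fun a b => mul_comm' a b
  haveI : Group.IsSolvable (MulAut A) := isSolvable_of_comm fun a b => mul_comm' a b
  refine solvable_of_ker_le_range C.subtype (MulAut.conjNormal (H := A)) fun g hg => ⟨⟨g, ?_⟩, rfl⟩
  rw [MonoidHom.mem_ker] at hg
  refine Subgroup.mem_centralizer_iff.2 fun a ha => ?_
  have h3 := congrArg (fun φ : MulAut A => ((φ ⟨a, ha⟩ : A) : H)) hg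
  simp only [MulAut.conjNormal_apply, MulAut.one_apply] at h3
  exact (mul_inv_eq_iff_eq_mul.1 h3).symm

omit [Nontrivial V] in
/-- Non-abelian subgroups are irreducible in dimension two. -/
theorem irreducible_of_finrank_two (hn : Module.finrank (ZMod p) V = 2) {N : Subgroup H}
    (hNna : ¬ IsMulCommutative N) (W : Submodule (ZMod p) V)
    (hW : ∀ n ∈ N, ∀ v ∈ W, ((n : H) : V ≃ₗ[ZMod p] V) v ∈ W) : W = ⊥ ∨ W = ⊤ := by
  by_contra hc
  rw [not_or] at hc
  have hlt := Submodule.finrank_lt hc.2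
  obtain ⟨v, hv, hv0⟩ := Submodule.exists_mem_ne_zero_of_ne_bot hc.1
  have hd : 1 ≤ Module.finrank (ZMod p) W := Submodule.one_le_finrank_iff.2 hc.1
  have hd1 : Module.finrank (ZMod p) W = 1 := by omega
  have hsc : ∀ g ∈ N, ∃ c : ZMod p, (g : V ≃ₗ[ZMod p] V) v = c • v := fun g hg => by
    obtain ⟨c, hc'⟩ := exists_smul_eq_of_finrank_eq_one hd1
      (show (⟨v, hv⟩ : W) ≠ 0 from fun h => hv0 (congrArg Subtype.val h))
      ⟨_, hW g hg v hv⟩
    exact ⟨c, (congrArg Subtype.val hc').symm⟩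
  apply hNna
  refine ⟨⟨fun a b => ?_⟩⟩
  obtain ⟨ca, hca⟩ := hsc a a.2
  obtain ⟨cb, hcb⟩ := hsc b b.2
  apply Subtype.ext
  have e : (((a * b : N) : H) : V ≃ₗ[ZMod p] V) v = (((b * a : N) : H) : V ≃ₗ[ZMod p] V) v := by
    show (a : V ≃ₗ[ZMod p] V) ((b : V ≃ₗ[ZMod p] V) v) =
      (b : V ≃ₗ[ZMod p] V) ((a : V ≃ₗ[ZMod p] V) v)
    rw [hcb, map_smul, hca, map_smul, hcb, smul_smul, smul_smul, mul_comm]
  exact (hreg v _ hv0 (ne_zero_apply H hreg _ hv0)).unique rfl e.symm

end CfsgLib.Perm.RegularLinear
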