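import Mathlib
import Cfsg.Agent.Perm.RegularLinearQuat

/-!
Solvable linear groups regular on the non-zero vectors: bounds from the quaternion group.
-/

namespace CfsgLib.Perm.RegularLinear

variable {p : ℕ} [Fact p.Prime] {V : Type*} [AddCommGroup V] [Module (ZMod p) V] [Finite V]
  {H : Subgroup (V ≃ₗ[ZMod p] V)}
  (hreg : ∀ v w : V, v ≠ 0 → w ≠ 0 → ∃! h : H, (h : V ≃ₗ[ZMod p] V) v = w)
  [Nontrivial V] {A : Subgroup H} [A.Normal] [IsMulCommutative A]
  (hAmax : ∀ B : Subgroup H, B.Normal → IsMulCommutative B → A ≤ B → B = A)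

include hreg hAmax

/-- A normal subgroup with elementary abelian quotient over `A`, inside a given one. -/
theorem exists_class_two [Group.IsSolvable H] (N : Subgroup H) [N.Normal] (hAN : A < N)
    (hNC : N ≤ Subgroup.centralizer (A : Set H)) :
    ∃ (q : ℕ) (M : Subgroup H), q.Prime ∧ M.Normal ∧ A ≤ M ∧ M ≤ N ∧
      (∀ x ∈ M, ∀ y ∈ M, x * y * x⁻¹ * y⁻¹ ∈ A) ∧ (∀ x ∈ M, x ^ q ∈ A) ∧
      ∃ x ∈ M, ∃ y ∈ M, x * y ≠ y * x := by
  classical
  haveI := finite_group H hreg
  obtain ⟨n, hn⟩ := (isSolvable_def H).1 inferInstance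
  have hex : ∃ n, derivedSeries H n ⊓ N ≤ A := ⟨n, by rw [hn, bot_inf_eq]; exact bot_le⟩
  have h0 : Nat.find hex ≠ 0 := by
    intro h
    have h' := Nat.find_spec hex
    rw [h, derivedSeries_zero, top_inf_eq] at h'
    exact hAN.not_ge h'
  obtain ⟨i, hi⟩ := Nat.exists_eq_succ_of_ne_zero h0
  have hnot : ¬ derivedSeries H i ⊓ N ≤ A := Nat.find_min hex (by omega)
  have hsucc : derivedSeries H (i + 1) ⊓ N ≤ A := by
    have h' := Nat.find_spec hex
    rwa [hi] at h'
  set S := derivedSeries H i ⊓ N with hS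
  haveI : S.Normal := by
    haveI := derivedSeries_normal H i
    infer_instance
  let M₀ := S ⊔ A
  have hM₀N : M₀ ≤ N := sup_le inf_le_right hAN.le
  have hcomm₀ : ∀ x ∈ M₀, ∀ y ∈ M₀, x * y * x⁻¹ * y⁻¹ ∈ A := by
    intro x hx y hy
    obtain ⟨s, hs, a, ha, rfl⟩ := Subgroup.mem_sup_of_normal_right.1 hx
    obtain ⟨t, ht, b, hb, rfl⟩ := Subgroup.mem_sup_of_normal_right.1 hy
    have hca : ∀ (a : H), a ∈ A → ∀ m ∈ N, a * m = m * a := fun a ha m hm =>
      Subgroup.mem_centralizer_iff.1 (hNC hm) a ha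
    have e : s * a * (t * b) * (s * a)⁻¹ * (t * b)⁻¹ = s * t * s⁻¹ * t⁻¹ := by
      have h1 : a * (t * b) = t * b * a := hca a ha _ (N.mul_mem ht.2 (hAN.le hb))
      have h2 : b * s⁻¹ = s⁻¹ * b := hca b hb _ (N.inv_mem hs.2)
      calc s * a * (t * b) * (s * a)⁻¹ * (t * b)⁻¹
          = s * (a * (t * b)) * a⁻¹ * s⁻¹ * b⁻¹ * t⁻¹ := by group
        _ = s * t * (b * s⁻¹) * b⁻¹ * t⁻¹ := by rw [h1]; group
        _ = s * t * s⁻¹ * t⁻¹ := by rw [h2]; group
    rw [e]
    refine hsucc ⟨?_, ?_⟩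
    · rw [derivedSeries_succ]
      exact Subgroup.commutator_mem_commutator hs.1 ht.1
    · exact N.mul_mem (N.mul_mem (N.mul_mem hs.2 ht.2) (N.inv_mem hs.2)) (N.inv_mem ht.2)
  let π := QuotientGroup.mk' A
  have hne : M₀.map π ≠ ⊥ := by
    intro h
    apply hnot
    intro x hx
    have : π x ∈ M₀.map π := ⟨x, Subgroup.mem_sup_left hx, rfl⟩
    rw [h, Subgroup.mem_bot] at this
    exact (QuotientGroup.eq_one_iff x).1 this
  obtain ⟨q, hq, hqd⟩ := Nat.exists_prime_and_dvd (n := Nat.card (M₀.map π))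
    (fun h => hne (Subgroup.card_eq_one.1 h))
  haveI := Fact.mk hq
  obtain ⟨⟨y, hy⟩, hgo⟩ := exists_prime_orderOf_dvd_card' q hqd
  rw [Subgroup.orderOf_mk] at hgo
  obtain ⟨g, hg, rfl⟩ := hy
  have hgA : g ∉ A := fun h => by
    rw [show π g = 1 from (QuotientGroup.eq_one_iff g).2 h, orderOf_one] at hgo
    exact hq.one_lt.ne hgo
  have hgq : g ^ q ∈ A := by
    rw [← QuotientGroup.eq_one_iff]
    show π (g ^ q) = 1
    rw [map_pow, ← hgo, pow_orderOf_eq_one]
  have hcom : ∀ x ∈ M₀, ∀ y ∈ M₀, Commute (π x) (π y) := by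
    intro x hx y hy
    have := (QuotientGroup.eq_one_iff _).2 (hcomm₀ x hx y hy)
    have e : π (x * y * x⁻¹ * y⁻¹) = 1 := this
    rw [map_mul, map_mul, map_mul, map_inv, map_inv, mul_inv_eq_one, mul_inv_eq_iff_eq_mul] at e
    exact e
  let M : Subgroup H :=
    { carrier := {x | x ∈ M₀ ∧ x ^ q ∈ A}
      one_mem' := ⟨M₀.one_mem, by rw [one_pow]; exact A.one_mem⟩
      mul_mem' := by
        rintro x y ⟨hx, hx'⟩ ⟨hy, hy'⟩
        refine ⟨M₀.mul_mem hx hy, ?_⟩
        rw [← QuotientGroup.eq_one_iff] at hx' hy' ⊢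
        have : π ((x * y) ^ q) = π (x ^ q) * π (y ^ q) := by
          rw [map_pow, map_mul, (hcom x hx y hy).mul_pow, map_pow, map_pow]
        exact this.trans (by rw [show π (x ^ q) = 1 from hx', show π (y ^ q) = 1 from hy', one_mul])
      inv_mem' := by
        rintro x ⟨hx, hx'⟩
        exact ⟨M₀.inv_mem hx, by rw [inv_pow]; exact A.inv_mem hx'⟩ }
  have hMn : M.Normal := by
    refine ⟨fun x hx c => ⟨?_, ?_⟩⟩
    · exact (inferInstance : M₀.Normal).conj_mem x hx.1 c
    · rw [conj_pow]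
      exact (inferInstance : A.Normal).conj_mem _ hx.2 c
  have hAM : A ≤ M := fun a ha => ⟨Subgroup.mem_sup_right ha, A.pow_mem ha q⟩
  refine ⟨q, M, hq, hMn, hAM, fun x hx => hM₀N hx.1,
    fun x hx y hy => hcomm₀ x hx.1 y hy.1, fun x hx => hx.2, ?_⟩
  by_contra h
  simp only [not_exists, not_and, not_not] at h
  have hMA := hAmax M hMn ⟨⟨fun a b => Subtype.ext (h a a.2 b b.2)⟩⟩ hAM
  exact hgA (hMA ▸ (⟨hg, hgq⟩ : g ∈ M))

/-- The numerical consequences. -/
theorem solvable_bounds [Group.IsSolvable H]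
    (hlt : A < Subgroup.centralizer (A : Set H)) :
    ∃ k : ℕ, Nat.card A * k = Nat.card (Subgroup.centralizer (A : Set H)) ∧ 4 ∣ k ∧ k ≤ 24 ∧
      2 ∣ Nat.card A ∧ p ≠ 2 ∧
      (∀ q : ℕ, q.Prime → 5 ≤ q → q ∣ Nat.card (Subgroup.centralizer (A : Set H)) →
        q ∣ Nat.card A) ∧
      ∃ x : H, x ∈ Subgroup.centralizer (A : Set H) ∧ orderOf x = 4 ∧ x * x ∈ A := by
  classical
  haveI := finite_group H hreg
  haveI := Fintype.ofFinite H
  set C := Subgroup.centralizer (A : Set H) with hC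
  haveI : C.Normal := by rw [hC]; infer_instance
  obtain ⟨q₀, M, hq₀, hMn, hAM, hMC, hcomm, hpow, hne⟩ :=
    exists_class_two hreg hAmax C hlt le_rfl
  obtain ⟨-, z, x, u, hz2, hz1, hxM, huM, hx2, hu2, hux, hzA, hA4, Q, hQcard, hxQ, huQ, -, hQ⟩ :=
    quaternion_of_class_two hreg hq₀ hAM hMC hcomm hpow hne
  haveI : Q.Normal := ⟨fun g hg c => by
    rw [hQ] at hg ⊢
    exact ⟨hMn.conj_mem g hg.1 c, by rw [conj_pow, hg.2, mul_one, mul_inv_cancel]⟩⟩
  have hQC : Q ≤ C := fun g hg => hMC ((hQ g).1 hg).1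
  have hcent : ∀ g : H, Commute z g := fun g => (involution_central H hreg hz2 hz1 g).symm
  have hx4 : orderOf x = 4 := by
    have h1 : ¬ x ^ (2 ^ 1) = 1 := fun h => hz1 (by rw [pow_one, pow_two, hx2] at h; exact h)
    have h2 : x ^ (2 ^ (1 + 1)) = 1 := by
      rw [show (2 : ℕ) ^ (1 + 1) = 2 * 2 from rfl, pow_mul, pow_two x, hx2, pow_two, hz2]
    simpa using orderOf_eq_prime_pow h1 h2
  -- centralisers of `x` and `u` centralise `Q`
  have hxu : ∀ g : H, Commute g x → Commute g u → g ∈ Subgroup.centralizer (Q : Set H) := by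
    intro g h1 h2
    let T := Q ⊓ Subgroup.centralizer ({g} : Set H)
    have hxT : x ∈ T := ⟨hxQ, Subgroup.mem_centralizer_singleton_iff.2 h1.eq.symm⟩
    have huT : u ∈ T := ⟨huQ, Subgroup.mem_centralizer_singleton_iff.2 h2.eq.symm⟩
    have hlt' : Subgroup.zpowers x < T := lt_of_le_of_ne (Subgroup.zpowers_le.2 hxT) fun h => by
      obtain ⟨k, hk⟩ := (h ▸ huT : u ∈ Subgroup.zpowers x)
      exact hux (hk ▸ (Commute.refl x).zpow_left k)
    have h8 : Nat.card T ∣ 8 := hQcard ▸ Subgroup.card_dvd_of_le inf_le_left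
    have h4 : 4 < Nat.card T := by
      by_contra h
      exact hlt'.ne (Subgroup.eq_of_le_of_card_ge hlt'.le (by rw [Nat.card_zpowers, hx4]; omega))
    have : Nat.card T = 8 := by
      have := Nat.le_of_dvd (by norm_num) h8
      obtain ⟨c, hc⟩ := h8
      rcases c with _ | _ | c
      · omega
      · omega
      · exfalso; nlinarith
    have hTQ : T = Q := Subgroup.eq_of_le_of_card_ge inf_le_left (by rw [hQcard, this])
    rw [Subgroup.mem_centralizer_iff]
    intro y hy
    have hy' : y ∈ T := hTQ.symm ▸ hy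
    exact Subgroup.mem_centralizer_singleton_iff.1 hy'.2
  -- the kernel of the action on `Q` is `A`
  have hK : C ⊓ Subgroup.centralizer (Q : Set H) ≤ A := by
    by_contra hnle
    set K := C ⊓ Subgroup.centralizer (Q : Set H) with hKdef
    have hAK : A ≤ K := fun a ha => ⟨hlt.le ha, fun g hg =>
      (Subgroup.mem_centralizer_iff.1 (hQC hg) a ha).symm⟩
    haveI : K.Normal := by rw [hKdef]; infer_instance
    obtain ⟨q₁, M₂, hq₁, -, hAM₂, hM₂K, hc₂, hp₂, hne₂⟩ := exists_class_two hreg hAmax K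
      (lt_of_le_not_ge hAK hnle) inf_le_left
    obtain ⟨-, z', w, -, hz'2, hz'1, hwM, -, hw2, -⟩ := quaternion_of_class_two hreg hq₁ hAM₂
      (hM₂K.trans inf_le_left) hc₂ hp₂ hne₂
    rw [involution_eq H hreg hz'2 hz'1 hz2 hz1] at hw2
    have hroot : ∀ v : H, v * v = z → Commute w v → v = w ∨ v = z * w := by
      intro v hv hwv
      have h2 : (w⁻¹ * v) * (w⁻¹ * v) = 1 := by
        calc (w⁻¹ * v) * (w⁻¹ * v) = w⁻¹ * (v * w⁻¹) * v := by simp only [mul_assoc]
          _ = (w * w)⁻¹ * (v * v) := by rw [← (hwv.inv_left).eq]; group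
          _ = 1 := by rw [hw2, hv, inv_mul_cancel]
      rcases eq_one_or_eq hreg hz2 hz1 h2 with h | h
      · exact Or.inl (inv_mul_eq_one.1 h).symm
      · right
        rw [inv_mul_eq_iff_eq_mul] at h
        rw [h, (hcent w).eq]
    have hwc : ∀ v ∈ Q, Commute w v := fun v hv =>
      (Subgroup.mem_centralizer_iff.1 (hM₂K hwM).2 v hv).symm
    apply hux
    rcases hroot x hx2 (hwc x hxQ) with e1 | e1 <;> rcases hroot u hu2 (hwc u huQ) with e2 | e2 <;>
      rw [e1, e2]
    · exact ((hcent w).mul_left (Commute.refl w))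
    · exact ((hcent w).mul_left (Commute.refl w)).symm
  -- six elements of order four
  let X : Finset H := Finset.univ.filter fun g => g ∈ Q ∧ g ≠ 1 ∧ g ≠ z
  have hzQ : z ∈ Q := hx2 ▸ Q.mul_mem hxQ hxQ
  have hX : X.card = 6 := by
    have hsub : ({1, z} : Finset H) ⊆ Finset.univ.filter fun g => g ∈ Q := by
      intro g hg
      simp only [Finset.mem_insert, Finset.mem_singleton] at hg
      rcases hg with rfl | rfl
      · simpa using Q.one_mem
      · simpa using hzQ
    have hXe : X = (Finset.univ.filter fun g => g ∈ Q) \ {1, z} := by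
      ext g; simp [X, not_or]
    rw [hXe, Finset.card_sdiff_of_subset hsub, Finset.card_pair (Ne.symm hz1),
      ← Fintype.card_subtype, ← Nat.card_eq_fintype_card]
    show Nat.card Q - 2 = 6
    rw [hQcard]
  have hord : ∀ v ∈ X, v * v = z := by
    intro v hv
    obtain ⟨hvQ, hv1, hvz⟩ := (Finset.mem_filter.1 hv).2
    have hv4 := ((hQ v).1 hvQ).2
    rw [show (4 : ℕ) = 2 * 2 from rfl, pow_mul, pow_two, pow_two] at hv4
    refine (eq_one_or_eq hreg hz2 hz1 hv4).resolve_left fun h => ?_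
    exact (eq_one_or_eq hreg hz2 hz1 h).elim hv1 hvz
  have hconjX : ∀ c : H, ∀ v ∈ X, c * v * c⁻¹ ∈ X := by
    intro c v hv
    obtain ⟨hvQ, hv1, hvz⟩ := (Finset.mem_filter.1 hv).2
    refine Finset.mem_filter.2 ⟨Finset.mem_univ _, (inferInstance : Q.Normal).conj_mem v hvQ c,
      fun h => hv1 (conj_eq_one_iff.1 h), fun h => hvz ?_⟩
    rw [mul_inv_eq_iff_eq_mul, (hcent c).eq] at h
    exact mul_left_cancel h
  have hxX : x ∈ X := Finset.mem_filter.2 ⟨Finset.mem_univ _, hxQ,
    fun h => hux (h ▸ Commute.one_right u), fun h => hux (h ▸ (hcent u).symm)⟩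
  have huX : u ∈ X := Finset.mem_filter.2 ⟨Finset.mem_univ _, huQ,
    fun h => hux (h ▸ Commute.one_left x), fun h => hux (h ▸ hcent x)⟩
  -- pairs of images
  let pairs : Finset (H × H) := (X ×ˢ X).filter fun v => v.2 ∉ Subgroup.zpowers v.1
  have hpairs : pairs.card ≤ 24 := by
    calc pairs.card ≤ ∑ v ∈ X, (pairs.filter fun w => w.1 = v).card := by
          rw [← Finset.card_eq_sum_card_fiberwise]
          intro w hw
          exact (Finset.mem_product.1 (Finset.mem_filter.1 hw).1).1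
      _ ≤ ∑ _v ∈ X, 4 := by
          refine Finset.sum_le_sum fun v hv => ?_
          obtain ⟨hvQ, hv1, hvz⟩ := (Finset.mem_filter.1 hv).2
          have hvo : orderOf v = 4 := by
            have h1 : ¬ v ^ (2 ^ 1) = 1 := fun h => hz1 (by
              rw [pow_one, pow_two, hord v hv] at h; exact h)
            have h2 : v ^ (2 ^ (1 + 1)) = 1 := ((hQ v).1 hvQ).2
            simpa using orderOf_eq_prime_pow h1 h2
          have hsub : (pairs.filter fun w => w.1 = v).image Prod.snd ⊆
              (Finset.univ.filter fun g => g ∈ Q) \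
                (Finset.univ.filter fun g => g ∈ Subgroup.zpowers v) := by
            intro g hg
            obtain ⟨⟨a, b⟩, hw, rfl⟩ := Finset.mem_image.1 hg
            obtain ⟨hw1, hw2⟩ := Finset.mem_filter.1 hw
            obtain ⟨hw3, hw4⟩ := Finset.mem_filter.1 hw1
            simp only at hw2 hw4 ⊢
            subst hw2
            exact Finset.mem_sdiff.2 ⟨by simpa using
              (Finset.mem_filter.1 (Finset.mem_product.1 hw3).2).2.1, by simpa using hw4⟩
          have hinj : Set.InjOn Prod.snd ((pairs.filter fun w => w.1 = v) : Set (H × H)) := by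
            intro a ha b hb h
            exact Prod.ext ((Finset.mem_filter.1 (Finset.mem_coe.1 ha)).2.trans
              (Finset.mem_filter.1 (Finset.mem_coe.1 hb)).2.symm) h
          rw [← Finset.card_image_of_injOn hinj]
          refine (Finset.card_le_card hsub).trans (le_of_eq ?_)
          rw [Finset.card_sdiff_of_subset (by
            intro g hg
            simp only [Finset.mem_filter, Finset.mem_univ, true_and] at hg ⊢
            exact Subgroup.zpowers_le.2 hvQ hg), ← Fintype.card_subtype, ← Fintype.card_subtype,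
            ← Nat.card_eq_fintype_card, ← Nat.card_eq_fintype_card]
          show Nat.card Q - Nat.card (Subgroup.zpowers v) = 4
          rw [hQcard, Nat.card_zpowers, hvo]
      _ = 24 := by rw [Finset.sum_const, hX]; rfl
  -- the quotient
  let π := QuotientGroup.mk' A
  have hcardmap : ∀ S : Subgroup H, Nat.card (S.map π) * Nat.card (A ⊓ S : Subgroup H) = Nat.card S := by
    intro S
    have h1 : (π.comp S.subtype).range = S.map π := by
      rw [MonoidHom.range_comp, Subgroup.range_subtype]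
    rw [← h1, ← Subgroup.index_ker]
    have hker : (π.comp S.subtype).ker = (A ⊓ S).subgroupOf S := by
      rw [Subgroup.inf_subgroupOf_right, ← MonoidHom.comap_ker, QuotientGroup.ker_mk']
      rfl
    rw [hker, ← Nat.card_congr (Subgroup.subgroupOfEquivOfLe (inf_le_right : A ⊓ S ≤ S)).toEquiv]
    exact Subgroup.index_mul_card _
  set k := Nat.card (C.map π) with hkdef
  have hk : Nat.card A * k = Nat.card C := by
    have := hcardmap C
    rw [inf_eq_left.2 hlt.le] at this
    rw [← this, mul_comm]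
  have h4k : 4 ∣ k := by
    refine dvd_trans (dvd_of_eq ?_) (Subgroup.card_dvd_of_le (Subgroup.map_mono hQC))
    have h := hcardmap Q
    have hAQ : A ⊓ Q = Subgroup.zpowers z := by
      refine le_antisymm (fun g hg => ?_) (Subgroup.zpowers_le.2 ⟨hzA, hzQ⟩)
      rcases hA4 g hg.1 ((hQ g).1 hg.2).2 with e | e
      · rw [e]; exact one_mem _
      · rw [e]; exact Subgroup.mem_zpowers z
    rw [hAQ, Nat.card_zpowers, orderOf_eq_prime (by rw [pow_two, hz2]) hz1, hQcard] at h
    omega
  have hk24 : k ≤ 24 := by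
    refine le_trans ?_ hpairs
    rw [hkdef, Nat.card_eq_fintype_card, ← Finset.card_univ]
    choose f hfC hf using fun w : C.map π => Subgroup.mem_map.1 w.2
    refine Finset.card_le_card_of_injOn (fun w => (f w * x * (f w)⁻¹, f w * u * (f w)⁻¹)) ?_ ?_
    · intro w _
      refine Finset.mem_filter.2 ⟨Finset.mem_product.2 ⟨hconjX _ x hxX, hconjX _ u huX⟩, ?_⟩
      rintro ⟨i, hi⟩
      simp only at hi
      rw [← MulAut.conj_apply, ← MulAut.conj_apply, ← map_zpow] at hi
      exact hux ((MulAut.conj (f w)).injective hi ▸ (Commute.refl x).zpow_left i)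
    · intro v _ w _ h
      simp only [Prod.mk.injEq] at h
      apply Subtype.ext
      rw [← hf v, ← hf w]
      show π (f v) = π (f w)
      have hcent' : ∀ y : H, f v * y * (f v)⁻¹ = f w * y * (f w)⁻¹ →
          Commute ((f w)⁻¹ * f v) y := by
        intro y hy
        show (f w)⁻¹ * f v * y = y * ((f w)⁻¹ * f v)
        calc (f w)⁻¹ * f v * y = (f w)⁻¹ * (f v * y * (f v)⁻¹) * f v := by group
          _ = (f w)⁻¹ * (f w * y * (f w)⁻¹) * f v := by rw [hy]
          _ = y * ((f w)⁻¹ * f v) := by group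
      have hmem : (f w)⁻¹ * f v ∈ A := hK ⟨C.mul_mem (C.inv_mem (hfC w)) (hfC v),
        hxu _ (hcent' x h.1) (hcent' u h.2)⟩
      exact ((QuotientGroup.eq (s := A)).2 hmem).symm
  refine ⟨k, hk, h4k, hk24, ?_, char_ne_two_of_involution H hreg hz2 hz1, ?_,
    x, hQC hxQ, hx4, hx2 ▸ hzA⟩
  · rw [show (2 : ℕ) = orderOf z from (orderOf_eq_prime (by rw [pow_two, hz2]) hz1).symm,
      ← Subgroup.orderOf_mk z hzA]
    exact orderOf_dvd_natCard _
  intro q hq hq5 hqd
  by_contra hqA
  haveI := Fact.mk hq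
  obtain ⟨⟨g, hgC⟩, hgo⟩ := exists_prime_orderOf_dvd_card' q hqd
  rw [Subgroup.orderOf_mk] at hgo
  -- conjugation by `g` fixes the six elements
  let σ : Equiv.Perm X :=
    { toFun := fun v => ⟨g * v * g⁻¹, hconjX g v v.2⟩
      invFun := fun v => ⟨g⁻¹ * v * g, by simpa using hconjX g⁻¹ v v.2⟩
      left_inv := fun v => Subtype.ext (by simp [mul_assoc])
      right_inv := fun v => Subtype.ext (by simp [mul_assoc]) }
  have hσn : ∀ n : ℕ, ∀ v : X, ((σ ^ n) v : H) = g ^ n * v * (g ^ n)⁻¹ := by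
    intro n
    induction n with
    | zero => intro v; simp
    | succ n ih =>
      intro v
      rw [pow_succ', Equiv.Perm.mul_apply]
      show g * ((σ ^ n) v : H) * g⁻¹ = _
      rw [ih, pow_succ']
      group
  have hσ : σ ^ q ^ 1 = 1 := Equiv.ext fun v => Subtype.ext (by
    rw [pow_one, hσn, ← hgo, pow_orderOf_eq_one]; simp)
  have hmod := Equiv.Perm.card_compl_support_modEq (p := q) hσ
  rw [Fintype.card_coe, hX] at hmod
  have hall : σ.supportᶜ.card = 6 := by
    have hle : σ.supportᶜ.card ≤ 6 := by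
      have := Finset.card_le_univ σ.supportᶜ
      rwa [Fintype.card_coe, hX] at this
    rcases Nat.lt_or_ge 6 q with h7 | h7
    · rw [Nat.ModEq, Nat.mod_eq_of_lt (lt_of_le_of_lt hle h7), Nat.mod_eq_of_lt h7] at hmod
      exact hmod
    · have hq5' : q = 5 := by
        rcases (show q = 5 ∨ q = 6 by omega) with h | h
        · exact h
        · exfalso; rw [h] at hq; exact absurd hq (by norm_num)
      subst hq5'
      rw [Nat.ModEq] at hmod
      have h1 : 0 < σ.supportᶜ.card := by omega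
      obtain ⟨v, hv⟩ := Finset.card_pos.1 h1
      rw [Finset.mem_compl, Equiv.Perm.notMem_support] at hv
      obtain ⟨hvQ, hv1, hvz⟩ := (Finset.mem_filter.1 v.2).2
      have hzv : z * (v : H) ∈ X := by
        refine Finset.mem_filter.2 ⟨Finset.mem_univ _, Q.mul_mem hzQ hvQ, fun h => hvz ?_,
          fun h => hv1 (mul_eq_left.1 h)⟩
        rw [eq_inv_of_mul_eq_one_right h, inv_eq_of_mul_eq_one_left hz2]
      have hv' : σ ⟨z * v, hzv⟩ = ⟨z * v, hzv⟩ := Subtype.ext (by
        have e : g * (v : H) * g⁻¹ = v := congrArg Subtype.val hv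
        show g * (z * (v : H)) * g⁻¹ = z * v
        rw [← mul_assoc g z, ← (hcent g).eq, mul_assoc z g, mul_assoc z, e])
      have : 2 ≤ σ.supportᶜ.card := by
        refine le_trans (le_of_eq (Finset.card_pair ?_).symm)
          (Finset.card_le_card (Finset.insert_subset (Finset.mem_compl.2
            (Equiv.Perm.notMem_support.2 hv)) (Finset.singleton_subset_iff.2 (Finset.mem_compl.2
            (Equiv.Perm.notMem_support.2 hv')))))
        intro h
        exact hz1 (mul_eq_right.1 (congrArg Subtype.val h).symm)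
      omega
  have hfix : ∀ v ∈ X, Commute g v := by
    intro v hv
    have : σ.supportᶜ = Finset.univ := Finset.eq_univ_of_card _ (by rw [hall, Fintype.card_coe, hX])
    have hv' : σ ⟨v, hv⟩ = ⟨v, hv⟩ := Equiv.Perm.notMem_support.1 (Finset.mem_compl.1
      (this ▸ Finset.mem_univ _))
    exact mul_inv_eq_iff_eq_mul.1 (congrArg Subtype.val hv')
  have hgA : g ∈ A := hK ⟨hgC, hxu g (hfix x hxX) (hfix u huX)⟩
  apply hqA
  rw [← hgo, ← Subgroup.orderOf_mk g hgA]
  exact orderOf_dvd_natCard _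

end CfsgLib.Perm.RegularLinear
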