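import Mathlib
import Cfsg.Agent.Perm.IndexTwo
import Cfsg.Agent.Perm.RegularLinearMinimal
import Cfsg.Agent.WordLaws.Embed
import Cfsg.Agent.S0688
import Cfsg.Agent.S0689

/-!
Linear groups regular on the non-zero vectors: existence of a subgroup of index two.
-/

namespace CfsgLib.Perm.RegularLinear

theorem centre_slFive_sq (z : SLFive) (hz : z ∈ Subgroup.center SLFive) : z ^ 2 = 1 := by
  have h := pow_card_eq_one' (x := (⟨z, hz⟩ : Subgroup.center SLFive))
  rw [card_center_slFive] at h
  exact congrArg Subtype.val h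

theorem commutator_slFive : commutator SLFive = ⊤ := by
  haveI : Fact (Nat.Prime 5) := ⟨by norm_num⟩
  exact CfsgLib.WordLaws.commutator_SL2 (F := ZMod 5) (by rw [ZMod.card]; norm_num)

/-- In `SL(2,5) × M` no element of order three centralises a subgroup of index at most two,
if `M` has exponent prime to three. -/
theorem no_three_of_slFive {G : Type*} [Group G] [Finite G] (f : G →* SLFive)
    (hf : Function.Surjective f) (m : ℕ) (hm : ¬ 3 ∣ m) (hker : ∀ g, f g = 1 → g ^ m = 1)
    {x : G} (hx : orderOf x = 3) (C : Subgroup G) (hC : C.index ≤ 2)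
    (hcx : ∀ g ∈ C, g * x = x * g) : False := by
  have hle : commutator G ≤ C := by
    rcases (show C.index = 1 ∨ C.index = 2 by
      have : C.index ≠ 0 := Subgroup.index_ne_zero_of_finite
      omega) with h | h
    · rw [Subgroup.index_eq_one.1 h]; exact le_top
    · haveI := Subgroup.normal_of_index_eq_two h
      rw [commutator_def, Subgroup.commutator_le]
      intro a _ b _
      have hiff := fun a b => Subgroup.mul_mem_iff_of_index_two h (a := a) (b := b)
      rw [commutatorElement_def, hiff, hiff, hiff, C.inv_mem_iff, C.inv_mem_iff]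
      tauto
  have hmap : (commutator G).map f = ⊤ := by
    rw [commutator_def, Subgroup.map_commutator, Subgroup.map_top_of_surjective f hf,
      ← commutator_def, commutator_slFive]
  have hz : f x ∈ Subgroup.center SLFive := by
    rw [Subgroup.mem_center_iff]
    intro t
    obtain ⟨g, hg, rfl⟩ : t ∈ (commutator G).map f := hmap ▸ Subgroup.mem_top t
    rw [← map_mul, ← map_mul, hcx g (hle hg)]
  have h2 := centre_slFive_sq _ hz
  have h3 : f x ^ 3 = 1 := by rw [← map_pow, ← hx, pow_orderOf_eq_one, map_one]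
  have h1 : f x = 1 := by
    rw [pow_succ, h2, one_mul] at h3
    exact h3
  have := orderOf_dvd_of_pow_eq_one (hker x h1)
  rw [hx] at this
  exact hm this

variable {p : ℕ} [Fact p.Prime] {V : Type*} [AddCommGroup V] [Module (ZMod p) V] [Finite V]
  {H : Subgroup (V ≃ₗ[ZMod p] V)}
  (hreg : ∀ v w : V, v ≠ 0 → w ≠ 0 → ∃! h : H, (h : V ≃ₗ[ZMod p] V) v = w)
  [Nontrivial V]

include hreg

theorem exists_index_two (hp : p ≠ 2)
    (h3 : ∀ x : H, orderOf x = 3 → ∃ C : Subgroup H, C.index ≤ 2 ∧ ∀ g ∈ C, g * x = x * g) :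
    ∃ M : Subgroup H, M.index = 2 := by
  classical
  haveI := finite_group H hreg
  have hcard := card_add_one H hreg
  have heven : 2 ∣ Nat.card H := by
    rw [Module.natCard_eq_pow_finrank (K := ZMod p) (V := V), Nat.card_zmod] at hcard
    have hodd : Odd (p ^ Module.finrank (ZMod p) V) :=
      ((Fact.out : p.Prime).odd_of_ne_two hp).pow
    rw [← even_iff_two_dvd]
    rw [← hcard, Nat.odd_add_one, Nat.not_odd_iff_even] at hodd
    exact hodd
  by_cases hI : ∃ A : Subgroup H, A.Normal ∧ IsCyclic A ∧ ∀ W : Submodule (ZMod p) V,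
      (∀ a ∈ A, ∀ v ∈ W, ((a : H) : V ≃ₗ[ZMod p] V) v ∈ W) → W = ⊥ ∨ W = ⊤
  · obtain ⟨A, hAn, hAc, hirr⟩ := hI
    haveI := hAn; haveI := hAc
    haveI := centralizer_comm_of_irreducible hreg A hirr
    set C := Subgroup.centralizer (A : Set H) with hC
    haveI : C.Normal := by rw [hC]; infer_instance
    haveI : IsCyclic C := isCyclic_of_comm H hreg C
    have hcomm : ∀ a b : H, a * b * a⁻¹ * b⁻¹ ∈ C := by
      intro a b
      have hcA : ∀ φ ψ : MulAut A, φ * ψ = ψ * φ := fun φ ψ => by
        apply (IsCyclic.mulAutMulEquiv A).injective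
        rw [map_mul, map_mul, mul_comm]
      refine Subgroup.mem_centralizer_iff.2 fun y hy => ?_
      have h1 : MulAut.conjNormal (H := A) (a * b * a⁻¹ * b⁻¹) = 1 := by
        rw [map_mul, map_mul, map_mul, hcA (MulAut.conjNormal a) (MulAut.conjNormal b),
          mul_assoc (MulAut.conjNormal (H := A) b), ← map_mul (MulAut.conjNormal (H := A)) a,
          mul_inv_cancel, map_one, mul_one, ← map_mul (MulAut.conjNormal (H := A)) b,
          mul_inv_cancel, map_one]
      have h3 := congrArg (fun φ : MulAut A => ((φ ⟨y, hy⟩ : A) : H)) h1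
      simp only [MulAut.conjNormal_apply, MulAut.one_apply] at h3
      exact (mul_inv_eq_iff_eq_mul.1 h3).symm
    by_cases h2 : 2 ∣ C.index
    · exact IndexTwo.exists_of_comm_quotient C hcomm h2
    · haveI : Fact (Nat.Prime 2) := ⟨Nat.prime_two⟩
      obtain ⟨P⟩ := (inferInstance : Nonempty (Sylow 2 H))
      have hPC : (P : Subgroup H) ≤ C := by
        intro g hg
        obtain ⟨k, hk⟩ := P.isPGroup' ⟨g, hg⟩
        have hk' : g ^ 2 ^ k = 1 := congrArg Subtype.val hk
        rw [← QuotientGroup.eq_one_iff, ← orderOf_eq_one_iff]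
        refine Nat.eq_one_of_dvd_coprimes
          ((Nat.prime_two.coprime_iff_not_dvd.2 h2).pow_left k) ?_ ?_
        · exact orderOf_dvd_of_pow_eq_one (by rw [← QuotientGroup.mk_pow, hk', QuotientGroup.mk_one])
        · rw [Subgroup.index_eq_card]
          exact orderOf_dvd_natCard _
      haveI : IsCyclic P := isCyclic_of_injective (Subgroup.inclusion hPC)
        (Subgroup.inclusion_injective hPC)
      exact IndexTwo.exists_of_cyclic_sylow P heven
  · have hI' : ∀ A : Subgroup H, A.Normal → IsCyclic A → ∃ W : Submodule (ZMod p) V,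
        W ≠ ⊥ ∧ W ≠ ⊤ ∧ ∀ a ∈ A, ∀ v ∈ W, ((a : H) : V ≃ₗ[ZMod p] V) v ∈ W := by
      intro A hAn hAc
      by_contra h
      refine hI ⟨A, hAn, hAc, fun W hW => ?_⟩
      by_contra hW'
      rw [not_or] at hW'
      exact h ⟨W, hW'.1, hW'.2, hW⟩
    by_cases hs : Group.IsSolvable H
    · -- the soluble exceptional orders
      have hord : Nat.card H = 24 ∨ Nat.card H = 48 ∨ Nat.card H = 120 ∨ Nat.card H = 528 := by
        rcases Cfsg.Agent.S0688.result H hreg hI' hs with h | h | h | h <;> omega
      haveI : Fact (Nat.Prime 3) := ⟨Nat.prime_three⟩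
      obtain ⟨x, hx⟩ := exists_prime_orderOf_dvd_card' (G := H) 3
        (by rcases hord with h | h | h | h <;> rw [h] <;> norm_num)
      obtain ⟨C, hC2, hcx⟩ := h3 x hx
      rcases (show C.index = 1 ∨ C.index = 2 by
        have : C.index ≠ 0 := Subgroup.index_ne_zero_of_finite
        omega) with h | h
      swap
      · exact ⟨C, h⟩
      have hcen : ∀ g : H, g * x = x * g := fun g =>
        hcx g (Subgroup.index_eq_one.1 h ▸ Subgroup.mem_top g)
      set L := Subgroup.zpowers x with hL
      haveI : L.Normal := ⟨fun n hn g => by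
        obtain ⟨i, rfl⟩ := hn
        rw [((show Commute g x from hcen g).zpow_right i).eq, mul_inv_cancel_right]
        exact zpow_mem (Subgroup.mem_zpowers x) i⟩
      have hLc : Nat.card L = 3 := by rw [hL, Nat.card_zpowers, hx]
      have hLi : 3 * L.index = Nat.card H := hLc ▸ Subgroup.card_mul_index L
      -- a normal subgroup of two-power index
      have key : ∀ q : ℕ, q.Prime → ∀ k : ℕ, L.index = q * 2 ^ (k + 1) → k + 1 ≤ 4 →
          q = 5 ∧ k + 1 = 3 ∨ q = 11 ∧ k + 1 = 4 →
          ∃ M : Subgroup H, M.index = 2 := by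
        intro q hq k hidx hk hq'
        haveI := Fact.mk hq
        obtain ⟨Q⟩ := (inferInstance : Nonempty (Sylow q (H ⧸ L)))
        have hQc : Nat.card (Q : Subgroup (H ⧸ L)) = q := by
          obtain ⟨i, hi⟩ := IsPGroup.iff_card.1 Q.isPGroup'
          have hd : Nat.card (Q : Subgroup (H ⧸ L)) ∣ q * 2 ^ (k + 1) := by
            rw [← hidx, Subgroup.index_eq_card]; exact Subgroup.card_subgroup_dvd_card _
          rcases i with _ | _ | i
          · exfalso
            exact Q.ne_bot_of_dvd_card
              (by rw [← Subgroup.index_eq_card, hidx]; exact dvd_mul_right _ _)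
              (Subgroup.card_eq_one.1 (by simpa using hi))
          · simpa using hi
          · exfalso
            rw [hi] at hd
            have := (pow_dvd_pow q (show 2 ≤ i + 1 + 1 by omega)).trans hd
            rcases hq' with ⟨rfl, hk'⟩ | ⟨rfl, hk'⟩ <;> rw [hk'] at this <;> norm_num at this
        have hone : Nat.card (Sylow q (H ⧸ L)) = 1 := by
          have h1 := card_sylow_modEq_one q (H ⧸ L)
          have h2 := Q.card_dvd_index
          have h3 := Subgroup.card_mul_index (Q : Subgroup (H ⧸ L))
          rw [hQc, ← Subgroup.index_eq_card L, hidx] at h3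
          rw [Nat.eq_of_mul_eq_mul_left hq.pos h3] at h2
          obtain ⟨i, hik, hi⟩ := (Nat.dvd_prime_pow Nat.prime_two).1 h2
          rw [hi] at h1 ⊢
          rcases hq' with ⟨rfl, hk'⟩ | ⟨rfl, hk'⟩ <;> rw [hk'] at hik <;>
            interval_cases i <;> first | rfl | (exfalso; revert h1; decide)
        haveI : Subsingleton (Sylow q (H ⧸ L)) := (Nat.card_eq_one_iff_unique.1 hone).1
        haveI : (Q : Subgroup (H ⧸ L)).Normal := Q.normal_of_subsingleton
        haveI : ((Q : Subgroup (H ⧸ L)).comap (QuotientGroup.mk' L)).Normal :=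
          Subgroup.Normal.comap inferInstance _
        refine IndexTwo.exists_of_two_group_quotient
          ((Q : Subgroup (H ⧸ L)).comap (QuotientGroup.mk' L)) (k := k) ?_
        rw [Subgroup.index_comap_of_surjective _ (QuotientGroup.mk'_surjective L)]
        have h3 := Subgroup.card_mul_index (Q : Subgroup (H ⧸ L))
        rw [hQc, ← Subgroup.index_eq_card L, hidx] at h3
        exact Nat.eq_of_mul_eq_mul_left hq.pos h3
      rcases hord with h | h | h | h <;> rw [h] at hLi
      · exact IndexTwo.exists_of_two_group_quotient L (k := 2) (by omega)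
      · exact IndexTwo.exists_of_two_group_quotient L (k := 3) (by omega)
      · exact key 5 (by norm_num) 2 (by omega) (by omega) (Or.inl ⟨rfl, rfl⟩)
      · exact key 11 (by norm_num) 3 (by omega) (by omega) (Or.inr ⟨rfl, rfl⟩)
    · -- the insoluble groups
      exfalso
      obtain ⟨m, hm, f, hf, hker⟩ : ∃ m : ℕ, ¬ 3 ∣ m ∧ ∃ f : H →* SLFive,
          Function.Surjective f ∧ ∀ g, f g = 1 → g ^ m = 1 := by
        have key : ∀ m : ℕ, NeZero m → (H ≃* SLFive × Multiplicative (ZMod m)) →
            ∃ f : H →* SLFive, Function.Surjective f ∧ ∀ g, f g = 1 → g ^ m = 1 := by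
          intro m _ e
          refine ⟨(MonoidHom.fst _ _).comp e.toMonoidHom,
            Prod.fst_surjective.comp e.surjective, fun g hg => e.injective ?_⟩
          rw [map_pow, map_one]
          refine Prod.ext ?_ ?_
          · rw [Prod.pow_fst, show (e g).1 = 1 from hg, one_pow]; rfl
          · rw [Prod.pow_snd]
            have := pow_card_eq_one' (x := (e g).2)
            rwa [Nat.card_congr Multiplicative.toAdd, Nat.card_zmod] at this
        rcases Cfsg.Agent.S0689.result H hreg hs with ⟨-, ⟨e⟩⟩ | ⟨-, ⟨e⟩⟩ | ⟨-, ⟨e⟩⟩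
        · exact ⟨1, by norm_num, e.toMonoidHom, e.surjective, fun g hg => by
            rw [pow_one]; exact e.injective (hg.trans (map_one e).symm)⟩
        · exact ⟨7, by norm_num, key 7 inferInstance e⟩
        · exact ⟨29, by norm_num, key 29 inferInstance e⟩
      haveI : Fact (Nat.Prime 3) := ⟨Nat.prime_three⟩
      obtain ⟨x, hx⟩ := exists_prime_orderOf_dvd_card' (G := H) 3
        ((show 3 ∣ Nat.card SLFive by rw [card_slFive]; norm_num).trans
          (Subgroup.card_dvd_of_surjective f hf))
      obtain ⟨C, hC, hcx⟩ := h3 x hx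
      exact no_three_of_slFive f hf m hm hker hx C hC hcx

end CfsgLib.Perm.RegularLinear
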