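import Mathlib
import Cfsg.Agent.Perm.RegularLinearIndexTwo

/-!
Automorphism groups regular on the non-trivial elements: a subgroup of index two.
-/

namespace CfsgLib.Perm.RegularLinear

/-- A group of automorphisms regular on the non-trivial elements of an abelian group of exponent
an odd prime has a subgroup of index two, under the centraliser hypothesis. -/
theorem exists_index_two_of_regular_aut {K H : Type*} [CommGroup K] [Finite K] [Nontrivial K]
    [Group H] {p : ℕ} [Fact p.Prime] (hp : p ≠ 2) (hexp : ∀ k : K, k ^ p = 1) (ρ : H →* MulAut K)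
    (hreg : ∀ k l : K, k ≠ 1 → l ≠ 1 → ∃! h : H, ρ h k = l)
    (h3 : ∀ x : H, orderOf x = 3 → ∃ C : Subgroup H, C.index ≤ 2 ∧ ∀ g ∈ C, g * x = x * g) :
    ∃ M : Subgroup H, M.index = 2 := by
  letI : Module (ZMod p) (Additive K) := AddCommGroup.zmodModule (n := p) fun v =>
    Additive.toMul.injective (hexp (Additive.toMul v))
  let lin : H →* (Additive K ≃ₗ[ZMod p] Additive K) :=
    { toFun := fun h =>
        { toLinearMap := (MulEquiv.toAdditive (ρ h)).toAddMonoidHom.toZModLinearMap p
          invFun := (MulEquiv.toAdditive (ρ h)).symm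
          left_inv := (MulEquiv.toAdditive (ρ h)).left_inv
          right_inv := (MulEquiv.toAdditive (ρ h)).right_inv }
      map_one' := LinearEquiv.ext fun v => by
        show Additive.ofMul (ρ 1 (Additive.toMul v)) = v
        rw [map_one]; rfl
      map_mul' := fun g h => LinearEquiv.ext fun v => by
        show Additive.ofMul (ρ (g * h) (Additive.toMul v)) = _
        rw [map_mul]; rfl }
  have hlin : ∀ (h : H) (v : Additive K), Additive.toMul (lin h v) = ρ h (Additive.toMul v) :=
    fun h v => rfl
  obtain ⟨k₀, hk₀⟩ := exists_ne (1 : K)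
  have hinj : Function.Injective lin := by
    intro g h he
    refine (hreg k₀ (ρ g k₀) hk₀ (fun h' => hk₀ ((ρ g).map_eq_one_iff.1 h'))).unique rfl ?_
    have := hlin g (Additive.ofMul k₀)
    rw [he, hlin] at this
    exact this
  have hregL : ∀ v w : Additive K, v ≠ 0 → w ≠ 0 →
      ∃! l : lin.range, (l : Additive K ≃ₗ[ZMod p] Additive K) v = w := by
    intro v w hv hw
    obtain ⟨h, he, hu⟩ := hreg (Additive.toMul v) (Additive.toMul w)
      (fun e => hv (Additive.toMul.injective e)) (fun e => hw (Additive.toMul.injective e))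
    refine ⟨⟨lin h, h, rfl⟩, Additive.toMul.injective ((hlin h v).trans he), ?_⟩
    rintro ⟨_, g, rfl⟩ hg
    refine Subtype.ext (congrArg lin (hu g ?_))
    show ρ g (Additive.toMul v) = Additive.toMul w
    rw [← hlin]
    exact congrArg Additive.toMul hg
  let e : H ≃* lin.range := MonoidHom.ofInjective hinj
  obtain ⟨M, hM⟩ := exists_index_two hregL hp fun y hy => by
    obtain ⟨C, hCi, hCc⟩ := h3 (e.symm y) (by rw [MulEquiv.orderOf_eq, hy])
    refine ⟨C.map e.toMonoidHom, ?_, ?_⟩
    · rw [Subgroup.index_map_of_bijective (f := e.toMonoidHom) e.bijective]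
      exact hCi
    · rintro _ ⟨g, hg, rfl⟩
      show e g * y = y * e g
      apply e.symm.injective
      rw [map_mul, map_mul, e.symm_apply_apply]
      exact hCc g hg
  exact ⟨M.comap e.toMonoidHom, by rw [Subgroup.index_comap_of_surjective (f := e.toMonoidHom) M e.surjective, hM]⟩

end CfsgLib.Perm.RegularLinear
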