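import Mathlib

/-!
Certificates for explicit finite subgroups of `GL(2, p)` which are regular on non-zero vectors.
-/

namespace CfsgLib.Perm.RegularMatrix

/-- A `2 × 2` matrix as a quadruple. -/
abbrev Quad (p : ℕ) := ZMod p × ZMod p × ZMod p × ZMod p

variable {p : ℕ}

/-- Product of quadruples. -/
def qmul (x y : Quad p) : Quad p :=
  (x.1 * y.1 + x.2.1 * y.2.2.1, x.1 * y.2.1 + x.2.1 * y.2.2.2,
    x.2.2.1 * y.1 + x.2.2.2 * y.2.2.1, x.2.2.1 * y.2.1 + x.2.2.2 * y.2.2.2)

/-- Scalar multiple. -/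
def qsmul (c : ZMod p) (x : Quad p) : Quad p := (c * x.1, c * x.2.1, c * x.2.2.1, c * x.2.2.2)

/-- Determinant. -/
def qdet (x : Quad p) : ZMod p := x.1 * x.2.2.2 - x.2.1 * x.2.2.1

/-- Determinant of `x - 1`. -/
def qdetSub (x : Quad p) : ZMod p := (x.1 - 1) * (x.2.2.2 - 1) - x.2.1 * x.2.2.1

/-- The matrix of a quadruple. -/
def toMat (x : Quad p) : Matrix (Fin 2) (Fin 2) (ZMod p) := !![x.1, x.2.1; x.2.2.1, x.2.2.2]

theorem toMat_mul (x y : Quad p) : toMat (qmul x y) = toMat x * toMat y := by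
  ext i j
  fin_cases i <;> fin_cases j <;> simp [toMat, qmul, Matrix.mul_apply, Fin.sum_univ_two]

theorem toMat_smul (c : ZMod p) (x : Quad p) : toMat (qsmul c x) = c • toMat x := by
  ext i j
  fin_cases i <;> fin_cases j <;> simp [toMat, qsmul]

theorem toMat_one : toMat ((1, 0, 0, 1) : Quad p) = 1 := by
  ext i j
  fin_cases i <;> fin_cases j <;> simp [toMat]

theorem det_toMat (x : Quad p) : (toMat x).det = qdet x := by
  simp [toMat, qdet, Matrix.det_fin_two]

theorem det_toMat_sub (x : Quad p) : (toMat x - 1).det = qdetSub x := by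
  simp [toMat, qdetSub, Matrix.det_fin_two]

open scoped Matrix

/-- The main certificate. -/
theorem regular [hp : Fact p.Prime] {N M : ℕ} [NeZero N] [NeZero M]
    (els : Fin N → Quad p) (c : ZMod p) (S : Set (Matrix.GeneralLinearGroup (Fin 2) (ZMod p)))
    (hcard : N * M = p ^ 2 - 1) (hone : els 0 = (1, 0, 0, 1))
    (hdet : ∀ i, qdet (els i) = 1) (hinj : ∀ i j, els i = els j → i = j)
    (hcM : c ^ M = 1) (hc : ∀ e e' : Fin M, c ^ (2 * e.val) = c ^ (2 * e'.val) → e = e')
    (hfree : ∀ i (e : Fin M), (i = 0 ∧ e = 0) ∨ qdetSub (qsmul (c ^ e.val) (els i)) ≠ 0)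
    (hstep : ∀ g ∈ S, ∃ (s : Fin N → Fin N) (u : ℕ), ∀ i,
      (toMat (els i) * (g : Matrix (Fin 2) (Fin 2) (ZMod p))) = c ^ u • toMat (els (s i)))
    (hmem : ∀ i, i ≠ 0 → ∃ g ∈ S, ∃ j : Fin N, j < i ∧
      toMat (els i) = toMat (els j) * (g : Matrix (Fin 2) (Fin 2) (ZMod p)))
    (hscal : M = 1 ∨ ∃ g ∈ S, (g : Matrix (Fin 2) (Fin 2) (ZMod p)) = c • 1) :
    Nat.card (Subgroup.closure S) = p ^ 2 - 1 ∧ ∀ v w : Fin 2 → ZMod p, v ≠ 0 → w ≠ 0 →
      ∃! h : Subgroup.closure S, Matrix.mulVec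
        ((h : Matrix.GeneralLinearGroup (Fin 2) (ZMod p)) : Matrix (Fin 2) (Fin 2) (ZMod p)) v = w := by
  classical
  -- the shape of an element of the closure
  have hshape : ∀ h ∈ Subgroup.closure S, ∃ i, ∃ e : Fin M,
      (h : Matrix (Fin 2) (Fin 2) (ZMod p)) = toMat (qsmul (c ^ e.val) (els i)) := by
    have hmod : ∀ k, c ^ k = c ^ (k % M) := fun k => by
      conv_lhs => rw [← Nat.mod_add_div k M, pow_add, pow_mul, hcM, one_pow, mul_one]
    suffices ∀ h ∈ Subgroup.closure S, ∀ x : Matrix (Fin 2) (Fin 2) (ZMod p),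
        (∃ i k, x = c ^ k • toMat (els i)) →
          ∃ i k, x * (h : Matrix (Fin 2) (Fin 2) (ZMod p)) = c ^ k • toMat (els i) by
      intro h hh
      obtain ⟨i, k, hk⟩ := this h hh 1 ⟨0, 0, by simp [hone, toMat_one]⟩
      rw [one_mul] at hk
      refine ⟨i, ⟨k % M, Nat.mod_lt _ (Nat.pos_of_neZero M)⟩, ?_⟩
      rw [hk, toMat_smul, hmod k]
    intro h hh
    have hsub : Subgroup.closure S ≤ (⊤ : Subgroup (Matrix.GeneralLinearGroup (Fin 2) (ZMod p))) :=
      le_top
    have hh' : h ∈ Submonoid.closure S := by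
      rw [← Subgroup.closure_toSubmonoid_of_finite]; exact hh
    induction hh' using Submonoid.closure_induction with
    | mem g hg =>
      rintro x ⟨i, k, rfl⟩
      obtain ⟨s, u, hs⟩ := hstep g hg
      exact ⟨s i, k + u, by rw [smul_mul_assoc, hs, smul_smul, ← pow_add]⟩
    | one => intro x hx; simpa using hx
    | mul a b ha hb iha ihb =>
      intro x hx
      obtain ⟨i, k, hk⟩ := iha (Subgroup.le_closure_toSubmonoid S ha) x hx
      rw [Units.val_mul, ← mul_assoc]
      exact ihb (Subgroup.le_closure_toSubmonoid S hb) _ ⟨i, k, hk⟩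
  -- the listed elements lie in the closure
  have hels : ∀ n : ℕ, ∀ i : Fin N, i.val = n → ∃ h ∈ Subgroup.closure S,
      (h : Matrix (Fin 2) (Fin 2) (ZMod p)) = toMat (els i) := by
    intro n
    induction n using Nat.strong_induction_on with
    | _ n ih =>
      intro i hi
      by_cases h0 : i = 0
      · exact ⟨1, one_mem _, by rw [h0, hone, toMat_one]; rfl⟩
      obtain ⟨g, hg, j, hj, he⟩ := hmem i h0
      obtain ⟨h, hh, hhe⟩ := ih j.val (hi ▸ hj) j rfl
      exact ⟨h * g, mul_mem hh (Subgroup.subset_closure hg), by rw [Units.val_mul, hhe, he]⟩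
  have hall : ∀ (q : Fin N × Fin M), ∃ h ∈ Subgroup.closure S,
      (h : Matrix (Fin 2) (Fin 2) (ZMod p)) = toMat (qsmul (c ^ q.2.val) (els q.1)) := by
    rintro ⟨i, e⟩
    obtain ⟨h, hh, hhe⟩ := hels _ i rfl
    rcases hscal with hM | ⟨g, hg, hge⟩
    · refine ⟨h, hh, ?_⟩
      have : e.val = 0 := by omega
      rw [hhe, toMat_smul, this, pow_zero, one_smul]
    · refine ⟨h * g ^ e.val, mul_mem hh (pow_mem (Subgroup.subset_closure hg) _), ?_⟩
      rw [Units.val_mul, Units.val_pow_eq_pow_val, hhe, hge, toMat_smul, smul_pow, one_pow,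
        mul_smul_comm, mul_one]
  choose el hel hele using hall
  let F : Fin N × Fin M → Subgroup.closure S := fun q => ⟨el q, hel q⟩
  have hFinj : Function.Injective F := by
    intro q r h
    have h' : toMat (qsmul (c ^ q.2.val) (els q.1)) = toMat (qsmul (c ^ r.2.val) (els r.1)) := by
      rw [← hele, ← hele, show el q = el r from congrArg Subtype.val h]
    have hd := congrArg Matrix.det h'
    rw [toMat_smul, toMat_smul, Matrix.det_smul, Matrix.det_smul, det_toMat, det_toMat, hdet, hdet,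
      mul_one, mul_one, Fintype.card_fin, ← pow_mul, ← pow_mul, mul_comm q.2.val,
      mul_comm r.2.val] at hd
    have he := hc _ _ hd
    rw [toMat_smul, toMat_smul, he] at h'
    have hne : c ^ r.2.val ≠ 0 := pow_ne_zero _ (fun h0 => by
      rw [h0, zero_pow (NeZero.ne M)] at hcM
      exact zero_ne_one hcM)
    have h'' := smul_right_injective (Matrix (Fin 2) (Fin 2) (ZMod p)) hne h'
    refine Prod.ext (hinj _ _ ?_) he
    have e00 := congrFun (congrFun h'' 0) 0
    have e01 := congrFun (congrFun h'' 0) 1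
    have e10 := congrFun (congrFun h'' 1) 0
    have e11 := congrFun (congrFun h'' 1) 1
    simp only [toMat, Matrix.of_apply, Matrix.cons_val_zero, Matrix.cons_val_one] at e00 e01 e10 e11
    exact Prod.ext e00 (Prod.ext e01 (Prod.ext e10 e11))
  have hFsurj : Function.Surjective F := by
    rintro ⟨h, hh⟩
    obtain ⟨i, e, he⟩ := hshape h hh
    exact ⟨(i, e), Subtype.ext (Units.ext ((hele (i, e)).trans he.symm))⟩
  have hcl : Nat.card (Subgroup.closure S) = p ^ 2 - 1 := by
    rw [← Nat.card_congr (Equiv.ofBijective F ⟨hFinj, hFsurj⟩), Nat.card_prod, Nat.card_fin,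
      Nat.card_fin, hcard]
  refine ⟨hcl, fun v w hv hw => ?_⟩
  let T := {x : Fin 2 → ZMod p // x ≠ 0}
  let act : Subgroup.closure S → T := fun h =>
    ⟨Matrix.mulVec ((h : Matrix.GeneralLinearGroup (Fin 2) (ZMod p)) : Matrix (Fin 2) (Fin 2) (ZMod p)) v,
      fun h0 => hv (by
        have := congrArg (Matrix.mulVec (((h : Matrix.GeneralLinearGroup (Fin 2) (ZMod p))⁻¹ :
          Matrix.GeneralLinearGroup (Fin 2) (ZMod p)) : Matrix (Fin 2) (Fin 2) (ZMod p))) h0
        rwa [Matrix.mulVec_mulVec, ← Units.val_mul, inv_mul_cancel, Units.val_one,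
          Matrix.one_mulVec, Matrix.mulVec_zero] at this)⟩
  have hinjact : Function.Injective act := by
    intro g h he
    have he' := congrArg Subtype.val he
    simp only [act] at he'
    -- `h⁻¹ * g` fixes `v`
    obtain ⟨i, e, hie⟩ := hshape _ (h⁻¹ * g).2
    have hfix : Matrix.mulVec (toMat (qsmul (c ^ e.val) (els i))) v = v := by
      rw [← hie]
      simp only [Subgroup.coe_mul, Subgroup.coe_inv, Units.val_mul, ← Matrix.mulVec_mulVec, he']
      rw [Matrix.mulVec_mulVec, ← Units.val_mul, inv_mul_cancel]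
      simp
    rcases hfree i e with ⟨rfl, rfl⟩ | hne
    · have h1 : (h⁻¹ * g : Subgroup.closure S) = 1 := by
        apply Subtype.ext
        apply Units.ext
        rw [hie, toMat_smul, hone, toMat_one, Fin.val_zero, pow_zero, one_smul]
        rfl
      exact (inv_mul_eq_one.1 h1).symm
    · exfalso
      apply hne
      rw [← det_toMat_sub]
      exact Matrix.exists_mulVec_eq_zero_iff.1 ⟨v, hv, by rw [Matrix.sub_mulVec, hfix, Matrix.one_mulVec, sub_self]⟩
  have hTcard : Nat.card T = p ^ 2 - 1 := by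
    rw [Nat.card_eq_fintype_card, Fintype.card_subtype_compl, Fintype.card_subtype_eq]
    simp [ZMod.card]
  haveI : Finite (Subgroup.closure S) := inferInstance
  have hb : Function.Bijective act :=
    (Nat.bijective_iff_injective_and_card act).2 ⟨hinjact, hcl.trans hTcard.symm⟩
  obtain ⟨g, hg⟩ := hb.2 ⟨w, hw⟩
  exact ⟨g, congrArg Subtype.val hg, fun h hh => hinjact (hg.symm ▸ Subtype.ext hh)⟩

end CfsgLib.Perm.RegularMatrix
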