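import Mathlib
import Cfsg.Agent.Perm.SharplyThree

/-!
Sharply 3-transitive groups: the centraliser of an element of order three of a two-point stabiliser.
-/

namespace CfsgLib.Perm.SharplyThree

variable {G : Type*} [Group G] {α : Type*} [MulAction G α] [Finite α] [Finite G]
  (h3 : MulAction.IsMultiplyPretransitive G α 3)
  (hs : ∀ (g : G) (a b c : α), a ≠ b → a ≠ c → b ≠ c → g • a = a → g • b = b → g • c = c → g = 1)

include h3 hs

/-- An element of order three of a two-point stabiliser commutes with a subgroup of index at most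
two of that stabiliser. -/
theorem exists_centralizer_order_three {a b c : α} (hab : a ≠ b) (hc : c ≠ a ∧ c ≠ b) {x : G}
    (hxH : x ∈ MulAction.stabilizer G a ⊓ MulAction.stabilizer G b) (hx3 : orderOf x = 3) :
    ∃ C : Subgroup G, C ≤ MulAction.stabilizer G a ⊓ MulAction.stabilizer G b ∧
      (C.subgroupOf (MulAction.stabilizer G a ⊓ MulAction.stabilizer G b)).index ≤ 2 ∧
      ∀ g ∈ C, g * x = x * g := by
  classical
  haveI := Fintype.ofFinite α
  set H : Subgroup G := MulAction.stabilizer G a ⊓ MulAction.stabilizer G b with hH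
  obtain ⟨s, hsa, hsb, hsc, hss⟩ := exists_swap h3 hs hab (Ne.symm hc.1) (Ne.symm hc.2)
  have hs1 : s ≠ 1 := fun h => hab (by rw [h, one_smul] at hsa; exact hsa)
  have hinv : s⁻¹ = s := inv_eq_of_mul_eq_one_right hss
  have hfix : Nat.card (MulAction.fixedBy α s) ≤ 2 := by
    by_contra h
    rw [Nat.card_coe_set_eq, Set.ncard_eq_toFinset_card'] at h
    obtain ⟨u, v, w, hu, hv, hw, huv, huw, hvw⟩ := Finset.two_lt_card_iff.1 (not_le.1 h)
    simp only [Set.mem_toFinset, MulAction.mem_fixedBy] at hu hv hw
    exact hs1 (hs s u v w huv huw hvw hu hv hw)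
  have key : ∀ h ∈ H, s * (h * s * h⁻¹) * x = x * (s * (h * s * h⁻¹)) := by
    intro h hh
    have hinj : Function.Injective (fun z : α => h • z) := MulAction.injective h
    have e1 := swap_inverts h3 hs hab (Ne.symm hc.1) (Ne.symm hc.2)
      hxH.1 hxH.2 hx3 hsa hsb hsc
    have ha' : h • a = a := hh.1
    have hb' : h • b = b := hh.2
    have ia : h⁻¹ • a = a := inv_smul_eq_iff.2 ha'.symm
    have ib : h⁻¹ • b = b := inv_smul_eq_iff.2 hb'.symm
    have e2 := swap_inverts h3 hs hab
      (c := h • c) (fun h' => hc.1 (hinj (h'.symm.trans ha'.symm)))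
      (fun h' => hc.2 (hinj (h'.symm.trans hb'.symm))) hxH.1 hxH.2 hx3
      (s := h * s * h⁻¹) (by rw [mul_smul, mul_smul, ia, hsa, hb'])
      (by rw [mul_smul, mul_smul, ib, hsb, ha'])
      (by rw [mul_smul, mul_smul, inv_smul_smul, hsc])
    generalize hr : h * s * h⁻¹ = r at e2 ⊢
    have hrx : r * x = x⁻¹ * r := by rw [← e2]; group
    have hsx : s * x⁻¹ = x * s := by
      have : s * x⁻¹ * s⁻¹ = x := by
        calc s * x⁻¹ * s⁻¹ = (s * x * s⁻¹)⁻¹ := by group
          _ = x := by rw [e1, inv_inv]
      calc s * x⁻¹ = s * x⁻¹ * s⁻¹ * s := by group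
        _ = x * s := by rw [this]
    calc s * r * x = s * (r * x) := mul_assoc _ _ _
      _ = s * x⁻¹ * r := by rw [hrx, mul_assoc]
      _ = x * (s * r) := by rw [hsx, mul_assoc]
  let C : Subgroup G := H ⊓ Subgroup.centralizer ({x} : Set G)
  have hmem : ∀ h ∈ H, s * (h * s * h⁻¹) ∈ C := by
    intro h hh
    refine ⟨⟨?_, ?_⟩, Subgroup.mem_centralizer_singleton_iff.2 (key h hh)⟩
    · show (s * (h * s * h⁻¹)) • a = a
      rw [mul_smul, mul_smul, mul_smul, inv_smul_eq_iff.2 (show a = h • a from hh.1.symm),
        hsa, show h • b = b from hh.2, hsb]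
    · show (s * (h * s * h⁻¹)) • b = b
      rw [mul_smul, mul_smul, mul_smul, inv_smul_eq_iff.2 (show b = h • b from hh.2.symm),
        hsb, show h • a = a from hh.1, hsa]
  -- two-to-one map
  haveI : Finite G := inferInstance
  haveI := Fintype.ofFinite G
  have hbound : Nat.card H ≤ 2 * Nat.card C := by
    rw [Nat.card_eq_fintype_card, Nat.card_eq_fintype_card]
    let f : H → C := fun h => ⟨s * ((h : G) * s * (h : G)⁻¹), hmem h h.2⟩
    have hfib : ∀ z : C, (Finset.univ.filter fun h : H => f h = z).card ≤ 2 := by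
      intro z
      by_contra hlt
      obtain ⟨u, v, w, hu, hv, hw, huv, huw, hvw⟩ := Finset.two_lt_card_iff.1 (not_le.1 hlt)
      simp only [Finset.mem_filter, Finset.mem_univ, true_and] at hu hv hw
      have him : ∀ g h : H, f g = f h → (g : G)⁻¹ • ((h : G) • c) ∈ MulAction.fixedBy α s := by
        intro g h he
        have he' : s * ((g : G) * s * (g : G)⁻¹) = s * ((h : G) * s * (h : G)⁻¹) :=
          congrArg Subtype.val he
        have e3 := mul_left_cancel he'
        rw [MulAction.mem_fixedBy, smul_smul, smul_smul]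
        have : s * ((g : G)⁻¹ * (h : G)) = (g : G)⁻¹ * (h : G) * s := by
          calc s * ((g : G)⁻¹ * (h : G)) = (g : G)⁻¹ * ((g : G) * s * (g : G)⁻¹) * (h : G) := by
                group
            _ = (g : G)⁻¹ * ((h : G) * s * (h : G)⁻¹) * (h : G) := by rw [e3]
            _ = (g : G)⁻¹ * (h : G) * s := by group
        rw [mul_assoc, this, mul_smul, hsc, mul_smul]
      have hsub : ({(u : G)⁻¹ • ((u : G) • c), (u : G)⁻¹ • ((v : G) • c),
          (u : G)⁻¹ • ((w : G) • c)} : Finset α) ⊆ (MulAction.fixedBy α s).toFinset := by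
        intro z hz
        simp only [Finset.mem_insert, Finset.mem_singleton] at hz
        rw [Set.mem_toFinset]
        rcases hz with rfl | rfl | rfl
        · exact him u u rfl
        · exact him u v (hu.trans hv.symm)
        · exact him u w (hu.trans hw.symm)
      have hne : ∀ g h : H, g ≠ h → (u : G)⁻¹ • ((g : G) • c) ≠ (u : G)⁻¹ • ((h : G) • c) := by
        intro g h hgh he
        have he' := MulAction.injective (u : G)⁻¹ he
        refine hgh (Subtype.ext (inv_mul_eq_one.1 (hs _ a b c hab (Ne.symm hc.1) (Ne.symm hc.2)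
          ?_ ?_ ?_)).symm) <;> rw [mul_smul, inv_smul_eq_iff]
        · exact (show (g : G) • a = a from g.2.1).trans (show (h : G) • a = a from h.2.1).symm
        · exact (show (g : G) • b = b from g.2.2).trans (show (h : G) • b = b from h.2.2).symm
        · exact he'
      have := Finset.card_le_card hsub
      rw [Finset.card_eq_three.2 ⟨_, _, _, hne u v huv, hne u w huw, hne v w hvw, rfl⟩,
        ← Set.ncard_eq_toFinset_card', ← Nat.card_coe_set_eq] at this
      omega
    have := Finset.card_le_mul_card_image (s := (Finset.univ : Finset H)) (f := f) 2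
      (fun z _ => hfib z)
    rw [Finset.card_univ] at this
    exact this.trans (Nat.mul_le_mul_left 2 (Finset.card_le_univ _))
  have hidx : (C.subgroupOf H).index ≤ 2 := by
    have h1 := Subgroup.card_mul_index (C.subgroupOf H)
    have h2 : Nat.card (C.subgroupOf H) = Nat.card C :=
      Nat.card_congr (Subgroup.subgroupOfEquivOfLe (inf_le_left : C ≤ H)).toEquiv
    rw [h2] at h1
    by_contra h
    have hC : 0 < Nat.card C := Nat.card_pos
    nlinarith
  exact ⟨C, inf_le_left, hidx, fun g hg => Subgroup.mem_centralizer_singleton_iff.1 hg.2⟩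

end CfsgLib.Perm.SharplyThree
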