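import Mathlib
import Cfsg.Agent.Perm.CircRing

/-!
Transitive groups with an element of prime order `p` having two cycles: the commutant of the
permutation module seen as a ring of elements of the group ring of the cyclic group, and the
resulting structure of the orbitals (Wielandt's theorem on degree `2p`).
-/

namespace CfsgLib.Perm.TwoPrime

open Matrix AddMonoidAlgebra CfsgLib.Perm.CircRing

/-- An element with two cycles of length `p`, with coordinates. -/
structure Frame (G : Type*) [Group G] (α : Type*) [MulAction G α] (p : ℕ) where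
  /-- the coordinates -/
  e : Bool × ZMod p ≃ α
  /-- the element -/
  x : G
  hx : ∀ i z, x • e (i, z) = e (i, z + 1)

/-- For 2 by 2 matrices with a common eigenvector, `trace - eigenvalue` is multiplicative. -/
theorem triang {K : Type*} [Field K] {M N : Bool → Bool → K} {v : Bool → K} {e f : K}
    (hv : v true ≠ 0 ∨ v false ≠ 0) (hM : ∀ i, M i true * v true + M i false * v false = e * v i)
    (hN : ∀ i, N i true * v true + N i false * v false = f * v i) :
    (M true true * N true true + M true false * N false true) +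
      (M false true * N true false + M false false * N false false) - e * f =
      (M true true + M false false - e) * (N true true + N false false - f) := by
  have h1 := hM true
  have h2 := hM false
  have h3 := hN true
  have h4 := hN false
  by_cases ht : v true = 0
  · have hf : v false ≠ 0 := hv.resolve_left (by simp [ht])
    simp only [ht, mul_zero, zero_add, mul_eq_zero, hf, or_false] at h1 h3
    simp only [ht, mul_zero, zero_add] at h2 h4
    have e2 : M false false = e := mul_right_cancel₀ hf h2
    have e4 : N false false = f := mul_right_cancel₀ hf h4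
    rw [h1, h3, e2, e4]
    ring
  · obtain ⟨r, hr⟩ : ∃ r, v false = r * v true :=
      ⟨v false / v true, (div_mul_cancel₀ _ ht).symm⟩
    rw [hr] at h1 h2 h3 h4
    have e1 : M true true = e - r * M true false := by
      apply mul_right_cancel₀ ht
      linear_combination h1
    have e2 : M false true = e * r - r * M false false := by
      apply mul_right_cancel₀ ht
      linear_combination h2
    have e3 : N true true = f - r * N true false := by
      apply mul_right_cancel₀ ht
      linear_combination h3
    have e4 : N false true = f * r - r * N false false := by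
      apply mul_right_cancel₀ ht
      linear_combination h4
    rw [e1, e2, e3, e4]
    ring

section Inv

variable (G : Type*) [Group G] (α : Type*) [Fintype α] [DecidableEq α] [MulAction G α]

/-- The invariant integral matrices. -/
def inv : Subalgebra ℤ (Matrix α α ℤ) where
  carrier := {M | ∀ (g : G) (a b : α), M (g • a) (g • b) = M a b}
  add_mem' := by
    intro M N hM hN g a b
    simp [hM g a b, hN g a b]
  mul_mem' := by
    intro M N hM hN g a b
    rw [Matrix.mul_apply, Matrix.mul_apply]
    refine (Fintype.sum_equiv (MulAction.toPerm g) _ _ fun c => ?_).symm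
    simp [hM g a c, hN g c b]
  algebraMap_mem' := by
    intro r g a b
    simp [Matrix.algebraMap_matrix_apply]

variable {G α}

theorem mem_inv {M : Matrix α α ℤ} : M ∈ inv G α ↔ ∀ (g : G) (a b : α), M (g • a) (g • b) = M a b :=
  Iff.rfl

theorem transpose_mem {M : Matrix α α ℤ} (hM : M ∈ inv G α) : Mᵀ ∈ inv G α :=
  fun g a b => hM g b a

/-- The orbital of a pair. -/
def cls (a b : α) : MulAction.orbitRel.Quotient G (α × α) := Quotient.mk'' (a, b)

omit [Fintype α] [DecidableEq α] in
theorem cls_smul (g : G) (a b : α) : cls (G := G) (g • a) (g • b) = cls a b :=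
  Quotient.sound' ⟨g, rfl⟩

omit [Fintype α] [DecidableEq α] in
theorem cls_eq_iff {a b c d : α} :
    cls (G := G) a b = cls c d ↔ ∃ g : G, g • c = a ∧ g • d = b := by
  constructor
  · intro h
    obtain ⟨g, hg⟩ := Quotient.exact' h
    exact ⟨g, congrArg Prod.fst hg, congrArg Prod.snd hg⟩
  · rintro ⟨g, rfl, rfl⟩
    exact cls_smul g c d

open Classical in
/-- The adjacency matrix of an orbital. -/
noncomputable def adj (o : MulAction.orbitRel.Quotient G (α × α)) : Matrix α α ℤ :=
  Matrix.of fun a b => if cls a b = o then 1 else 0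

theorem adj_mem (o : MulAction.orbitRel.Quotient G (α × α)) : adj o ∈ inv G α := by
  classical
  intro g a b
  simp only [adj, Matrix.of_apply]
  exact if_congr (by rw [cls_smul g a b]) rfl rfl

theorem eq_sum_adj [Fintype (MulAction.orbitRel.Quotient G (α × α))] {M : Matrix α α ℤ}
    (hM : M ∈ inv G α) :
    M = ∑ o : MulAction.orbitRel.Quotient G (α × α),
      M (Quotient.out o).1 (Quotient.out o).2 • adj o := by
  classical
  ext a b
  rw [Matrix.sum_apply, Finset.sum_eq_single (cls a b)]
  · obtain ⟨g, hg⟩ := Quotient.exact' (Quotient.out_eq' (cls (G := G) a b))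
    rw [← congrArg Prod.fst hg, ← congrArg Prod.snd hg]
    simp [adj, hM g a b]
  · intro o _ ho
    simp [adj, Ne.symm ho]
  · simp

end Inv

variable {G : Type*} [Group G] {α : Type*} [Fintype α] [DecidableEq α] [MulAction G α]
  {p : ℕ} [Fact p.Prime] (F : Frame G α p)

/-- The half indicator. -/
def sgn (y : α) : ℤ := if (F.e.symm y).1 then 1 else -1

/-- The eigenvalue on the half indicator. -/
def ev (M : Matrix α α ℤ) : ℤ :=
  ∑ z, M (F.e (true, 0)) (F.e (true, z)) - ∑ z, M (F.e (true, 0)) (F.e (false, z))

/-- The row sum. -/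
def deg (M : Matrix α α ℤ) : ℤ := ∑ y, M (F.e (true, 0)) y

/-- The blocks as group ring elements. -/
noncomputable def blk (M : Matrix α α ℤ) (i j : Bool) : AddMonoidAlgebra ℤ (ZMod p) :=
  ofFun fun r => M (F.e (i, 0)) (F.e (j, r))

/-- The element of the group ring attached to an invariant matrix. -/
noncomputable def theta (M : Matrix α α ℤ) : AddMonoidAlgebra ℤ (ZMod p) :=
  blk F M true true + blk F M false false - AddMonoidAlgebra.single 0 (ev F M)

omit [DecidableEq α] in
theorem sum_split {R : Type*} [AddCommMonoid R] (f : α → R) :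
    ∑ y, f y = ∑ z, f (F.e (true, z)) + ∑ z, f (F.e (false, z)) := by
  rw [← F.e.sum_comp, Fintype.sum_prod_type, Fintype.sum_bool]

theorem sgn_e (i : Bool) (z : ZMod p) : sgn F (F.e (i, z)) = if i then 1 else -1 := by
  simp [sgn]

theorem shift (n : ℕ) (i : Bool) (z : ZMod p) : F.x ^ n • F.e (i, z) = F.e (i, z + n) := by
  induction n with
  | zero => simp
  | succ n ih => rw [pow_succ', mul_smul, ih, F.hx, Nat.cast_succ, add_assoc]

theorem apply_shift {M : Matrix α α ℤ} (hM : M ∈ inv G α) (i j : Bool) (z w : ZMod p) :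
    M (F.e (i, z)) (F.e (j, w)) = M (F.e (i, 0)) (F.e (j, w - z)) := by
  have h := hM (F.x ^ z.val) (F.e (i, 0)) (F.e (j, w - z))
  rw [shift, shift, ZMod.natCast_rightInverse z] at h
  simpa using h

variable [MulAction.IsPretransitive G α]

theorem rowSum {M : Matrix α α ℤ} (hM : M ∈ inv G α) (a : α) : ∑ y, M a y = deg F M := by
  obtain ⟨g, rfl⟩ := MulAction.exists_smul_eq G (F.e (true, 0)) a
  refine (Fintype.sum_equiv (MulAction.toPerm g) _ _ fun y => ?_).symm
  simp [hM g _ y]

theorem colSum {M : Matrix α α ℤ} (hM : M ∈ inv G α) (b : α) : ∑ a, M a b = deg F M := by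
  have hconst : ∀ c, ∑ a, M a c = ∑ a, M a b := by
    intro c
    obtain ⟨g, rfl⟩ := MulAction.exists_smul_eq G b c
    refine (Fintype.sum_equiv (MulAction.toPerm g) _ _ fun y => ?_).symm
    simp [hM g y b]
  have h := Finset.sum_comm (f := fun a c => M a c) (s := (Finset.univ : Finset α))
    (t := (Finset.univ : Finset α))
  rw [Finset.sum_congr rfl fun a _ => rowSum F hM a, Finset.sum_congr rfl fun c _ => hconst c,
    Finset.sum_const, Finset.sum_const, nsmul_eq_mul, nsmul_eq_mul] at h
  exact (mul_left_cancel₀ (by
    rw [Ne, Nat.cast_eq_zero, Finset.card_eq_zero]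
    exact (Finset.univ_nonempty_iff.2 ⟨b⟩).ne_empty) h).symm

theorem mulVec_sgn {M : Matrix α α ℤ} (hM : M ∈ inv G α) :
    M *ᵥ sgn F = ev F M • sgn F := by
  have hv : ∀ i z, (M *ᵥ sgn F) (F.e (i, z)) = (M *ᵥ sgn F) (F.e (i, 0)) := by
    intro i z
    simp only [Matrix.mulVec, dotProduct, sum_split F, sgn_e, apply_shift F hM i _ z]
    rw [← Equiv.sum_comp (Equiv.addRight z) (fun w => M (F.e (i, 0)) (F.e (true, w - z)) * _),
      ← Equiv.sum_comp (Equiv.addRight z) (fun w => M (F.e (i, 0)) (F.e (false, w - z)) * _)]
    simp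
  have ht : (M *ᵥ sgn F) (F.e (true, 0)) = ev F M := by
    simp only [Matrix.mulVec, dotProduct, sum_split F, sgn_e, ev]
    simp [sub_eq_add_neg, Finset.sum_neg_distrib]
  have hsum : ∑ y, (M *ᵥ sgn F) y = 0 := by
    simp only [Matrix.mulVec, dotProduct]
    rw [Finset.sum_comm]
    simp only [← Finset.sum_mul, colSum F hM, ← Finset.mul_sum]
    rw [sum_split F]
    simp [sgn_e]
  rw [sum_split F, Finset.sum_congr rfl (fun z _ => hv true z),
    Finset.sum_congr rfl (fun z _ => hv false z), Finset.sum_const, Finset.sum_const, ← nsmul_add,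
    nsmul_eq_mul, mul_eq_zero] at hsum
  have hf : (M *ᵥ sgn F) (F.e (false, 0)) = -ev F M := by
    have := hsum.resolve_left (by
      rw [Finset.card_univ, ZMod.card]; exact_mod_cast (Fact.out : p.Prime).ne_zero)
    linarith
  funext y
  obtain ⟨⟨i, z⟩, rfl⟩ := F.e.surjective y
  rw [hv, Pi.smul_apply, sgn_e]
  cases i
  · simp [hf]
  · simp [ht]

theorem ev_mul {M N : Matrix α α ℤ} (hM : M ∈ inv G α) (hN : N ∈ inv G α) :
    ev F (M * N) = ev F M * ev F N := by
  have h := congrFun (mulVec_sgn F ((inv G α).mul_mem hM hN)) (F.e (true, 0))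
  rw [← Matrix.mulVec_mulVec, mulVec_sgn F hN, Matrix.mulVec_smul, mulVec_sgn F hM] at h
  simp [sgn_e] at h
  linarith

theorem deg_mul {M N : Matrix α α ℤ} (hM : M ∈ inv G α) (hN : N ∈ inv G α) :
    deg F (M * N) = deg F M * deg F N := by
  simp only [deg, Matrix.mul_apply]
  rw [Finset.sum_comm]
  simp only [← Finset.mul_sum, rowSum F hN, ← Finset.sum_mul]

omit [MulAction.IsPretransitive G α] in
theorem ev_add (M N : Matrix α α ℤ) : ev F (M + N) = ev F M + ev F N := by
  simp [ev, Finset.sum_add_distrib]; ring

omit [MulAction.IsPretransitive G α] in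
theorem deg_add (M N : Matrix α α ℤ) : deg F (M + N) = deg F M + deg F N := by
  simp [deg, Finset.sum_add_distrib]

omit [MulAction.IsPretransitive G α] in
theorem theta_add (M N : Matrix α α ℤ) : theta F (M + N) = theta F M + theta F N := by
  refine ext_coeff fun z => ?_
  simp [theta, blk, coeff_ofFun, ev_add, Finsupp.single_add]
  ring

omit [MulAction.IsPretransitive G α] in
theorem ev_one : ev F (1 : Matrix α α ℤ) = 1 := by
  simp [ev, Matrix.one_apply]

omit [MulAction.IsPretransitive G α] in
theorem theta_one : theta F (1 : Matrix α α ℤ) = 1 := by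
  refine ext_coeff fun z => ?_
  simp [theta, blk, coeff_ofFun, ev_one, Matrix.one_apply, AddMonoidAlgebra.one_def,
    Finsupp.single_apply, eq_comm]

/-- Row sums of the two diagonal blocks. -/
theorem aug_theta {M : Matrix α α ℤ} (hM : M ∈ inv G α) : aug (theta F M) = deg F M := by
  have h1 := rowSum F hM (F.e (true, 0))
  have h2 := rowSum F hM (F.e (false, 0))
  rw [sum_split F] at h1 h2
  have h3 := congrFun (mulVec_sgn F hM) (F.e (false, 0))
  simp only [Matrix.mulVec, dotProduct, sum_split F, sgn_e, Pi.smul_apply] at h3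
  simp [Finset.sum_neg_distrib] at h3
  have h4 : ev F M = ∑ z, M (F.e (true, 0)) (F.e (true, z)) -
      ∑ z, M (F.e (true, 0)) (F.e (false, z)) := rfl
  rw [theta, map_sub, map_add, aug_single, aug_apply, aug_apply]
  simp only [blk, coeff_ofFun]
  linarith

theorem blk_mul {M N : Matrix α α ℤ} (hN : N ∈ inv G α) (i k : Bool) :
    blk F (M * N) i k = blk F M i true * blk F N true k + blk F M i false * blk F N false k := by
  refine ext_coeff fun z => ?_
  rw [blk, coeff_ofFun, Matrix.mul_apply, sum_split F, AddMonoidAlgebra.coeff_add,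
    Finsupp.add_apply, coeff_mul', coeff_mul']
  simp only [blk, coeff_ofFun]
  congr 1 <;> exact Finset.sum_congr rfl fun w _ => by rw [apply_shift F hN _ k w z]

variable (hblock : ∃ (g : G) (i : Bool) (z : ZMod p),
  sgn F (g • F.e (i, z)) ≠ sgn F (g • F.e (i, 0)))

include hblock

/-- A common eigenvector of the blocks. -/
theorem exists_eigen : ∃ v : Bool → ℂ, (v true ≠ 0 ∨ v false ≠ 0) ∧
    ∀ M ∈ inv G α, ∀ i, hat (blk F M i true) * v true + hat (blk F M i false) * v false =
      (ev F M : ℂ) * v i := by
  obtain ⟨g, i₀, z₀, hne⟩ := hblock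
  let w : α → ℤ := fun y => sgn F (g • y)
  let v : Bool → ℂ := fun i => hat (ofFun fun z => w (F.e (i, -z)))
  refine ⟨v, ?_, fun M hM i => ?_⟩
  · by_contra hh
    rw [not_or, not_not, not_not] at hh
    have hz : v i₀ = 0 := by cases i₀ <;> simp [hh.1, hh.2]
    have h1 := eq_of_hat_eq_zero hz (-z₀)
    rw [coeff_ofFun, coeff_ofFun, neg_neg, neg_zero] at h1
    exact hne h1
  · have hw : M *ᵥ w = ev F M • w := by
      funext y
      have h := congrFun (mulVec_sgn F hM) (g • y)
      simp only [Matrix.mulVec, dotProduct] at h ⊢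
      rw [← Equiv.sum_comp (MulAction.toPerm g)] at h
      simp only [MulAction.toPerm_apply, hM g] at h
      exact h
    have key : blk F M i true * ofFun (fun z => w (F.e (true, -z))) +
        blk F M i false * ofFun (fun z => w (F.e (false, -z))) =
        AddMonoidAlgebra.single 0 (ev F M) * ofFun (fun z => w (F.e (i, -z))) := by
      refine ext_coeff fun z => ?_
      rw [AddMonoidAlgebra.coeff_add, Finsupp.add_apply, coeff_mul', coeff_mul',
        AddMonoidAlgebra.coeff_single_zero_mul]
      simp only [blk, coeff_ofFun]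
      have h := congrFun hw (F.e (i, -z))
      simp only [Matrix.mulVec, dotProduct, sum_split F, Pi.smul_apply, smul_eq_mul] at h
      rw [← h]
      congr 1
      · refine Fintype.sum_equiv (Equiv.addRight (-z)) _ _ fun r => ?_
        rw [apply_shift F hM i true (-z)]
        simp only [Equiv.coe_addRight]
        rw [add_sub_cancel_right, neg_sub, sub_eq_add_neg]
      · refine Fintype.sum_equiv (Equiv.addRight (-z)) _ _ fun r => ?_
        rw [apply_shift F hM i false (-z)]
        simp only [Equiv.coe_addRight]
        rw [add_sub_cancel_right, neg_sub, sub_eq_add_neg]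
    have := congrArg hat key
    simp only [map_add, map_mul, hat_single, AddChar.map_zero_eq_one, mul_one] at this
    exact this

theorem hat_theta_mul {M N : Matrix α α ℤ} (hM : M ∈ inv G α) (hN : N ∈ inv G α) :
    hat (theta F (M * N)) = hat (theta F M) * hat (theta F N) := by
  obtain ⟨v, hv, he⟩ := exists_eigen F hblock
  have h := triang (M := fun i j => hat (blk F M i j)) (N := fun i j => hat (blk F N i j)) hv
    (he M hM) (he N hN)
  simp only [theta, map_sub, map_add, hat_single, AddChar.map_zero_eq_one, mul_one,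
    blk_mul F hN, map_mul, ev_mul F hM hN, Int.cast_mul]
  linear_combination h

theorem theta_mul {M N : Matrix α α ℤ} (hM : M ∈ inv G α) (hN : N ∈ inv G α) :
    theta F (M * N) = theta F M * theta F N := by
  refine ext_hat ?_ ?_
  · rw [map_mul, hat_theta_mul F hblock hM hN]
  · rw [map_mul, aug_theta F ((inv G α).mul_mem hM hN), aug_theta F hM, aug_theta F hN,
      deg_mul F hM hN]

/-- `theta` as a ring homomorphism on the invariant matrices. -/
noncomputable def thetaHom : inv G α →+* AddMonoidAlgebra ℤ (ZMod p) where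
  toFun M := theta F M.1
  map_one' := theta_one F
  map_mul' M N := theta_mul F hblock M.2 N.2
  map_zero' := by
    refine ext_coeff fun z => ?_
    simp [theta, blk, coeff_ofFun, ev]
  map_add' M N := theta_add F M.1 N.1

omit hblock in
/-- `ev` as a ring homomorphism on the invariant matrices. -/
def evHom : inv G α →+* ℤ where
  toFun M := ev F M.1
  map_one' := ev_one F
  map_mul' M N := ev_mul F M.2 N.2
  map_zero' := by simp [ev]
  map_add' M N := ev_add F M.1 N.1

omit hblock in
theorem theta_zero_add_ev {M : Matrix α α ℤ} (hM : M ∈ inv G α) (a : α) :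
    (theta F M).coeff 0 + ev F M = 2 * M a a := by
  have hconst : ∀ b, M b b = M a a := by
    intro b
    obtain ⟨g, rfl⟩ := MulAction.exists_smul_eq G a b
    exact hM g a a
  simp [theta, blk, coeff_ofFun, hconst (F.e (true, 0)), hconst (F.e (false, 0))]
  ring

omit hblock in
theorem theta_transpose_coeff {M : Matrix α α ℤ} (hM : M ∈ inv G α) (z : ZMod p) (hz : z ≠ 0) :
    (theta F Mᵀ).coeff z = (theta F M).coeff (-z) := by
  simp [theta, blk, coeff_ofFun, Finsupp.single_eq_of_ne hz,
    Finsupp.single_eq_of_ne (neg_ne_zero.2 hz)]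
  rw [apply_shift F hM true true z 0, apply_shift F hM false false z 0, zero_sub]

omit hblock in
theorem ev_transpose {M : Matrix α α ℤ} (hM : M ∈ inv G α) : ev F Mᵀ = ev F M := by
  have h1 : ∑ y, sgn F y * (M *ᵥ sgn F) y = ∑ y, sgn F y * (Mᵀ *ᵥ sgn F) y := by
    simp only [Matrix.mulVec, dotProduct, Matrix.transpose_apply, Finset.mul_sum]
    rw [Finset.sum_comm]
    exact Finset.sum_congr rfl fun a _ => Finset.sum_congr rfl fun b _ => by ring
  rw [mulVec_sgn F hM, mulVec_sgn F (transpose_mem hM)] at h1
  have hsq : ∀ y, sgn F y * sgn F y = 1 := by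
    intro y; simp [sgn]; split_ifs <;> rfl
  simp only [Pi.smul_apply, smul_eq_mul, mul_left_comm (sgn F _), hsq, mul_one, Finset.sum_const,
    nsmul_eq_mul] at h1
  refine (mul_left_cancel₀ ?_ h1).symm
  rw [Ne, Nat.cast_eq_zero, Finset.card_eq_zero]
  exact (Finset.univ_nonempty_iff.2 ⟨F.e (true, 0)⟩).ne_empty

end CfsgLib.Perm.TwoPrime
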