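import Mathlib
import Cfsg.Agent.Perm.TwoPrime

/-!
Wielandt's theorem on primitive groups of degree `2p`: the orbital structure.
-/

namespace CfsgLib.Perm.TwoPrime

open Matrix AddMonoidAlgebra CfsgLib.Perm.CircRing

variable {G : Type*} [Group G] {α : Type*} [Fintype α] [DecidableEq α] [MulAction G α]
  {p : ℕ} [Fact p.Prime] (F : Frame G α p) [MulAction.IsPretransitive G α]
  [Fintype (MulAction.orbitRel.Quotient G (α × α))]

/-- Expansion of the homomorphisms over the orbitals. -/
theorem expand {M : Matrix α α ℤ} (hM : M ∈ inv G α) :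
    ∃ c : MulAction.orbitRel.Quotient G (α × α) → ℤ, (∀ a b, c (cls a b) = M a b) ∧
      M = ∑ o, c o • adj o ∧
      (∀ z, (theta F M).coeff z = ∑ o, c o * (theta F (adj o)).coeff z) ∧
      ev F M = ∑ o, c o * ev F (adj o) := by
  classical
  refine ⟨fun o => M (Quotient.out o).1 (Quotient.out o).2, ?_, eq_sum_adj hM, ?_, ?_⟩
  · intro a b
    obtain ⟨g, hg⟩ := Quotient.exact' (Quotient.out_eq' (cls (G := G) a b))
    simp only
    rw [← congrArg Prod.fst hg, ← congrArg Prod.snd hg]
    exact hM g a b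
  · intro z
    let L : Matrix α α ℤ →+ ℤ :=
      AddMonoidHom.mk' (fun M => (theta F M).coeff z) fun M N => by simp [theta_add]
    calc (theta F M).coeff z = L M := rfl
      _ = _ := by
        conv_lhs => rw [eq_sum_adj hM]
        rw [map_sum]
        refine Finset.sum_congr rfl fun o _ => ?_
        rw [map_zsmul, smul_eq_mul]
        rfl
  · let L : Matrix α α ℤ →+ ℤ := AddMonoidHom.mk' (ev F) fun M N => ev_add F M N
    calc ev F M = L M := rfl
      _ = _ := by
        conv_lhs => rw [eq_sum_adj hM]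
        rw [map_sum]
        refine Finset.sum_congr rfl fun o _ => ?_
        rw [map_zsmul, smul_eq_mul]
        rfl

omit [Fintype (MulAction.orbitRel.Quotient G (α × α))] in
theorem cls_eq_diag_iff {a b c : α} : cls (G := G) a b = cls c c ↔ a = b := by
  rw [cls_eq_iff]
  constructor
  · rintro ⟨g, rfl, rfl⟩; rfl
  · rintro rfl
    obtain ⟨g, hg⟩ := MulAction.exists_smul_eq G c a
    exact ⟨g, hg, hg⟩

omit [Fintype (MulAction.orbitRel.Quotient G (α × α))] in
theorem coeff_theta_adj [DecidableEq (MulAction.orbitRel.Quotient G (α × α))]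
    (o : MulAction.orbitRel.Quotient G (α × α)) {z : ZMod p} (hz : z ≠ 0) :
    (theta F (adj o)).coeff z =
      (if cls (F.e (true, 0)) (F.e (true, z)) = o then 1 else 0) +
      (if cls (F.e (false, 0)) (F.e (false, z)) = o then 1 else 0) := by
  simp [theta, blk, coeff_ofFun, adj, Finsupp.single_eq_of_ne hz]
  congr 1 <;> (split_ifs <;> simp_all)

variable (hblock : ∃ (g : G) (i : Bool) (z : ZMod p),
  sgn F (g • F.e (i, z)) ≠ sgn F (g • F.e (i, 0)))

include hblock

/-- The multiplier theorem: equality of all coefficients is preserved by every multiplier. -/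
theorem multiplier {u u' : ZMod p} (hu : u ≠ 0) (hu' : u' ≠ 0)
    (h : ∀ o : MulAction.orbitRel.Quotient G (α × α),
      (theta F (adj o)).coeff u = (theta F (adj o)).coeff u')
    {γ : ZMod p} (hγ : γ ≠ 0) (o : MulAction.orbitRel.Quotient G (α × α)) :
    (theta F (adj o)).coeff (γ * u) = (theta F (adj o)).coeff (γ * u') := by
  classical
  let P : ZMod p → Prop := fun γ => ∀ u u' : ZMod p, u ≠ 0 → u' ≠ 0 →
    (∀ o : MulAction.orbitRel.Quotient G (α × α),
      (theta F (adj o)).coeff u = (theta F (adj o)).coeff u') →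
    ∀ o : MulAction.orbitRel.Quotient G (α × α),
      (theta F (adj o)).coeff (γ * u) = (theta F (adj o)).coeff (γ * u')
  suffices hall : P γ from hall u u' hu hu' h o
  have hone : P 1 := fun u u' _ _ h o => by rw [one_mul, one_mul]; exact h o
  have hmul : ∀ γ δ : ZMod p, δ ≠ 0 → P γ → P δ → P (γ * δ) := by
    intro γ δ hδ hPγ hPδ u u' hu hu' h o
    rw [mul_assoc, mul_assoc]
    exact hPγ _ _ (mul_ne_zero hδ hu) (mul_ne_zero hδ hu') (hPδ u u' hu hu' h) o
  have hq : ∀ q : ℕ, q.Prime → q ≠ 2 → q ≠ p → P ((q : ZMod p)⁻¹) := by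
    intro q hq hq2 hqp u u' hu hu' h o
    haveI := Fact.mk hq
    have hne : (q : ZMod p) ≠ 0 := by
      rw [Ne, ZMod.natCast_eq_zero_iff]
      intro hd
      exact hqp ((Nat.prime_dvd_prime_iff_eq (Fact.out) hq).1 hd).symm
    have hpow : theta F (adj o ^ q) = theta F (adj o) ^ q :=
      map_pow (thetaHom F hblock) (⟨adj o, adj_mem o⟩ : inv G α) q
    obtain ⟨c, -, -, hc, -⟩ := expand F ((inv G α).pow_mem (adj_mem o) q)
    have heq : (theta F (adj o ^ q)).coeff u = (theta F (adj o ^ q)).coeff u' := by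
      rw [hc, hc]; simp only [h]
    rw [hpow] at heq
    have h1 := pow_coeff_modEq hq hqp (theta F (adj o)) ((q : ZMod p)⁻¹ * u)
    have h2 := pow_coeff_modEq hq hqp (theta F (adj o)) ((q : ZMod p)⁻¹ * u')
    rw [mul_inv_cancel_left₀ hne] at h1 h2
    rw [heq, h2, ZMod.intCast_eq_intCast_iff_dvd_sub] at h1
    have hb : ∀ v : ZMod p, v ≠ 0 →
        0 ≤ (theta F (adj o)).coeff v ∧ (theta F (adj o)).coeff v ≤ 2 := by
      intro v hv
      rw [coeff_theta_adj F o hv]
      split_ifs <;> norm_num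
    obtain ⟨a1, a2⟩ := hb _ (mul_ne_zero (inv_ne_zero hne) hu)
    obtain ⟨b1, b2⟩ := hb _ (mul_ne_zero (inv_ne_zero hne) hu')
    have hq3 : (3 : ℤ) ≤ q := by have := hq.two_le; omega
    have := Int.eq_zero_of_abs_lt_dvd h1 (by rw [abs_lt]; omega)
    omega
  -- products of the inverses of odd primes give everything
  have hodd : ∀ n : ℕ, n % 2 = 1 → (n : ZMod p) ≠ 0 → P ((n : ZMod p)⁻¹) := by
    intro n
    induction n using Nat.strong_induction_on with
    | _ n ih =>
      intro hn hn0
      rcases eq_or_ne n 1 with rfl | hn1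
      · simpa using hone
      obtain ⟨q, hq', m, rfl⟩ : ∃ q, q.Prime ∧ ∃ m, n = q * m := by
        obtain ⟨q, hq', hd⟩ := Nat.exists_prime_and_dvd hn1
        exact ⟨q, hq', hd⟩
      have hm : m % 2 = 1 ∧ q % 2 = 1 := by
        rw [Nat.mul_mod] at hn
        rcases Nat.mod_two_eq_zero_or_one q with h | h <;>
          rcases Nat.mod_two_eq_zero_or_one m with h' | h' <;> simp [h, h'] at hn ⊢
      rw [Nat.cast_mul, mul_ne_zero_iff] at hn0
      rw [Nat.cast_mul, mul_inv]
      refine hmul _ _ (inv_ne_zero hn0.2) (hq q hq' (by omega) ?_) (ih m ?_ hm.1 hn0.2)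
      · rintro rfl; exact hn0.1 (ZMod.natCast_self q)
      · have hm0 : 0 < m := by omega
        nlinarith [hq'.two_le]
  have hinv : γ⁻¹ ≠ 0 := inv_ne_zero hγ
  rcases Nat.mod_two_eq_zero_or_one (γ⁻¹).val with hv | hv
  · have hp2 : p % 2 = 1 := by
      rcases (Fact.out : p.Prime).eq_two_or_odd with h | h
      · exfalso
        subst h
        have h1 := ZMod.val_lt γ⁻¹
        have h2 : (γ⁻¹).val = 0 := by omega
        exact hinv ((ZMod.val_eq_zero _).1 h2)
      · exact h
    have hcast : (((γ⁻¹).val + p : ℕ) : ZMod p) = γ⁻¹ := by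
      rw [Nat.cast_add, ZMod.natCast_self, add_zero, ZMod.natCast_rightInverse]
    have := hodd ((γ⁻¹).val + p) (by omega) (by rw [hcast]; exact hinv)
    rwa [hcast, inv_inv] at this
  · have := hodd (γ⁻¹).val hv (by rw [ZMod.natCast_rightInverse]; exact hinv)
    rwa [ZMod.natCast_rightInverse, inv_inv] at this

/-- The orbital structure. -/
theorem main (hdeg : ∀ a b : α, a ≠ b → 2 ≤ deg F (adj (G := G) (cls a b))) :
    (∀ a b c d : α, a ≠ b → c ≠ d → cls (G := G) a b = cls c d) ∨
    ∃ (k j : MulAction.orbitRel.Quotient G (α × α)) (a : ℕ), k ≠ j ∧ 0 < a ∧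
      p = 2 * a ^ 2 + 2 * a + 1 ∧ (∀ c, k ≠ cls c c ∧ j ≠ cls c c) ∧
      (∀ c d : α, c ≠ d → cls c d = k ∨ cls c d = j) ∧
      deg F (adj k) = a * (2 * a + 1) ∧ deg F (adj j) = (a + 1) * (2 * a + 1) := by
  classical
  set a₀ := F.e (true, 0) with ha₀
  set o₀ : MulAction.orbitRel.Quotient G (α × α) := cls a₀ a₀ with ho₀
  let ct : ZMod p → MulAction.orbitRel.Quotient G (α × α) := fun z =>
    cls (F.e (true, 0)) (F.e (true, z))
  let cf : ZMod p → MulAction.orbitRel.Quotient G (α × α) := fun z =>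
    cls (F.e (false, 0)) (F.e (false, z))
  let w : MulAction.orbitRel.Quotient G (α × α) → ZMod p → ℤ := fun o z =>
    (theta F (adj o)).coeff z
  let E : MulAction.orbitRel.Quotient G (α × α) → ℤ := fun o => ev F (adj o)
  let S : Finset (ZMod p) := Finset.univ.erase 0
  have hw : ∀ o z, z ≠ 0 → w o z = (if ct z = o then 1 else 0) + (if cf z = o then 1 else 0) :=
    fun o z hz => coeff_theta_adj F o hz
  have hw0 : ∀ o z, z ≠ 0 → 0 ≤ w o z := fun o z hz => by
    rw [hw o z hz]; split_ifs <;> norm_num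
  have hctne : ∀ z, z ≠ 0 → ct z ≠ o₀ ∧ cf z ≠ o₀ := by
    intro z hz
    refine ⟨fun h => ?_, fun h => ?_⟩ <;>
    · have := congrArg Prod.snd (F.e.injective ((cls_eq_diag_iff).1 h))
      exact hz this.symm
  have hdiag : ∀ o, o ≠ o₀ → ∀ a, adj o a a = (0 : ℤ) := by
    intro o ho a
    simp only [adj, Matrix.of_apply]
    exact if_neg fun h => ho (h.symm.trans (cls_eq_diag_iff.2 rfl))
  have hz0 : ∀ o, o ≠ o₀ → w o 0 = -E o := by
    intro o ho
    have := theta_zero_add_ev F (adj_mem o) a₀
    rw [hdiag o ho] at this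
    show (theta F (adj o)).coeff 0 = -ev F (adj o)
    linarith
  have hsumw : ∀ o, o ≠ o₀ → ∑ z ∈ S, w o z = deg F (adj o) + E o := by
    intro o ho
    have h := aug_theta F (adj_mem o)
    rw [aug_apply, ← Finset.add_sum_erase _ _ (Finset.mem_univ 0)] at h
    have h' : w o 0 + ∑ z ∈ S, w o z = deg F (adj o) := h
    rw [hz0 o ho] at h'
    linarith
  have hdiagmul : ∀ o o' : MulAction.orbitRel.Quotient G (α × α),
      (adj o * (adj o')ᵀ) a₀ a₀ = if o = o' then deg F (adj o) else 0 := by
    intro o o'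
    rw [Matrix.mul_apply]
    split_ifs with h
    · subst h
      rw [← rowSum F (adj_mem o) a₀]
      refine Finset.sum_congr rfl fun y _ => ?_
      simp only [Matrix.transpose_apply, adj, Matrix.of_apply]
      split_ifs <;> norm_num
    · refine Finset.sum_eq_zero fun y _ => ?_
      simp only [Matrix.transpose_apply, adj, Matrix.of_apply]
      by_cases h1 : cls a₀ y = o
      · rw [if_neg (fun h2 => h (h1.symm.trans h2)), mul_zero]
      · rw [if_neg h1, zero_mul]
  have horth : ∀ o o', o ≠ o₀ → o' ≠ o₀ → 2 * (E o * E o') + ∑ z ∈ S, w o z * w o' z =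
      if o = o' then 2 * deg F (adj o) else 0 := by
    intro o o' ho ho'
    have hm := transpose_mem (adj_mem o' (G := G))
    have h := theta_zero_add_ev F ((inv G α).mul_mem (adj_mem o) hm) a₀
    rw [theta_mul F hblock (adj_mem o) hm, ev_mul F (adj_mem o) hm, ev_transpose F (adj_mem o'),
      coeff_mul', ← Finset.add_sum_erase _ _ (Finset.mem_univ 0), hdiagmul] at h
    have ht0 : (theta F (adj o')ᵀ).coeff 0 = -E o' := by
      have := theta_zero_add_ev F hm a₀
      rw [Matrix.transpose_apply, hdiag o' ho', ev_transpose F (adj_mem o')] at this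
      show _ = -ev F (adj o')
      linarith
    have hS : ∑ z ∈ S, w o z * w o' z =
        ∑ z ∈ S, (theta F (adj o)).coeff z * (theta F (adj o')ᵀ).coeff (0 - z) := by
      refine Finset.sum_congr rfl fun z hz => ?_
      rw [zero_sub, theta_transpose_coeff F (adj_mem o') _ (neg_ne_zero.2 (Finset.ne_of_mem_erase hz)),
        neg_neg]
    rw [hS]
    have hz0o : (theta F (adj o)).coeff 0 = -E o := hz0 o ho
    rw [sub_zero, hz0o, ht0] at h
    have hE : ∀ o, E o = ev F (adj o) := fun o => rfl
    split_ifs at h ⊢ with hoo <;> simp only [hE] at h ⊢ <;> linarith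
  -- the eigenvalues sum to minus one
  have hsumE : ∑ o ∈ Finset.univ.erase o₀, E o = -1 := by
    have hJmem : (Matrix.of fun _ _ => (1 : ℤ) : Matrix α α ℤ) ∈ inv G α := fun g a b => rfl
    obtain ⟨c, hc, -, -, hev⟩ := expand F hJmem
    have h0 : ev F (Matrix.of fun _ _ => (1 : ℤ) : Matrix α α ℤ) = 0 := by simp [ev]
    have hc1 : ∀ o, c o = 1 := by
      intro o
      obtain ⟨⟨a, b⟩, rfl⟩ := Quotient.exists_rep o
      exact hc a b
    rw [h0, Finset.sum_congr rfl (fun o _ => by rw [hc1 o, one_mul]),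
      ← Finset.add_sum_erase _ _ (Finset.mem_univ o₀)] at hev
    have ho : ev F (adj (G := G) o₀) = 1 := by
      have : adj (G := G) o₀ = 1 := by
        ext a b
        simp only [adj, Matrix.of_apply, Matrix.one_apply]
        exact if_congr cls_eq_diag_iff rfl rfl
      rw [this, ev_one]
    show ∑ o ∈ Finset.univ.erase o₀, ev F (adj o) = -1
    linarith
  have hle : ∀ o o', o ≠ o₀ → o' ≠ o₀ → o ≠ o' → E o * E o' ≤ 0 := by
    intro o o' ho ho' hne
    have h := horth o o' ho ho'
    rw [if_neg hne] at h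
    have : 0 ≤ ∑ z ∈ S, w o z * w o' z := Finset.sum_nonneg fun z hz =>
      mul_nonneg (hw0 o z (Finset.ne_of_mem_erase hz)) (hw0 o' z (Finset.ne_of_mem_erase hz))
    linarith
  obtain ⟨j, hj0, hjneg⟩ : ∃ j, j ≠ o₀ ∧ E j < 0 := by
    by_contra hh
    simp only [not_exists, not_and, not_lt] at hh
    have := Finset.sum_nonneg (s := Finset.univ.erase o₀) (f := E)
      fun o ho => hh o (Finset.ne_of_mem_erase ho)
    omega
  have huneg : ∀ o, o ≠ o₀ → E o < 0 → o = j := by
    intro o ho h
    by_contra hne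
    have := hle o j ho hj0 hne
    nlinarith [mul_pos (neg_pos.2 h) (neg_pos.2 hjneg)]
  have hupos : ∀ o o', o ≠ o₀ → o' ≠ o₀ → 0 < E o → 0 < E o' → o = o' := by
    intro o o' ho ho' h h'
    by_contra hne
    have := hle o o' ho ho' hne
    nlinarith [mul_pos h h']
  have hsplit : ∀ z, z ≠ 0 → ct z ≠ cf z → E (ct z) * E (cf z) < 0 := by
    intro z hz hne
    have h := horth (ct z) (cf z) (hctne z hz).1 (hctne z hz).2
    rw [if_neg hne] at h
    have hpos : 0 < ∑ z' ∈ S, w (ct z) z' * w (cf z) z' := by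
      refine Finset.sum_pos' (fun z' hz' => mul_nonneg (hw0 _ _ (Finset.ne_of_mem_erase hz'))
        (hw0 _ _ (Finset.ne_of_mem_erase hz'))) ⟨z, Finset.mem_erase.2 ⟨hz, Finset.mem_univ _⟩, ?_⟩
      rw [hw _ _ hz, hw _ _ hz, if_pos rfl, if_pos rfl, if_neg (Ne.symm hne), if_neg hne]
      norm_num
    linarith
  have hsupp : ∀ o, o ≠ o₀ → ∃ z, z ≠ 0 ∧ (ct z = o ∨ cf z = o) := by
    intro o ho
    by_contra hh
    simp only [not_exists, not_and, not_or] at hh
    have hwz : ∀ z ∈ S, w o z = 0 := fun z hz => by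
      have hz' := Finset.ne_of_mem_erase hz
      rw [hw o z hz', if_neg (hh z hz').1, if_neg (hh z hz').2]; norm_num
    have h1 := hsumw o ho
    rw [Finset.sum_eq_zero hwz] at h1
    have h2 : 2 ≤ deg F (adj o) := by
      obtain ⟨⟨a, b⟩, rfl⟩ := Quotient.exists_rep o
      exact hdeg a b fun hab => ho (cls_eq_diag_iff.2 hab)
    have hneg : E o < 0 := by linarith
    have hoj := huneg o ho hneg
    have hall : ∀ o', o' ≠ o₀ → o' ≠ o → E o' = 0 := by
      intro o' ho' hne
      have h := horth o o' ho ho'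
      rw [if_neg (Ne.symm hne), Finset.sum_eq_zero (fun z hz => by rw [hwz z hz, zero_mul])] at h
      have hz : E o * E o' = 0 := by linarith
      exact (mul_eq_zero.1 hz).resolve_left (by linarith)
    rw [Finset.sum_eq_single o (fun o' ho' hne => hall o' (Finset.ne_of_mem_erase ho') hne)
      (fun h => absurd (Finset.mem_erase.2 ⟨ho, Finset.mem_univ _⟩) h)] at hsumE
    linarith
  have hS1 : (1 : ZMod p) ≠ 0 := one_ne_zero
  by_cases hclass : ∀ z, z ≠ 0 → ∀ o, w o z = w o 1
  · -- one class
    have honly : ∀ o, o ≠ o₀ → o = ct 1 ∨ o = cf 1 := by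
      intro o ho
      obtain ⟨z, hz, h⟩ := hsupp o ho
      by_contra hh
      rw [not_or] at hh
      have h1 := hclass z hz o
      rw [hw o z hz, hw o 1 hS1, if_neg (Ne.symm hh.1), if_neg (Ne.symm hh.2)] at h1
      rcases h with h | h <;> rw [if_pos h] at h1 <;> split_ifs at h1 <;> omega
    have hne0 : ∀ a b : α, a ≠ b → cls (G := G) a b ≠ o₀ :=
      fun a b hab h => hab (cls_eq_diag_iff.1 h)
    by_cases heq : ct 1 = cf 1
    · left
      intro a b c d hab hcd
      rcases honly _ (hne0 a b hab) with h | h <;> rcases honly _ (hne0 c d hcd) with h' | h' <;>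
        rw [h, h'] <;> first | rfl | exact heq | exact heq.symm
    right
    have hlt := hsplit 1 hS1 heq
    obtain ⟨k, j', hkj, hkpos, hpair⟩ : ∃ k j', k ≠ j' ∧ (0 < E k ∧ E j' < 0) ∧
        ((k = ct 1 ∧ j' = cf 1) ∨ (k = cf 1 ∧ j' = ct 1)) := by
      rcases lt_trichotomy (E (ct 1)) 0 with h | h | h
      · exact ⟨cf 1, ct 1, Ne.symm heq, ⟨by nlinarith, h⟩, Or.inr ⟨rfl, rfl⟩⟩
      · rw [h, zero_mul] at hlt; exact absurd hlt (lt_irrefl 0)
      · exact ⟨ct 1, cf 1, heq, ⟨h, by nlinarith⟩, Or.inl ⟨rfl, rfl⟩⟩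
    have hk0 : k ≠ o₀ := by
      rcases hpair with ⟨rfl, -⟩ | ⟨rfl, -⟩
      exacts [(hctne 1 hS1).1, (hctne 1 hS1).2]
    have hj'0 : j' ≠ o₀ := by
      rcases hpair with ⟨-, rfl⟩ | ⟨-, rfl⟩
      exacts [(hctne 1 hS1).2, (hctne 1 hS1).1]
    have honly' : ∀ o, o ≠ o₀ → o = k ∨ o = j' := by
      intro o ho
      rcases hpair with ⟨h1, h2⟩ | ⟨h1, h2⟩ <;> rcases honly o ho with h | h <;>
        first | exact Or.inl (h.trans h1.symm) | exact Or.inr (h.trans h2.symm)
    have hE : E k + E j' = -1 := by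
      have hset : Finset.univ.erase o₀ = {k, j'} := by
        ext o
        simp only [Finset.mem_erase, Finset.mem_univ, and_true, Finset.mem_insert,
          Finset.mem_singleton]
        exact ⟨honly' o, fun h => by rcases h with rfl | rfl <;> assumption⟩
      rw [hset, Finset.sum_pair hkj] at hsumE
      exact hsumE
    have hwk : ∀ z ∈ S, w k z = 1 ∧ w j' z = 1 := by
      intro z hz
      have hz' := Finset.ne_of_mem_erase hz
      rw [hclass z hz' k, hclass z hz' j', hw _ _ hS1, hw _ _ hS1]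
      rcases hpair with ⟨rfl, rfl⟩ | ⟨rfl, rfl⟩ <;>
        simp [heq, Ne.symm heq]
    have hcard : (S.card : ℤ) = p - 1 := by
      rw [Finset.card_erase_of_mem (Finset.mem_univ _), Finset.card_univ, ZMod.card,
        Nat.cast_sub (Fact.out : p.Prime).one_lt.le, Nat.cast_one]
    have hkey := horth k j' hk0 hj'0
    rw [if_neg hkj, Finset.sum_congr rfl (fun z hz => by rw [(hwk z hz).1, (hwk z hz).2, one_mul]),
      Finset.sum_const, nsmul_eq_mul, mul_one, hcard] at hkey
    have hdk := hsumw k hk0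
    have hdj := hsumw j' hj'0
    rw [Finset.sum_congr rfl (fun z hz => (hwk z hz).1), Finset.sum_const, nsmul_eq_mul, mul_one,
      hcard] at hdk
    rw [Finset.sum_congr rfl (fun z hz => (hwk z hz).2), Finset.sum_const, nsmul_eq_mul, mul_one,
      hcard] at hdj
    obtain ⟨a, ha⟩ : ∃ a : ℕ, E k = a := ⟨(E k).toNat, (Int.toNat_of_nonneg hkpos.1.le).symm⟩
    have hEj : E j' = -(a : ℤ) - 1 := by linarith
    rw [ha, hEj] at hkey
    refine ⟨k, j', a, hkj, by rw [ha] at hkpos; exact_mod_cast hkpos.1, ?_, ?_, ?_, ?_, ?_⟩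
    · have : (p : ℤ) = ((2 * a ^ 2 + 2 * a + 1 : ℕ) : ℤ) := by push_cast; linarith
      exact_mod_cast this
    · exact fun c => ⟨fun h => hk0 (h.trans (cls_eq_diag_iff.2 rfl)),
        fun h => hj'0 (h.trans (cls_eq_diag_iff.2 rfl))⟩
    · exact fun c d hcd => honly' _ (hne0 c d hcd)
    · linarith
    · linarith
  -- more than one class is impossible
  exfalso
  apply hclass
  -- independence would force a single class
  have hindep : (∀ c : MulAction.orbitRel.Quotient G (α × α) → ℤ,
      (∀ z, ∑ o, c o * w o z = 0) → ∀ o, c o = 0) → ∀ z, z ≠ 0 → ∀ o, w o z = w o 1 := by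
    intro hind z hz o
    let A : inv G α := ⟨adj o, adj_mem o⟩
    let θ : inv G α →ₐ[ℤ] ℂ :=
      ((hat (p := p)).toRingHom.comp (thetaHom F hblock)).toIntAlgHom
    have hint : IsIntegral ℤ (θ A) := by
      have h1 : IsIntegral ℤ (A : Matrix α α ℤ) := Algebra.IsIntegral.isIntegral _
      have h2 : IsIntegral ℤ A :=
        (isIntegral_algHom_iff (inv G α).val Subtype.val_injective).1 h1
      exact h2.map θ
    set g := minpoly ℤ (θ A) with hg
    let C : inv G α := Polynomial.aeval A g
    have hC : hat (theta F C.1) = 0 := by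
      show θ C = 0
      rw [← Polynomial.aeval_algHom_apply, minpoly.aeval]
    set c₀ := (theta F C.1).coeff 0
    have hconst := eq_of_hat_eq_zero hC
    obtain ⟨c, hc, hCexp, hcT, hcE⟩ := expand F C.2
    have hJmem : (Matrix.of fun _ _ => (1 : ℤ) : Matrix α α ℤ) ∈ inv G α := fun g a b => rfl
    obtain ⟨cJ, hcJ, -, hJT, -⟩ := expand F hJmem
    have hJw : ∀ z, ∑ o', w o' z = 2 := by
      intro z
      have hc1 : ∀ o, cJ o = 1 := by
        intro o
        obtain ⟨⟨a, b⟩, rfl⟩ := Quotient.exists_rep o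
        exact hcJ a b
      have := hJT z
      rw [Finset.sum_congr rfl (fun o _ => by rw [hc1 o, one_mul])] at this
      show ∑ o', (theta F (adj o')).coeff z = 2
      rw [← this]
      simp [theta, blk, coeff_ofFun, ev]
    have hzero : ∀ o', 2 * c o' - c₀ = 0 := by
      refine hind _ fun z => ?_
      simp only [sub_mul, mul_assoc, Finset.sum_sub_distrib, ← Finset.mul_sum, hJw]
      have := hcT z
      rw [hconst z] at this
      rw [← this]
      ring
    have hev0 : evHom F C = 0 := by
      show ev F C.1 = 0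
      have h2 : 2 * ev F C.1 = c₀ * ∑ o' : MulAction.orbitRel.Quotient G (α × α), ev F (adj o') := by
        rw [hcE, Finset.mul_sum, Finset.mul_sum]
        exact Finset.sum_congr rfl fun o' _ => by
          rw [← mul_assoc, show 2 * c o' = c₀ by linarith [hzero o']]
      have h3 : ∑ o', ev F (adj (G := G) o') = 0 := by
        rw [← Finset.add_sum_erase _ _ (Finset.mem_univ o₀)]
        have : adj (G := G) o₀ = 1 := by
          ext a b
          simp only [adj, Matrix.of_apply, Matrix.one_apply]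
          exact if_congr cls_eq_diag_iff rfl rfl
        rw [this, ev_one]
        have h' : ∑ o ∈ Finset.univ.erase o₀, ev F (adj o) = -1 := hsumE
        rw [h']; norm_num
      rw [h3, mul_zero] at h2
      linarith
    have hroot : g.eval (ev F (adj o)) = 0 := by
      have := Polynomial.aeval_algHom_apply (evHom F (G := G)).toIntAlgHom A g
      rw [show (evHom F (G := G)).toIntAlgHom (Polynomial.aeval A g) = evHom F C from rfl, hev0]
        at this
      rw [Polynomial.coe_aeval_eq_eval] at this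
      exact this
    obtain ⟨h, hh⟩ := (Polynomial.dvd_iff_isRoot (a := ev F (adj o)) (p := g)).2 hroot
    have hu : IsUnit h := ((minpoly.irreducible hint).isUnit_or_isUnit hh).resolve_left
      (Polynomial.not_isUnit_X_sub_C _)
    obtain ⟨r, hr, rfl⟩ := Polynomial.isUnit_iff.1 hu
    have hval : θ A = (ev F (adj o) : ℂ) := by
      have := minpoly.aeval ℤ (θ A)
      rw [← hg, hh, map_mul, map_sub, Polynomial.aeval_X, Polynomial.aeval_C, Polynomial.aeval_C,
        mul_eq_zero] at this
      rcases this with h' | h'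
      · simpa [sub_eq_zero] using h'
      · exfalso; simp [hr.ne_zero] at h'
    have hz' : hat (theta F (adj o) - AddMonoidAlgebra.single 0 (ev F (adj o))) = 0 := by
      rw [map_sub, hat_single, AddChar.map_zero_eq_one, mul_one, ← hval]
      exact sub_self _
    have h1 := eq_of_hat_eq_zero hz' z
    have h2 := eq_of_hat_eq_zero hz' 1
    simp only [AddMonoidAlgebra.coeff_sub, Finsupp.sub_apply, AddMonoidAlgebra.coeff_single,
      Finsupp.single_eq_of_ne hz, Finsupp.single_eq_of_ne hS1, sub_zero] at h1 h2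
    exact h1.trans h2.symm
  -- analysis of a dependent system
  by_contra hnot
  have hsame : ∀ z, z ≠ 0 → ∀ o, o = ct z → ct z = cf z →
      ∀ c : MulAction.orbitRel.Quotient G (α × α) → ℤ, (∑ o', c o' * w o' z = 0) → c o = 0 := by
    intro z hz o ho heq c hc
    rw [Finset.sum_eq_single o] at hc
    · rw [hw o z hz, if_pos ho.symm, if_pos (heq ▸ ho.symm)] at hc
      linarith
    · intro o' _ hne
      rw [hw o' z hz, if_neg (fun h => hne (ho ▸ h.symm)),
        if_neg (fun h => hne (by rw [ho, heq, h]))]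
      simp
    · simp
  obtain ⟨m, hm, hmne⟩ : ∃ m, m ≠ 0 ∧ ct m ≠ cf m := by
    by_contra hh
    simp only [not_exists, not_and, not_not] at hh
    refine hnot (hindep fun c hc => ?_)
    have hc' : ∀ o, o ≠ o₀ → c o = 0 := by
      intro o ho
      obtain ⟨z, hz, h⟩ := hsupp o ho
      refine hsame z hz o ?_ (hh z hz) c (hc z)
      rcases h with h | h
      · exact h.symm
      · rw [← h, hh z hz]
    intro o
    by_cases ho : o = o₀
    · subst ho
      have h := hc 0
      rw [Finset.sum_eq_single o₀ (fun o' _ hne => by rw [hc' o' hne, zero_mul]) (by simp)] at h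
      have h0 : w o₀ 0 = 1 := by
        have := theta_zero_add_ev F (adj_mem o₀) a₀
        have hone : adj (G := G) o₀ = 1 := by
          ext a b
          simp only [adj, Matrix.of_apply, Matrix.one_apply]
          exact if_congr cls_eq_diag_iff rfl rfl
        show (theta F (adj o₀)).coeff 0 = 1
        rw [hone, theta_one, AddMonoidAlgebra.one_def, AddMonoidAlgebra.coeff_single,
          Finsupp.single_eq_same]
      rw [h0, mul_one] at h
      exact h
    · exact hc' o ho
  obtain ⟨k, hk0, hkpos⟩ : ∃ k, k ≠ o₀ ∧ 0 < E k := by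
    have := hsplit m hm hmne
    rcases lt_trichotomy (E (ct m)) 0 with h | h | h
    · exact ⟨cf m, (hctne m hm).2, by nlinarith⟩
    · rw [h, zero_mul] at this; exact absurd this (lt_irrefl 0)
    · exact ⟨ct m, (hctne m hm).1, h⟩
  have hkj : k ≠ j := fun h => by rw [h] at hkpos; linarith
  have hEz : ∀ o, o ≠ o₀ → o ≠ k → o ≠ j → E o = 0 := by
    intro o ho h1 h2
    rcases lt_trichotomy (E o) 0 with h | h | h
    · exact absurd (huneg o ho h) h2
    · exact h
    · exact absurd (hupos o k ho hk0 h hkpos) h1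
  have hM : ∀ z, z ≠ 0 → ct z ≠ cf z → w k z = 1 ∧ w j z = 1 ∧
      ∀ o, o ≠ k → o ≠ j → w o z = 0 := by
    intro z hz hne
    have hlt := hsplit z hz hne
    have hpair : (ct z = k ∧ cf z = j) ∨ (ct z = j ∧ cf z = k) := by
      rcases lt_trichotomy (E (ct z)) 0 with h | h | h
      · exact Or.inr ⟨huneg _ (hctne z hz).1 h, hupos _ k (hctne z hz).2 hk0 (by nlinarith) hkpos⟩
      · rw [h, zero_mul] at hlt; exact absurd hlt (lt_irrefl 0)
      · exact Or.inl ⟨hupos _ k (hctne z hz).1 hk0 h hkpos, huneg _ (hctne z hz).2 (by nlinarith)⟩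
    rcases hpair with ⟨e1, e2⟩ | ⟨e1, e2⟩
    · refine ⟨?_, ?_, fun o h1 h2 => ?_⟩ <;> rw [hw _ _ hz, e1, e2]
      · rw [if_pos rfl, if_neg (Ne.symm hkj)]; norm_num
      · rw [if_neg hkj, if_pos rfl]; norm_num
      · rw [if_neg (Ne.symm h1), if_neg (Ne.symm h2)]; norm_num
    · refine ⟨?_, ?_, fun o h1 h2 => ?_⟩ <;> rw [hw _ _ hz, e1, e2]
      · rw [if_neg (Ne.symm hkj), if_pos rfl]; norm_num
      · rw [if_pos rfl, if_neg hkj]; norm_num
      · rw [if_neg (Ne.symm h2), if_neg (Ne.symm h1)]; norm_num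
  -- `k` and `j` occur only at the mixed places
  have hexcl : ∀ z, z ≠ 0 → ct z = cf z → ct z ≠ k ∧ ct z ≠ j := by
    intro z hz heq
    by_contra hh
    refine hnot (hindep fun c hc => ?_)
    have hnotkj : ∀ o, o ≠ o₀ → o ≠ k → o ≠ j → c o = 0 := by
      intro o ho h1 h2
      obtain ⟨y, hy, h⟩ := hsupp o ho
      have heqy : ct y = cf y := by
        by_contra hne
        have := (hM y hy hne).2.2 o h1 h2
        rw [hw o y hy] at this
        rcases h with h | h <;> rw [if_pos h] at this <;> split_ifs at this <;> omega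
      refine hsame y hy o ?_ heqy c (hc y)
      rcases h with h | h
      · exact h.symm
      · rw [heqy, h]
    have hsumm : c k + c j = 0 := by
      obtain ⟨e1, e2, e3⟩ := hM m hm hmne
      have h := hc m
      rw [← Finset.sum_subset (Finset.subset_univ ({k, j} : Finset _)) (fun o _ ho => by
        simp only [Finset.mem_insert, Finset.mem_singleton, not_or] at ho
        rw [e3 o ho.1 ho.2, mul_zero]), Finset.sum_pair hkj, e1, e2, mul_one, mul_one] at h
      exact h
    have hcz := hsame z hz (ct z) rfl heq c (hc z)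
    have hk' : c k = 0 ∧ c j = 0 := by
      by_cases h : ct z = k
      · rw [h] at hcz; exact ⟨hcz, by linarith⟩
      · have h' : ct z = j := by
          by_contra h'
          exact hh ⟨h, h'⟩
        rw [h'] at hcz; exact ⟨by linarith, hcz⟩
    have hc' : ∀ o, o ≠ o₀ → c o = 0 := by
      intro o ho
      by_cases h1 : o = k
      · rw [h1]; exact hk'.1
      by_cases h2 : o = j
      · rw [h2]; exact hk'.2
      exact hnotkj o ho h1 h2
    intro o
    by_cases ho : o = o₀
    · subst ho
      have h := hc 0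
      rw [Finset.sum_eq_single o₀ (fun o' _ hne => by rw [hc' o' hne, zero_mul]) (by simp)] at h
      have h0 : w o₀ 0 = 1 := by
        have hone : adj (G := G) o₀ = 1 := by
          ext a b
          simp only [adj, Matrix.of_apply, Matrix.one_apply]
          exact if_congr cls_eq_diag_iff rfl rfl
        show (theta F (adj o₀)).coeff 0 = 1
        rw [hone, theta_one, AddMonoidAlgebra.one_def, AddMonoidAlgebra.coeff_single,
          Finsupp.single_eq_same]
      rw [h0, mul_one] at h
      exact h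
    · exact hc' o ho
  -- the class of mixed places and a translate of it
  obtain ⟨n, hn, hneq⟩ : ∃ n, n ≠ 0 ∧ ct n = cf n := by
    by_contra hh
    simp only [not_exists, not_and] at hh
    apply hnot
    intro z hz o
    obtain ⟨a1, a2, a3⟩ := hM z hz (hh z hz)
    obtain ⟨b1, b2, b3⟩ := hM 1 hS1 (hh 1 hS1)
    by_cases h1 : o = k
    · rw [h1, a1, b1]
    by_cases h2 : o = j
    · rw [h2, a2, b2]
    rw [a3 o h1 h2, b3 o h1 h2]
  let Msets : Finset (ZMod p) := S.filter fun z => ct z ≠ cf z
  have hMmem : ∀ z, z ∈ Msets ↔ z ≠ 0 ∧ ct z ≠ cf z := by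
    intro z; simp [Msets, S]
  have hsameclass : ∀ u u', u ≠ 0 → u' ≠ 0 → ct u ≠ cf u →
      ((∀ o, w o u = w o u') ↔ ct u' ≠ cf u') := by
    intro u u' hu hu' hne
    constructor
    · intro h heq
      have h1 := (hM u hu hne).1
      rw [h k, hw k u' hu', heq] at h1
      split_ifs at h1 <;> omega
    · intro h o
      obtain ⟨a1, a2, a3⟩ := hM u hu hne
      obtain ⟨b1, b2, b3⟩ := hM u' hu' h
      by_cases h1 : o = k
      · rw [h1, a1, b1]
      by_cases h2 : o = j
      · rw [h2, a2, b2]
      rw [a3 o h1 h2, b3 o h1 h2]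
  set γ := n / m with hγ
  have hγ0 : γ ≠ 0 := div_ne_zero hn hm
  have hγm : γ * m = n := div_mul_cancel₀ n hm
  set l := ct n with hl
  have hl0 : l ≠ o₀ := (hctne n hn).1
  have hlk : l ≠ k ∧ l ≠ j := hexcl n hn hneq
  set n' := γ⁻¹ * m with hn'
  have hn'0 : n' ≠ 0 := mul_ne_zero (inv_ne_zero hγ0) hm
  have hn'eq : ct n' = cf n' := by
    by_contra hne
    have h := fun o => multiplier F hblock hm hn'0 ((hsameclass m n' hm hn'0 hmne).2 hne) hγ0 o
    have e : γ * n' = m := mul_inv_cancel_left₀ hγ0 m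
    rw [hγm, e] at h
    exact (hsameclass m n hm hn hmne).1 (fun o => (h o).symm) hneq
  set l' := ct n' with hl'
  have hl'0 : l' ≠ o₀ := (hctne n' hn'0).1
  have hl'k : l' ≠ k ∧ l' ≠ j := hexcl n' hn'0 hn'eq
  -- coefficient vectors
  have hwk : ∀ z, z ≠ 0 → w k z = if z ∈ Msets then 1 else 0 := by
    intro z hz
    by_cases hne : ct z ≠ cf z
    · rw [if_pos ((hMmem z).2 ⟨hz, hne⟩), (hM z hz hne).1]
    · rw [not_not] at hne
      rw [if_neg (fun h => ((hMmem z).1 h).2 hne), hw k z hz, if_neg (hexcl z hz hne).1,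
        if_neg (hne ▸ (hexcl z hz hne).1), add_zero]
  have hwl : ∀ (o : MulAction.orbitRel.Quotient G (α × α)), o ≠ k → o ≠ j → ∀ (y : ZMod p), y ≠ 0 →
      ct y = o → ct y = cf y → ∀ z, z ≠ 0 →
      ∀ δ : ZMod p, δ ≠ 0 → δ * m = y →
      w o z = if δ⁻¹ * z ∈ Msets then 2 else 0 := by
    intro o h1 h2 y hy hyo hyeq z hz δ hδ hδm
    have hδz : δ⁻¹ * z ≠ 0 := mul_ne_zero (inv_ne_zero hδ) hz
    by_cases hne : ct (δ⁻¹ * z) ≠ cf (δ⁻¹ * z)
    · rw [if_pos ((hMmem _).2 ⟨hδz, hne⟩)]
      have h := multiplier F hblock hm hδz ((hsameclass m _ hm hδz hmne).2 hne) hδ o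
      rw [hδm, mul_inv_cancel_left₀ hδ] at h
      show (theta F (adj o)).coeff z = 2
      rw [← h]
      show w o y = 2
      rw [hw o y hy, if_pos hyo, if_pos (hyeq ▸ hyo)]
      norm_num
    · rw [if_neg (fun h => hne ((hMmem _).1 h).2)]
      by_contra hz2
      have hzo : ct z = o ∨ cf z = o := by
        by_contra hh
        rw [not_or] at hh
        exact hz2 (by rw [hw o z hz, if_neg hh.1, if_neg hh.2, add_zero])
      have hzeq : ct z = cf z := by
        by_contra hne'
        exact hz2 ((hM z hz hne').2.2 o h1 h2)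
      have hzo' : ct z = o := by
        rcases hzo with h | h
        · exact h
        · rw [hzeq, h]
      have hall : ∀ o', w o' y = w o' z := fun o' => by
        rw [hw o' y hy, hw o' z hz, ← hyeq, ← hzeq, hyo, hzo']
      have h := fun o' => multiplier F hblock hy hz hall (inv_ne_zero hδ) o'
      have e : δ⁻¹ * y = m := by rw [← hδm, inv_mul_cancel_left₀ hδ]
      rw [e] at h
      exact hne ((hsameclass m _ hm hδz hmne).1 h)
  obtain ⟨a, ha⟩ : ∃ a : ℕ, E k = a := ⟨(E k).toNat, (Int.toNat_of_nonneg hkpos.le).symm⟩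
  have hEj : E j = -(a : ℤ) - 1 := by
    have hset : ∑ o ∈ Finset.univ.erase o₀, E o = E k + E j := by
      rw [← Finset.sum_subset (s₁ := {k, j}) (by
        intro o ho
        simp only [Finset.mem_insert, Finset.mem_singleton] at ho
        rcases ho with rfl | rfl <;> exact Finset.mem_erase.2 ⟨by assumption, Finset.mem_univ _⟩)
        (fun o ho hno => by
          simp only [Finset.mem_insert, Finset.mem_singleton, not_or] at hno
          exact hEz o (Finset.ne_of_mem_erase ho) hno.1 hno.2), Finset.sum_pair hkj]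
    rw [hset, ha] at hsumE
    linarith
  have hMcard : (Msets.card : ℤ) = 2 * a * (a + 1) := by
    have h := horth k j hk0 hj0
    rw [if_neg hkj, ha, hEj] at h
    have hs : ∑ z ∈ S, w k z * w j z = (Msets.card : ℤ) := by
      have : ∀ z ∈ S, w k z * w j z = if z ∈ Msets then (1 : ℤ) else 0 := by
        intro z hz
        have hz' := Finset.ne_of_mem_erase hz
        rw [hwk z hz']
        split_ifs with h'
        · rw [(hM z hz' ((hMmem z).1 h').2).2.1]; norm_num
        · norm_num
      rw [Finset.sum_congr rfl this, Finset.sum_boole]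
      congr 2
      ext z
      simp [hMmem, S]
    rw [hs] at h
    linarith
  have hneg : ∀ z, z ∈ Msets → -z ∈ Msets := by
    intro z hz
    obtain ⟨hz0, hne⟩ := (hMmem z).1 hz
    -- the transpose of `k` is `k`
    obtain ⟨⟨u, v⟩, huv⟩ := Quotient.exists_rep k
    have hkT : (adj k)ᵀ = adj (G := G) (cls v u) := by
      ext x y
      simp only [Matrix.transpose_apply, adj, Matrix.of_apply]
      refine if_congr ?_ rfl rfl
      rw [← huv]
      show cls y x = cls u v ↔ cls x y = cls v u
      rw [cls_eq_iff, cls_eq_iff]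
      exact ⟨fun ⟨g, e1, e2⟩ => ⟨g, e2, e1⟩, fun ⟨g, e1, e2⟩ => ⟨g, e2, e1⟩⟩
    have hE' : E (cls v u) = E k := by
      show ev F (adj (cls v u)) = ev F (adj k)
      rw [← hkT, ev_transpose F (adj_mem k)]
    have hv0 : cls v u ≠ o₀ := fun h => hk0 (by
      rw [← huv]; exact cls_eq_diag_iff.2 (cls_eq_diag_iff.1 h).symm)
    have hkk : cls v u = k := hupos _ k hv0 hk0 (hE' ▸ hkpos) hkpos
    have h := theta_transpose_coeff F (adj_mem k) (-z) (neg_ne_zero.2 hz0)
    rw [hkT, hkk, neg_neg] at h
    have h1 : w k (-z) = 1 := h.trans (hM z hz0 hne).1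
    rw [hwk _ (neg_ne_zero.2 hz0)] at h1
    by_contra hh
    rw [if_neg hh] at h1
    exact zero_ne_one h1
  -- indicators
  let eM : AddMonoidAlgebra ℤ (ZMod p) := ofFun fun z => if z ∈ Msets then 1 else 0
  have hTk : theta F (adj k) = eM - AddMonoidAlgebra.single 0 (a : ℤ) := by
    refine ext_coeff fun z => ?_
    rw [AddMonoidAlgebra.coeff_sub, Finsupp.sub_apply, coeff_ofFun, AddMonoidAlgebra.coeff_single]
    by_cases hz : z = 0
    · subst hz
      rw [if_neg (fun h => ((hMmem 0).1 h).1 rfl), Finsupp.single_eq_same, zero_sub, ← ha]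
      exact hz0 k hk0
    · rw [Finsupp.single_eq_of_ne hz, sub_zero]
      exact hwk z hz
  have hTl : ∀ (o : MulAction.orbitRel.Quotient G (α × α)), o ≠ o₀ → o ≠ k → o ≠ j →
      ∀ (y : ZMod p), y ≠ 0 → ct y = o → ct y = cf y → ∀ δ : ZMod p, δ ≠ 0 → δ * m = y →
      theta F (adj o) = ofFun fun z => if δ⁻¹ * z ∈ Msets then 2 else 0 := by
    intro o h0 h1 h2 y hy hyo hyeq δ hδ hδm
    refine ext_coeff fun z => ?_
    rw [coeff_ofFun]
    by_cases hz : z = 0
    · subst hz
      rw [mul_zero, if_neg (fun h => ((hMmem 0).1 h).1 rfl)]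
      show w o 0 = 0
      rw [hz0 o h0, hEz o h0 h1 h2, neg_zero]
    · exact hwl o h1 h2 y hy hyo hyeq z hz δ hδ hδm
  have hTl' := hTl l' hl'0 hl'k.1 hl'k.2 n' hn'0 rfl hn'eq γ⁻¹ (inv_ne_zero hγ0) rfl
  have hTll := hTl l hl0 hlk.1 hlk.2 n hn rfl hneq γ hγ0 hγm
  rw [inv_inv] at hTl'
  -- values of an invariant matrix at the classes
  have hat_m : ∀ {M : Matrix α α ℤ}, M ∈ inv G α → ∃ ck cj : ℤ,
      (∀ z ∈ Msets, (theta F M).coeff z = ck + cj) ∧
      ev F M = M a₀ a₀ + (a : ℤ) * ck - ((a : ℤ) + 1) * cj ∧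
      (∀ z, z ≠ 0 → (γ * z) ∈ Msets → (theta F M).coeff z = (theta F M).coeff n') := by
    intro M hM'
    obtain ⟨c, hc, -, hT, hE⟩ := expand F hM'
    refine ⟨c k, c j, fun z hz => ?_, ?_, fun z hz hzM => ?_⟩
    · obtain ⟨hz0', hne⟩ := (hMmem z).1 hz
      obtain ⟨e1, e2, e3⟩ := hM z hz0' hne
      rw [hT, ← Finset.sum_subset (Finset.subset_univ ({k, j} : Finset _)) (fun o _ ho => by
        simp only [Finset.mem_insert, Finset.mem_singleton, not_or] at ho
        show c o * w o z = 0
        rw [e3 o ho.1 ho.2, mul_zero]), Finset.sum_pair hkj]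
      show c k * w k z + c j * w j z = _
      rw [e1, e2, mul_one, mul_one]
    · rw [hE, ← Finset.add_sum_erase _ _ (Finset.mem_univ o₀),
        ← Finset.sum_subset (s₁ := {k, j}) (by
        intro o ho
        simp only [Finset.mem_insert, Finset.mem_singleton] at ho
        rcases ho with rfl | rfl <;> exact Finset.mem_erase.2 ⟨by assumption, Finset.mem_univ _⟩)
        (fun o ho hno => by
          simp only [Finset.mem_insert, Finset.mem_singleton, not_or] at hno
          show c o * E o = 0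
          rw [hEz o (Finset.ne_of_mem_erase ho) hno.1 hno.2, mul_zero]), Finset.sum_pair hkj,
        hc a₀ a₀]
      show M a₀ a₀ * ev F (adj o₀) + (c k * E k + c j * E j) = _
      have hone : adj (G := G) o₀ = 1 := by
        ext x y
        simp only [adj, Matrix.of_apply, Matrix.one_apply]
        exact if_congr cls_eq_diag_iff rfl rfl
      rw [hone, ev_one, ha, hEj]
      ring
    · obtain ⟨-, hne⟩ := (hMmem _).1 hzM
      have h := fun o => multiplier F hblock hm (mul_ne_zero hγ0 hz)
        ((hsameclass m _ hm (mul_ne_zero hγ0 hz) hmne).2 hne) (inv_ne_zero hγ0) o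
      simp only [inv_mul_cancel_left₀ hγ0] at h
      rw [hT, hT]
      exact Finset.sum_congr rfl fun o _ => by
        show c o * w o z = c o * w o n'
        rw [show w o z = w o n' from (h o).symm]
  -- first product
  let eL : AddMonoidAlgebra ℤ (ZMod p) := ofFun fun z => if γ * z ∈ Msets then 1 else 0
  have hl'T : theta F (adj l') = 2 • eL := by
    rw [hTl']
    refine ext_coeff fun z => ?_
    rw [two_nsmul, AddMonoidAlgebra.coeff_add, Finsupp.add_apply, coeff_ofFun, coeff_ofFun]
    split_ifs <;> norm_num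
  obtain ⟨ck, cj, hv1, hev1, -⟩ := hat_m ((inv G α).mul_mem (adj_mem k) (adj_mem l'))
  obtain ⟨-, -, -, -, hv1L⟩ := hat_m ((inv G α).mul_mem (adj_mem k) (adj_mem k))
  obtain ⟨dk, dj, hv2, hev2, -⟩ := hat_m ((inv G α).mul_mem (adj_mem l) (adj_mem l))
  have hMm : m ∈ Msets := (hMmem m).2 ⟨hm, hmne⟩
  set N : ℤ := (eM * eL).coeff m with hN
  have hN1 : ∀ z ∈ Msets, (eM * eL).coeff z = N := by
    intro z hz
    have key : ∀ y ∈ Msets,
        (theta F (adj k * adj l')).coeff y = 2 * (eM * eL).coeff y := by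
      intro y hy
      rw [theta_mul F hblock (adj_mem k) (adj_mem l'), hTk, hl'T, mul_smul_comm, sub_mul,
        two_nsmul, AddMonoidAlgebra.coeff_add, Finsupp.add_apply, AddMonoidAlgebra.coeff_sub,
        Finsupp.sub_apply, AddMonoidAlgebra.coeff_single_zero_mul]
      have : eL.coeff y = 0 := by
        rw [coeff_ofFun, if_neg]
        intro h
        obtain ⟨hy0, hyne⟩ := (hMmem y).1 hy
        obtain ⟨hgy0, hgne⟩ := (hMmem _).1 h
        have h' := fun o => multiplier F hblock hm hy0 ((hsameclass m y hm hy0 hmne).2 hyne) hγ0 o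
        rw [hγm] at h'
        exact (hsameclass (γ * y) n hgy0 hn hgne).1 (fun o => (h' o).symm) hneq
      rw [this]; ring
    have h1 := key z hz
    have h2 := key m hMm
    rw [hv1 z hz] at h1
    rw [hv1 m hMm] at h2
    linarith
  have h1 : (2 : ℤ) * N = ck + cj := by
    have := hv1 m hMm
    rw [theta_mul F hblock (adj_mem k) (adj_mem l'), hTk, hl'T, mul_smul_comm, sub_mul,
      two_nsmul, AddMonoidAlgebra.coeff_add, Finsupp.add_apply, AddMonoidAlgebra.coeff_sub,
      Finsupp.sub_apply, AddMonoidAlgebra.coeff_single_zero_mul] at this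
    have h0 : eL.coeff m = 0 := by
      rw [coeff_ofFun, if_neg]
      rw [hγm]
      exact fun h => ((hMmem n).1 h).2 hneq
    rw [h0] at this
    linarith
  have h1e : (a : ℤ) * ck = ((a : ℤ) + 1) * cj := by
    have h := hev1
    rw [ev_mul F (adj_mem k) (adj_mem l'),
      show ev F (adj l') = 0 from hEz l' hl'0 hl'k.1 hl'k.2, mul_zero] at h
    have hd : (adj k * adj l') a₀ a₀ = (0 : ℤ) := by
      rw [Matrix.mul_apply]
      refine Finset.sum_eq_zero fun y _ => ?_
      obtain ⟨⟨u, v⟩, huv⟩ := Quotient.exists_rep k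
      by_contra hne
      simp only [adj, Matrix.of_apply, mul_eq_zero, not_or, ite_eq_right_iff, one_ne_zero,
        imp_false, not_not] at hne
      -- then the transpose of `k` would be `l'`
      have hkT : (adj k)ᵀ = adj (G := G) l' := by
        rw [← hne.1, ← hne.2]
        ext x z
        simp only [Matrix.transpose_apply, adj, Matrix.of_apply]
        refine if_congr ?_ rfl rfl
        rw [cls_eq_iff, cls_eq_iff]
        exact ⟨fun ⟨g, e1, e2⟩ => ⟨g, e2, e1⟩, fun ⟨g, e1, e2⟩ => ⟨g, e2, e1⟩⟩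
      have := ev_transpose F (adj_mem k (G := G))
      rw [hkT, show ev F (adj l') = 0 from hEz l' hl'0 hl'k.1 hl'k.2] at this
      rw [show ev F (adj k) = (a : ℤ) from ha] at this
      rw [ha] at hkpos
      omega
    rw [hd] at h
    linarith
  -- the two counts agree
  have hsymcount : (eM * eM).coeff n' = N := by
    have hconstL : ∀ z, γ * z ∈ Msets → (eM * eM).coeff z = (eM * eM).coeff n' := by
      intro z hz
      have hz' : z ≠ 0 := fun h => ((hMmem _).1 hz).1 (by rw [h, mul_zero])
      have key : ∀ y, γ * y ∈ Msets → y ≠ 0 →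
          (theta F (adj k * adj k)).coeff y = (eM * eM).coeff y := by
        intro y hy hy0
        have hyM : eM.coeff y = 0 := by
          rw [coeff_ofFun, if_neg]
          intro h
          obtain ⟨-, hyne⟩ := (hMmem y).1 h
          obtain ⟨hgy0, hgne⟩ := (hMmem _).1 hy
          have h' := fun o => multiplier F hblock hm hy0 ((hsameclass m y hm hy0 hmne).2 hyne) hγ0 o
          rw [hγm] at h'
          exact (hsameclass (γ * y) n hgy0 hn hgne).1 (fun o => (h' o).symm) hneq
        rw [theta_mul F hblock (adj_mem k) (adj_mem k), hTk, sub_mul, mul_sub,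
          AddMonoidAlgebra.coeff_sub, Finsupp.sub_apply, AddMonoidAlgebra.coeff_sub,
          Finsupp.sub_apply, AddMonoidAlgebra.coeff_single_zero_mul,
          mul_comm eM (AddMonoidAlgebra.single 0 (a : ℤ)),
          AddMonoidAlgebra.coeff_single_zero_mul, hyM, AddMonoidAlgebra.coeff_sub,
          Finsupp.sub_apply, hyM, AddMonoidAlgebra.coeff_single, Finsupp.single_eq_of_ne hy0]
        ring
      have hn'M : γ * n' ∈ Msets := by rw [mul_inv_cancel_left₀ hγ0]; exact hMm
      rw [← key z hz hz', ← key n' hn'M hn'0]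
      exact hv1L z hz' hz
    -- compare the coefficient at zero of the triple product
    have hA : (eM * eL * eM).coeff 0 = N * Msets.card := by
      rw [coeff_mul', ← Finset.sum_subset (Finset.subset_univ Msets)]
      · rw [Finset.sum_congr rfl (g := fun _ => N) ?_, Finset.sum_const, nsmul_eq_mul, mul_comm]
        intro z hz
        rw [hN1 z hz, zero_sub, coeff_ofFun, if_pos (hneg z hz), mul_one]
      · intro z _ hz
        rw [zero_sub, coeff_ofFun, if_neg, mul_zero]
        intro h
        exact hz (by have := hneg _ h; rwa [neg_neg] at this)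
    have hB : (eM * eM * eL).coeff 0 = (eM * eM).coeff n' * Msets.card := by
      rw [coeff_mul', ← Finset.sum_subset (Finset.subset_univ (Msets.image fun y => γ⁻¹ * y))]
      · rw [Finset.sum_congr rfl (g := fun _ => (eM * eM).coeff n') ?_, Finset.sum_const,
          Finset.card_image_of_injective _ (mul_right_injective₀ (inv_ne_zero hγ0)), nsmul_eq_mul,
          mul_comm]
        intro z hz
        obtain ⟨y, hy, rfl⟩ := Finset.mem_image.1 hz
        have hyy : γ * (γ⁻¹ * y) ∈ Msets := by rwa [mul_inv_cancel_left₀ hγ0]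
        rw [hconstL _ hyy, zero_sub, coeff_ofFun, if_pos, mul_one]
        rw [mul_neg, mul_inv_cancel_left₀ hγ0]
        exact hneg y hy
      · intro z _ hz
        rw [zero_sub, coeff_ofFun, if_neg, mul_zero]
        intro h
        apply hz
        rw [mul_neg] at h
        have := hneg _ h
        rw [neg_neg] at this
        exact Finset.mem_image.2 ⟨γ * z, this, inv_mul_cancel_left₀ hγ0 z⟩
    rw [mul_right_comm] at hA
    rw [hA] at hB
    have hc0 : (Msets.card : ℤ) ≠ 0 := by exact_mod_cast (Finset.card_pos.2 ⟨m, hMm⟩).ne'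
    exact (mul_right_cancel₀ hc0 hB).symm
  -- second product
  have h2 : 4 * N = dk + dj := by
    have h := hv2 m hMm
    rw [theta_mul F hblock (adj_mem l) (adj_mem l), hTll, coeff_mul'] at h
    rw [← h, ← hsymcount, coeff_mul', Finset.mul_sum]
    refine Fintype.sum_equiv (Equiv.mulLeft₀ γ hγ0) _ _ fun y => ?_
    simp only [Equiv.mulLeft₀_apply, coeff_ofFun, eM]
    have e1 : γ⁻¹ * (γ * y) = y := inv_mul_cancel_left₀ hγ0 y
    have e2 : γ⁻¹ * (m - γ * y) = n' - y := by rw [mul_sub, e1, hn']
    rw [e1, e2]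
    split_ifs <;> norm_num
  have h2e : (0 : ℤ) = 4 * a * (a + 1) + a * dk - (a + 1) * dj := by
    have h := hev2
    rw [ev_mul F (adj_mem l) (adj_mem l), show ev F (adj l) = 0 from hEz l hl0 hlk.1 hlk.2,
      mul_zero] at h
    have hd : (adj l * adj l) a₀ a₀ = 4 * (a : ℤ) * (a + 1) := by
      have h0 := theta_zero_add_ev F ((inv G α).mul_mem (adj_mem l) (adj_mem l)) a₀
      rw [ev_mul F (adj_mem l) (adj_mem l), show ev F (adj l) = 0 from hEz l hl0 hlk.1 hlk.2,
        mul_zero, add_zero, theta_mul F hblock (adj_mem l) (adj_mem l), hTll, coeff_mul'] at h0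
      have hs : (4 : ℤ) * Msets.card = 2 * (adj l * adj l) a₀ a₀ := by
        rw [← h0]
        rw [← Finset.sum_subset (Finset.subset_univ (Msets.image fun y => γ * y))]
        · rw [Finset.sum_congr rfl (g := fun _ => (4 : ℤ)) ?_, Finset.sum_const,
            Finset.card_image_of_injective _ (mul_right_injective₀ hγ0), nsmul_eq_mul, mul_comm]
          intro z hz
          obtain ⟨y, hy, rfl⟩ := Finset.mem_image.1 hz
          rw [coeff_ofFun, coeff_ofFun, inv_mul_cancel_left₀ hγ0, if_pos hy, zero_sub, mul_neg,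
            inv_mul_cancel_left₀ hγ0, if_pos (hneg y hy)]
          norm_num
        · intro z _ hz
          rw [coeff_ofFun, if_neg, zero_mul]
          intro h'
          exact hz (Finset.mem_image.2 ⟨γ⁻¹ * z, h', mul_inv_cancel_left₀ hγ0 z⟩)
      rw [hMcard] at hs
      linarith
    rw [hd] at h
    linarith
  -- the congruence
  have hc : (2 * (a : ℤ) + 1) * (dj - 2 * cj - (2 * a + 1)) = -1 := by
    linear_combination (a : ℤ) * (-h2) + 2 * (a : ℤ) * h1 + h2e + 2 * h1e
  have hdvd : (2 * (a : ℤ) + 1) ∣ 1 := ⟨-(dj - 2 * cj - (2 * a + 1)), by linarith⟩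
  have := Int.le_of_dvd one_pos hdvd
  rw [ha] at hkpos
  linarith

end CfsgLib.Perm.TwoPrime
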